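import Cfsg.Agent.Mrg.Omega.NO1.HE.Base
import Cfsg.Agent.MinSimple.VModule
import Cfsg.Agent.Lib.NormalAbelian

section


/-!
# THEOREM ALPHA (text #18722, helper446): members, the class, minimal pairs (N1-ONE)

`Y` acts on `V`.  A member is a subgroup `B` of `Y`; `F_B = FX V B = C_V(B)`, `E_B = EX V B = {v : [v,B] ≤ F_B}`.

* `Mem V q B` : the flat axioms with `N = 1`, `|V / E_B| = q`;
* `Cls V q UU` : a class of members; `K1` (field) and SOC;
* `Pair V UU A C L` : a minimal pair of type I.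
-/

set_option autoImplicit false
set_option linter.unusedSectionVars false

namespace Cfsg.Agent.Omega.NO1.Alpha

open Subgroup Cfsg.Agent.ZN
open Cfsg.Agent.Omega.NO1.HE (dl dl_apply dl_one dl_eq_zero dl_comm dl_mul dl_self smul_eq add_eq_zero' mem_conj)
open scoped Pointwise

universe u

variable {Y : Type u} [Group Y] (V : Type u) [AddCommGroup V] [DistribMulAction Y V]

/-- `C_V(B)` -/
def FX (B : Subgroup Y) : AddSubgroup V where
  carrier := {v | ∀ b ∈ B, b • v = v}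
  zero_mem' := fun _ _ => smul_zero _
  add_mem' := fun {v w} hv hw b hb => by rw [smul_add, hv b hb, hw b hb]
  neg_mem' := fun {v} hv b hb => by rw [smul_neg, hv b hb]

variable {V}

theorem mem_FX {B : Subgroup Y} {v : V} : v ∈ FX V B ↔ ∀ b ∈ B, b • v = v := Iff.rfl

variable (V)

/-- `{v : [v,B] ≤ C_V(B)}` -/
def EX (B : Subgroup Y) : AddSubgroup V where
  carrier := {v | ∀ b ∈ B, dl b v ∈ FX V B}
  zero_mem' := fun b _ => by rw [map_zero]; exact (FX V B).zero_mem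
  add_mem' := fun {v w} hv hw b hb => by rw [map_add]; exact (FX V B).add_mem (hv b hb) (hw b hb)
  neg_mem' := fun {v} hv b hb => by rw [map_neg]; exact (FX V B).neg_mem (hv b hb)

variable {V}

theorem mem_EX {B : Subgroup Y} {v : V} : v ∈ EX V B ↔ ∀ b ∈ B, dl b v ∈ FX V B := Iff.rfl

variable (V)

/-- A flat member. -/
structure Mem (q : ℕ) (B : Subgroup Y) : Prop where
  comm : ∀ b ∈ B, ∀ c ∈ B, b * c = c * b
  sq : ∀ b ∈ B, b * b = 1
  VB : ∀ b ∈ B, ∀ v : V, dl b v ∈ EX V B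
  inj : ∀ w, w ∉ EX V B → ∀ b ∈ B, dl b w ∈ FX V B → b = 1
  surj : ∀ w, w ∉ EX V B → ∀ e ∈ EX V B, ∃ b ∈ B, dl b w + e ∈ FX V B
  ind : (EX V B).index = q
  ne : ∃ v, v ∉ EX V B
  ne' : ∃ e ∈ EX V B, e ∉ FX V B

/-- The class of members.  `sc` : `F_q s_x`; `soc` : LEMMA SOC. -/
structure Cls (q : ℕ) (UU : Set (Subgroup Y)) : Prop where
  two : ∀ v : V, v + v = 0
  faith : ∀ y : Y, (∀ v : V, y • v = v) → y = 1
  mem : ∀ B ∈ UU, Mem V q B
  conj : ∀ B ∈ UU, ∀ y : Y, MulAut.conj y • B ∈ UU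
  sc : ∀ B ∈ UU, ∀ x ∈ EX V B, x ∉ FX V B → ∃ A : Subgroup Y, A ≤ B ∧ Nat.card A = q ∧
    (∀ s ∈ A, s ≠ 1 → ∃ w, w ∉ EX V B ∧ dl s w + x ∈ FX V B) ∧ ∀ s ∈ A, ∀ t ∈ A, ∀ v : V, dl s (dl t v) = 0
  soc : ∀ B ∈ UU, ∀ H : Subgroup Y, B ≤ H → (∃ v : V, v ≠ 0 ∧ ∀ h ∈ H, h • v = v) → B ⊓ o2 H ≠ ⊥

variable {V}

/-- A minimal pair of type I. -/
structure Pair (UU : Set (Subgroup Y)) (A C L : Subgroup Y) : Prop where
  A_mem : A ∈ UU
  C_mem : C ∈ UU
  ne : A ≠ C
  gen : A ⊔ C = L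
  min : ∀ D ∈ UU, ∀ D' ∈ UU, D ≠ D' → D ⊔ D' ≤ L → D ⊔ D' = L
  one : ¬ (A ≤ normalizer (C : Set Y) ∧ C ≤ normalizer (A : Set Y))

/-! ### Basic facts -/

theorem smul_mem_FX {B : Subgroup Y} {g : Y} {v : V} : g • v ∈ FX V (MulAut.conj g • B) ↔ v ∈ FX V B := by
  constructor
  · intro h b hb
    have h1 := h (g * b * g⁻¹) (by rw [mem_conj]; simpa [mul_assoc] using hb)
    rw [mul_smul, mul_smul, inv_smul_smul] at h1
    exact smul_left_cancel _ h1
  · intro h b hb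
    rw [mem_conj] at hb
    have h1 := h _ hb
    rw [mul_smul, mul_smul, inv_smul_eq_iff] at h1
    exact h1

theorem dl_conj (g b : Y) (v : V) : dl (g * b * g⁻¹) (g • v) = g • dl b v := by
  rw [dl_apply, dl_apply, smul_add, mul_smul, mul_smul, inv_smul_smul]

theorem smul_mem_EX {B : Subgroup Y} {g : Y} {v : V} : g • v ∈ EX V (MulAut.conj g • B) ↔ v ∈ EX V B := by
  constructor
  · intro h b hb
    have h1 := h (g * b * g⁻¹) (by rw [mem_conj]; simpa [mul_assoc] using hb)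
    rw [dl_conj, smul_mem_FX] at h1
    exact h1
  · intro h b hb
    have h1 := h _ (mem_conj.1 hb)
    rw [← smul_mem_FX (g := g), ← dl_conj] at h1
    have e : g * (g⁻¹ * b * g) * g⁻¹ = b := by group
    rwa [e] at h1

theorem conj_eq_iff {B : Subgroup Y} {g : Y} : MulAut.conj g • B = B ↔ g ∈ normalizer (B : Set Y) := by
  constructor
  · intro h
    rw [mem_normalizer_iff]
    intro y
    constructor
    · intro hy
      rw [← h, mem_conj]
      simpa [mul_assoc] using hy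
    · intro hy
      rw [← h, mem_conj] at hy
      simpa [mul_assoc] using hy
  · intro h
    ext y
    rw [mem_conj]
    have h1 := mem_normalizer_iff.1 (inv_mem h) y
    rw [inv_inv] at h1
    exact h1.symm

theorem smul_FX_of {B : Subgroup Y} {g : Y} (hg : g ∈ normalizer (B : Set Y)) {v : V} (hv : v ∈ FX V B) :
    g • v ∈ FX V B := by
  have h1 := smul_mem_FX (g := g).2 hv
  rwa [conj_eq_iff.2 hg] at h1

theorem smul_EX_of {B : Subgroup Y} {g : Y} (hg : g ∈ normalizer (B : Set Y)) {v : V} (hv : v ∈ EX V B) :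
    g • v ∈ EX V B := by
  have h1 := smul_mem_EX (g := g).2 hv
  rwa [conj_eq_iff.2 hg] at h1

theorem FX_anti {B C : Subgroup Y} (h : B ≤ C) : FX V C ≤ FX V B := fun _ hv b hb => hv b (h hb)

theorem fix_sup {B C : Subgroup Y} {v : V} (hB : v ∈ FX V B) (hC : v ∈ FX V C) : v ∈ FX V (B ⊔ C) := by
  have h1 : B ⊔ C ≤ MulAction.stabilizer Y v := sup_le (fun b hb => hB b hb) (fun c hc => hC c hc)
  exact fun b hb => h1 hb

namespace Mem

variable {q : ℕ} {B : Subgroup Y}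

theorem FE (_ : Mem V q B) (h2 : ∀ v : V, v + v = 0) : FX V B ≤ EX V B := fun v hv b hb => by
  rw [(dl_eq_zero h2).2 (hv b hb)]
  exact (FX V B).zero_mem

theorem dlF (_ : Mem V q B) {b : Y} (hb : b ∈ B) {e : V} (he : e ∈ EX V B) : dl b e ∈ FX V B := he b hb

theorem dl0 (_ : Mem V q B) (h2 : ∀ v : V, v + v = 0) {b : Y} (hb : b ∈ B) {f : V} (hf : f ∈ FX V B) :
    dl b f = 0 := (dl_eq_zero h2).2 (hf b hb)

theorem mem_of_fix (h : Mem V q B) (h2 : ∀ v : V, v + v = 0) {b : Y} (hb : b ∈ B) (h1 : b ≠ 1) {v : V}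
    (hv : b • v = v) : v ∈ EX V B := by
  by_contra hvE
  refine h1 (h.inj v hvE b hb ?_)
  rw [(dl_eq_zero h2).2 hv]
  exact (FX V B).zero_mem

theorem two_pow (h : Mem V q B) : IsPGroup 2 B := fun b => ⟨1, by
  rw [pow_one, pow_two]; exact Subtype.ext (h.sq _ b.2)⟩

theorem inv_eq (h : Mem V q B) {b : Y} (hb : b ∈ B) : b⁻¹ = b :=
  inv_eq_of_mul_eq_one_right (h.sq b hb)

theorem le_normalizer (_ : Mem V q B) : B ≤ normalizer (B : Set Y) := Subgroup.le_normalizer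

theorem exists_ne_one (h : Mem V q B) : ∃ b ∈ B, b ≠ 1 := by
  obtain ⟨e, _, hf⟩ := h.ne'
  by_contra hcon
  push Not at hcon
  exact hf fun b hb => by rw [hcon b hb, one_smul]

end Mem

end Cfsg.Agent.Omega.NO1.Alpha

end

section


/-!
# THEOREM ALPHA (text #18722, helper446): (0), minimal pairs of type I
-/

set_option autoImplicit false
set_option linter.unusedSectionVars false

namespace Cfsg.Agent.Omega.NO1.Alpha

open Subgroup Cfsg.Agent.ZN
open Cfsg.Agent.Omega.NO1.HE (dl mem_conj mem_smul_sylow)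
open Cfsg.Agent.MinSimple.VModule (o2_isPGroup le_normalizer_o2 o2_le)
open scoped Pointwise

universe u

section frattini

variable {Z : Type u} [Group Z] [Finite Z]

/-- The normal core of the unique maximal subgroup over a Sylow 2-subgroup: its 2-elements lie in `O₂`. -/
theorem le_pCore_of_core {T : Sylow 2 Z} {Mx : Subgroup Z} (Mne : Mx ≠ ⊤)
    (max : ∀ K : Subgroup Z, (T : Subgroup Z) ≤ K → K ≠ ⊤ → K ≤ Mx) {R : Subgroup Z} (hR : IsPGroup 2 R)
    (hRK : R ≤ Mx.normalCore) : R ≤ pCore 2 Z := by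
  have : Fact (Nat.Prime 2) := ⟨Nat.prime_two⟩
  set K := Mx.normalCore with hK
  obtain ⟨Q, hQ⟩ := (hR.comap_of_injective _ K.subtype_injective : IsPGroup 2 (R.subgroupOf K)).exists_le_sylow
  have hF := Sylow.normalizer_sup_eq_top Q
  set Q' := (Q : Subgroup K).map K.subtype with hQ'
  have hRQ : R ≤ Q' := fun r hr => ⟨⟨r, hRK hr⟩, hQ (Subgroup.mem_subgroupOf.2 hr), rfl⟩
  have hQp : IsPGroup 2 Q' := Q.isPGroup'.map _
  obtain ⟨T', hT'⟩ := hQp.exists_le_sylow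
  obtain ⟨g, rfl⟩ := MulAction.exists_smul_eq Z T T'
  -- `Q' = T' ∩ K`
  have hTK : ((g • T : Sylow 2 Z) : Subgroup Z) ⊓ K ≤ Q' := by
    have h1 : IsPGroup 2 ((((g • T : Sylow 2 Z) : Subgroup Z) ⊓ K).subgroupOf K) :=
      ((g • T).isPGroup'.to_le inf_le_left).comap_of_injective _ K.subtype_injective
    have h2 : (Q : Subgroup K) ≤ (((g • T : Sylow 2 Z) : Subgroup Z) ⊓ K).subgroupOf K := by
      intro x hx
      rw [Subgroup.mem_subgroupOf]
      exact ⟨hT' ⟨x, hx, rfl⟩, x.2⟩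
    have h3 := Q.is_maximal' h1 h2
    rintro y ⟨hy1, hy2⟩
    refine ⟨⟨y, hy2⟩, ?_, rfl⟩
    rw [SetLike.mem_coe, ← h3, Subgroup.mem_subgroupOf]
    exact ⟨hy1, hy2⟩
  have hnorm : ((g • T : Sylow 2 Z) : Subgroup Z) ≤ normalizer (Q' : Set Z) := by
    intro t ht
    have key' : ∀ s ∈ ((g • T : Sylow 2 Z) : Subgroup Z), ∀ y ∈ Q', s * y * s⁻¹ ∈ Q' := by
      intro s hs y hy
      refine hTK ⟨Subgroup.mul_mem _ (Subgroup.mul_mem _ hs (hT' hy)) (Subgroup.inv_mem _ hs), ?_⟩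
      have hyK : y ∈ K := by
        obtain ⟨x, -, rfl⟩ := hy
        exact x.2
      exact (Subgroup.normalCore_normal Mx).conj_mem y hyK s
    rw [Subgroup.mem_normalizer_iff]
    intro y
    refine ⟨key' t ht y, fun h => ?_⟩
    have := key' t⁻¹ (inv_mem ht) _ h
    rwa [show t⁻¹ * (t * y * t⁻¹) * t⁻¹⁻¹ = y by group] at this
  have hconj : ∀ H : Subgroup Z, ((g • T : Sylow 2 Z) : Subgroup Z) ≤ H → H ≠ ⊤ → H ≤ MulAut.conj g • Mx := by
    intro H hH hH1
    have h1 : (T : Subgroup Z) ≤ MulAut.conj g⁻¹ • H := by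
      intro t ht
      rw [mem_conj, inv_inv]
      apply hH
      rw [Sylow.coe_subgroup_smul, mem_conj]
      rwa [show g⁻¹ * (g * t * g⁻¹) * g = t by group]
    have h2 : (MulAut.conj g⁻¹ • H : Subgroup Z) ≠ ⊤ := by
      intro h
      apply hH1
      apply Subgroup.eq_top_of_card_eq
      rw [Nat.card_congr (Subgroup.equivSMul (MulAut.conj g⁻¹) H).toEquiv, h, Subgroup.card_top]
    have h3 := max _ h1 h2
    intro y hy
    rw [mem_conj]
    apply h3
    rw [mem_conj, inv_inv]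
    rwa [show g * (g⁻¹ * y * g) * g⁻¹ = y by group]
  have hnn : normalizer (Q' : Set Z) = ⊤ := by
    by_contra hne
    have h1 := hconj _ hnorm hne
    have h2 : K ≤ MulAut.conj g • Mx := by
      intro y hy
      rw [mem_conj]
      have h3 := (Subgroup.normalCore_normal Mx).conj_mem y hy g⁻¹
      rw [inv_inv] at h3
      exact Subgroup.normalCore_le Mx h3
    have h3 : (MulAut.conj g • Mx : Subgroup Z) = ⊤ := by
      rw [← top_le_iff, ← hF]
      exact sup_le h1 h2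
    apply Mne
    apply Subgroup.eq_top_of_card_eq
    rw [Nat.card_congr (Subgroup.equivSMul (MulAut.conj g) Mx).toEquiv, h3, Subgroup.card_top]
  exact hRQ.trans (Lib.Cores.le_pCore (normalizer_eq_top_iff.1 hnn) hQp)

end frattini

variable {Y : Type u} [Group Y] {V : Type u} [AddCommGroup V] [DistribMulAction Y V]

namespace Pair

variable {UU : Set (Subgroup Y)} {A C L : Subgroup Y} {q : ℕ}

theorem A_le (P : Pair UU A C L) : A ≤ L := P.gen ▸ le_sup_left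

theorem C_le (P : Pair UU A C L) : C ≤ L := P.gen ▸ le_sup_right

theorem symm (P : Pair UU A C L) : Pair UU C A L :=
  ⟨P.C_mem, P.A_mem, P.ne.symm, by rw [sup_comm]; exact P.gen, P.min, fun h => P.one ⟨h.2, h.1⟩⟩

/-- (0) : two members of a proper subgroup are equal -/
theorem eq_of_lt (P : Pair UU A C L) {D D' H : Subgroup Y} (hD : D ∈ UU) (hD' : D' ∈ UU) (hDH : D ≤ H)
    (hDH' : D' ≤ H) (hHL : H ≤ L) (hne : H ≠ L) : D = D' := by
  by_contra h1
  exact hne (le_antisymm hHL ((P.min D hD D' hD' h1 ((sup_le hDH hDH').trans hHL)).symm.le.trans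
    (sup_le hDH hDH')))

theorem conj_le {D H : Subgroup Y} {h : Y} (hDH : D ≤ H) (hh : h ∈ H) : MulAut.conj h • D ≤ H := by
  intro y hy
  rw [mem_conj] at hy
  have e : y = h * (h⁻¹ * y * h) * h⁻¹ := by group
  rw [e]
  exact mul_mem (mul_mem hh (hDH hy)) (inv_mem hh)

/-- (0) : `D ≤ H < L` implies `H ≤ N(D)` -/
theorem le_norm (P : Pair UU A C L) (K : Cls V q UU) {D H : Subgroup Y} (hD : D ∈ UU) (hDH : D ≤ H)
    (hHL : H ≤ L) (hne : H ≠ L) : H ≤ normalizer (D : Set Y) := fun h hh =>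
  conj_eq_iff.1 (P.eq_of_lt (K.conj D hD h) hD (conj_le hDH hh) hDH hHL hne)

section fin

variable [Finite Y]

/-- (0) : `L` is not a 2-group -/
theorem not_two (P : Pair UU A C L) (K : Cls V q UU) : ¬ IsPGroup 2 L := by
  intro h2
  have : Fact (Nat.Prime 2) := ⟨Nat.prime_two⟩
  have key : ∀ D ∈ UU, D ≤ L → L ≤ normalizer (D : Set Y) := by
    intro D hD hDL
    by_contra hne
    set N : Subgroup Y := L ⊓ normalizer (D : Set Y) with hN
    have hNL : N ≠ L := fun h => hne (h ▸ inf_le_right)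
    have hDN : D ≤ N := le_inf hDL Subgroup.le_normalizer
    have : Group.IsNilpotent L := h2.isNilpotent
    have h3 : N.subgroupOf L < normalizer (N.subgroupOf L : Set L) :=
      Group.normalizerCondition_of_isNilpotent _ (lt_top_iff_ne_top.2 fun h => hNL
        (le_antisymm inf_le_left (subgroupOf_eq_top.1 h)))
    obtain ⟨x, hx, hxN⟩ := SetLike.exists_of_lt h3
    apply hxN
    rw [mem_subgroupOf]
    refine ⟨x.2, ?_⟩
    have h4 : MulAut.conj (x : Y) • D ≤ N := by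
      intro y hy
      rw [mem_conj] at hy
      have hyN := hDN hy
      have h5 := (mem_normalizer_iff.1 hx ⟨(x : Y)⁻¹ * y * x, (mem_inf.1 hyN).1⟩).1 (mem_subgroupOf.2 hyN)
      rw [mem_subgroupOf] at h5
      have e : ((x : Y) * ((x : Y)⁻¹ * y * x) * (x : Y)⁻¹) = y := by group
      change ((x : Y) * ((x : Y)⁻¹ * y * x) * (x : Y)⁻¹) ∈ N at h5
      rwa [e] at h5
    exact conj_eq_iff.1 (P.eq_of_lt (K.conj D hD x) hD h4 hDN inf_le_left hNL)
  exact P.one ⟨P.A_le.trans (key C P.C_mem P.C_le), P.C_le.trans (key A P.A_mem P.A_le)⟩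

theorem not_norm (P : Pair UU A C L) (K : Cls V q UU) : ¬ L ≤ normalizer (A : Set Y) := by
  intro h
  apply P.not_two K
  rw [← P.gen]
  exact (K.mem A P.A_mem).two_pow.to_sup_of_normal_left' (K.mem C P.C_mem).two_pow (P.C_le.trans h)

/-- (0) : `L = ⟨A, A^x⟩` -/
theorem sup_conj (P : Pair UU A C L) (K : Cls V q UU) {x : Y} (hx : x ∈ L)
    (hn : x ∉ normalizer (A : Set Y)) : A ⊔ MulAut.conj x • A = L := by
  refine P.min A P.A_mem _ (K.conj A P.A_mem x) (fun h => hn (conj_eq_iff.1 h.symm)) ?_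
  exact sup_le P.A_le (conj_le P.A_le hx)

theorem exists_sylow (P : Pair UU A C L) (K : Cls V q UU) : ∃ T : Sylow 2 L, A.subgroupOf L ≤ T :=
  ((K.mem A P.A_mem).two_pow.comap_of_injective _ L.subtype_injective).exists_le_sylow

theorem sylow_ne (P : Pair UU A C L) (K : Cls V q UU) (T : Sylow 2 L) : (T : Subgroup L) ≠ ⊤ := by
  intro h
  apply P.not_two K
  have h1 := T.isPGroup'
  rw [h] at h1
  exact h1.of_equiv topEquiv

/-- the maximal subgroup -/
abbrev Mx (A L : Subgroup Y) : Subgroup L := (normalizer (A : Set Y)).subgroupOf L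

theorem Mx_ne (P : Pair UU A C L) (K : Cls V q UU) : Mx A L ≠ ⊤ := fun h =>
  P.not_norm K (subgroupOf_eq_top.1 h)

theorem le_Mx (P : Pair UU A C L) (K : Cls V q UU) {H : Subgroup L} (hA : A.subgroupOf L ≤ H) (hne : H ≠ ⊤) :
    H ≤ Mx A L := by
  have h1 : H.map L.subtype ≤ normalizer (A : Set Y) := by
    refine P.le_norm K P.A_mem ?_ (map_subtype_le _) fun h => hne ?_
    · have h2 := map_mono (f := L.subtype) hA
      rwa [subgroupOf_map_subtype, inf_eq_left.2 P.A_le] at h2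
    · rw [eq_top_iff]
      intro x _
      have h3 : (x : Y) ∈ H.map L.subtype := h.symm.le x.2
      obtain ⟨y, hy, hyx⟩ := h3
      have : y = x := Subtype.ext hyx
      exact this ▸ hy
  intro x hx
  rw [mem_subgroupOf]
  exact h1 ⟨x, hx, rfl⟩

/-- (0) : `C` is an `L`-conjugate of `A` -/
theorem exists_conj (P : Pair UU A C L) (K : Cls V q UU) : ∃ x ∈ L, MulAut.conj x • A = C := by
  have : Fact (Nat.Prime 2) := ⟨Nat.prime_two⟩
  obtain ⟨T, hT⟩ := P.exists_sylow K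
  obtain ⟨T', hT'⟩ := P.symm.exists_sylow K
  obtain ⟨x, rfl⟩ := MulAction.exists_smul_eq L T T'
  refine ⟨x, x.2, ?_⟩
  refine P.eq_of_lt (K.conj A P.A_mem x) P.C_mem (H := ((x • T : Sylow 2 L) : Subgroup L).map L.subtype)
    ?_ ?_ (map_subtype_le _) fun h => P.sylow_ne K (x • T) ?_
  · intro y hy
    rw [mem_conj] at hy
    have hyL : y ∈ L := conj_le P.A_le x.2 (mem_conj.2 hy)
    refine ⟨⟨y, hyL⟩, ?_, rfl⟩
    change (⟨y, hyL⟩ : L) ∈ x • T
    rw [mem_smul_sylow]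
    exact hT (mem_subgroupOf.2 hy)
  · intro y hy
    exact ⟨⟨y, P.C_le hy⟩, hT' (mem_subgroupOf.2 hy), rfl⟩
  · rw [eq_top_iff]
    intro y _
    have h3 : (y : Y) ∈ ((x • T : Sylow 2 L) : Subgroup L).map L.subtype := h.symm.le y.2
    obtain ⟨z, hz, hzy⟩ := h3
    have : z = y := Subtype.ext hzy
    exact this ▸ hz

/-- (0) : the 2-elements of the core of `N_L(A)` lie in `O₂(L)` -/
theorem le_o2 (P : Pair UU A C L) (K : Cls V q UU) {R : Subgroup Y} (hRL : R ≤ L) (hR : IsPGroup 2 R)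
    (h : ∀ r ∈ R, ∀ l ∈ L, l * r * l⁻¹ ∈ normalizer (A : Set Y)) : R ≤ o2 L := by
  obtain ⟨T, hT⟩ := P.exists_sylow K
  have h1 : R.subgroupOf L ≤ pCore 2 L := by
    refine le_pCore_of_core (T := T) (Mx := Mx A L) (P.Mx_ne K) (fun H hH hne => P.le_Mx K (hT.trans hH) hne)
      (hR.comap_of_injective _ L.subtype_injective) ?_
    intro r hr l
    rw [mem_subgroupOf]
    exact h r (mem_subgroupOf.1 hr) l l.2
  have h2 := map_mono (f := L.subtype) h1
  rw [subgroupOf_map_subtype, inf_eq_left.2 hRL] at h2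
  exact h2

theorem not_norm_C (P : Pair UU A C L) (K : Cls V q UU) : ¬ C ≤ normalizer (A : Set Y) := fun h =>
  P.not_norm K (by rw [← P.gen]; exact sup_le Subgroup.le_normalizer h)

end fin

end Pair

end Cfsg.Agent.Omega.NO1.Alpha

end

section


/-!
# THEOREM ALPHA (text #18722, helper446), (4)-(7): the input, lines, members normalising each other

`Inp V q UU` : the class `UU` on `V` after (3): `|V| = q⁴`, `|B| = q²`, `|C_V(B)| = q`, `V` irreducible, `N_Y(B)`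
transitive on `B#`, no offender, `F_B` determines `B`, LEMMA SOC with `E_w = V ∩ O₂(C_G(w))`.
-/

set_option autoImplicit false
set_option linter.unusedSectionVars false

namespace Cfsg.Agent.Omega.NO1.Alpha

open Subgroup Cfsg.Agent.ZN
open Cfsg.Agent.Omega.NO1.HE (dl dl_apply dl_one dl_eq_zero dl_comm dl_mul dl_self smul_eq add_eq_zero' mem_conj)
open scoped Pointwise

universe u

variable {Y : Type u} [Group Y] (V : Type u) [AddCommGroup V] [DistribMulAction Y V]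

/-- The input of (4)-(7). -/
structure Inp (q : ℕ) (UU : Set (Subgroup Y)) : Prop where
  two : ∀ v : V, v + v = 0
  mem : ∀ B ∈ UU, Mem V q B
  conj : ∀ B ∈ UU, ∀ y : Y, MulAut.conj y • B ∈ UU
  one : ∀ B ∈ UU, ∀ C ∈ UU, ∃ y : Y, MulAut.conj y • B = C
  uniq : ∀ B ∈ UU, ∀ C ∈ UU, FX V B = FX V C → B = C
  sc : ∀ B ∈ UU, ∀ x ∈ EX V B, x ∉ FX V B → ∃ A : Subgroup Y, A ≤ B ∧ Nat.card A = q ∧
    (∀ s ∈ A, s ≠ 1 → ∃ w, w ∉ EX V B ∧ dl s w + x ∈ FX V B) ∧ ∀ s ∈ A, ∀ t ∈ A, ∀ v : V, dl s (dl t v) = 0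
  /-- `D = E_w`, `A = A_w` -/
  soc : ∀ w : V, w ≠ 0 → ∃ D : AddSubgroup V, ∀ B ∈ UU, w ∈ FX V B → ∃ A : Subgroup Y, A ≤ B ∧ A ≠ ⊥ ∧
    (∀ C ∈ UU, w ∈ FX V C → A ≤ normalizer (C : Set Y)) ∧
    ∀ v, v ∉ EX V B → (∀ a ∈ A, ∃ e ∈ D, dl a v + e ∈ FX V B) ∧ ∀ e ∈ D, ∃ a ∈ A, dl a v + e ∈ FX V B
  noff : ∀ A : Subgroup Y, (∀ a ∈ A, ∀ b ∈ A, a * b = b * a) → (∀ a ∈ A, a * a = 1) → A ≠ ⊥ →
    Nat.card A < (FX V A).index
  irr : ∀ X : AddSubgroup V, (∀ y : Y, ∀ x ∈ X, y • x ∈ X) → X = ⊥ ∨ X = ⊤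
  cardV : Nat.card V = q ^ 4
  cardB : ∀ B ∈ UU, Nat.card B = q ^ 2
  cardF : ∀ B ∈ UU, Nat.card (FX V B) = q
  EF : ∀ B ∈ UU, ∀ b ∈ B, b ≠ 1 → ∀ f ∈ FX V B, ∃ e ∈ EX V B, dl b e = f
  trans : ∀ B ∈ UU, ∀ b ∈ B, b ≠ 1 → ∀ c ∈ B, c ≠ 1 → ∃ n ∈ normalizer (B : Set Y), n * b * n⁻¹ = c

variable {V}

theorem add_mem_iff {W : AddSubgroup V} (h2 : ∀ v : V, v + v = 0) {a b : V} (hab : a + b ∈ W) : a ∈ W ↔ b ∈ W := by
  constructor
  · intro h
    have h1 := W.add_mem h hab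
    rwa [← add_assoc, h2, zero_add] at h1
  · intro h
    have h1 := W.add_mem hab h
    rwa [add_assoc, h2, add_zero] at h1

theorem add_trans {W : AddSubgroup V} (h2 : ∀ v : V, v + v = 0) {a b c : V} (hab : a + b ∈ W) (hbc : b + c ∈ W) :
    a + c ∈ W := by
  have h1 := W.add_mem hab hbc
  have e : a + b + (b + c) = a + c + (b + b) := by abel
  rwa [e, h2, add_zero] at h1

namespace Inp

variable {q : ℕ} {UU : Set (Subgroup Y)} {B C : Subgroup Y} (I : Inp V q UU)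
include I

section basic

variable (hB : B ∈ UU)
include hB

theorem fix {b : Y} (hb : b ∈ B) {f : V} (hf : f ∈ FX V B) : b • f = f := hf b hb

/-- `[w,s] ≡ [w,t]` mod `F`, `w ∉ E` ⟹ `s = t` -/
theorem eq_of {w : V} (hw : w ∉ EX V B) {s t : Y} (hs : s ∈ B) (ht : t ∈ B) (h : dl s w + dl t w ∈ FX V B) :
    s = t := by
  have M := I.mem B hB
  have h1 : dl (s * t) w ∈ FX V B := by
    rw [dl_mul I.two]
    exact (FX V B).add_mem h (M.dlF hs (M.VB t ht w))
  have h2 := M.inj w hw (s * t) (mul_mem hs ht) h1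
  rw [mul_eq_one_iff_eq_inv, M.inv_eq ht] at h2
  exact h2

/-- `[w,s] ≡ [w',s]` mod `F`, `s ≠ 1` ⟹ `w ≡ w'` mod `E` -/
theorem mem_of {w w' : V} {s : Y} (hs : s ∈ B) (h1 : s ≠ 1) (h : dl s w + dl s w' ∈ FX V B) :
    w + w' ∈ EX V B := by
  by_contra hne
  rw [← map_add] at h
  exact h1 ((I.mem B hB).inj _ hne s hs h)

theorem notE {w : V} {s : Y} (hs : s ∈ B) (h : dl s w ∉ FX V B) : w ∉ EX V B :=
  fun hw => h ((I.mem B hB).dlF hs hw)

theorem dl_notF {w : V} {s : Y} (hs : s ∈ B) (h1 : s ≠ 1) (hw : w ∉ EX V B) : dl s w ∉ FX V B :=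
  fun h => h1 ((I.mem B hB).inj w hw s hs h)

end basic

section fin

variable [Finite Y] [Finite V] (hB : B ∈ UU)

omit I in
theorem q_pos (I : Inp V q UU) : 0 < q := by
  rcases Nat.eq_zero_or_pos q with h | h
  · exfalso
    have h1 := I.cardV
    rw [h] at h1
    have h2 : 0 < Nat.card V := Nat.card_pos
    omega
  · exact h

include hB

theorem two_le_q : 2 ≤ q := by
  have M := I.mem B hB
  have h1 := I.q_pos
  rcases Nat.lt_or_ge q 2 with h | h
  · exfalso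
    have hq : q = 1 := by omega
    obtain ⟨v, hv⟩ := M.ne
    have h2 := M.ind
    rw [hq, AddSubgroup.index_eq_one] at h2
    exact hv (h2 ▸ AddSubgroup.mem_top v)
  · exact h

theorem cardE : Nat.card (EX V B) = q ^ 3 := by
  have h1 := AddSubgroup.card_mul_index (EX V B)
  rw [(I.mem B hB).ind, I.cardV] at h1
  have h2 := I.q_pos
  refine Nat.eq_of_mul_eq_mul_right h2 ?_
  rw [h1]
  ring

theorem card_ker {b : Y} (hb : b ∈ B) (h1 : b ≠ 1) : Nat.card (dl b : V →+ V).ker = q ^ 2 := by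
  have M := I.mem B hB
  let f : EX V B →+ V := (dl b : V →+ V).comp (EX V B).subtype
  have hr : f.range = FX V B := by
    ext x
    constructor
    · rintro ⟨e, rfl⟩
      exact M.dlF hb e.2
    · intro hx
      obtain ⟨e, he, hex⟩ := I.EF B hB b hb h1 x hx
      exact ⟨⟨e, he⟩, hex⟩
  have hk : f.ker.map (EX V B).subtype = (dl b : V →+ V).ker := by
    ext x
    constructor
    · rintro ⟨e, he, rfl⟩
      exact he
    · intro hx
      have hxE : x ∈ EX V B := M.mem_of_fix I.two hb h1 ((dl_eq_zero I.two).1 hx)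
      exact ⟨⟨x, hxE⟩, hx, rfl⟩
  have h2 : Nat.card f.ker = Nat.card (dl b : V →+ V).ker := by
    rw [← hk]
    exact Nat.card_congr (AddSubgroup.equivMapOfInjective _ _ (EX V B).subtype_injective).toEquiv
  have h3 := AddSubgroup.card_mul_index f.ker
  rw [AddSubgroup.index_ker, hr, I.cardF B hB, I.cardE hB, h2] at h3
  refine Nat.eq_of_mul_eq_mul_right I.q_pos ?_
  rw [h3]
  ring

theorem range_eq_ker {b : Y} (hb : b ∈ B) (h1 : b ≠ 1) : (dl b : V →+ V).range = (dl b : V →+ V).ker := by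
  have M := I.mem B hB
  have h2 := AddSubgroup.card_mul_index (dl b : V →+ V).ker
  rw [AddSubgroup.index_ker, I.card_ker hB hb h1, I.cardV] at h2
  have h3 : Nat.card (dl b : V →+ V).range = q ^ 2 := by
    have h4 : 0 < q ^ 2 := pow_pos I.q_pos 2
    refine Nat.eq_of_mul_eq_mul_left h4 ?_
    rw [h2]
    ring
  refine AddSubgroup.eq_of_le_of_card_ge ?_ (by rw [h3, I.card_ker hB hb h1])
  rintro _ ⟨v, rfl⟩
  exact dl_self I.two (M.sq b hb) v

theorem exists_dl {b : Y} (hb : b ∈ B) (h1 : b ≠ 1) {x : V} (hx : b • x = x) : ∃ w, dl b w = x := by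
  have h2 : x ∈ (dl b : V →+ V).ker := (dl_eq_zero I.two).2 hx
  rw [← I.range_eq_ker hB hb h1] at h2
  exact h2

/-- The line of `x ∈ E - F`. -/
theorem exists_line {x : V} (hx : x ∈ EX V B) (hxF : x ∉ FX V B) : ∃ A : Subgroup Y, A ≤ B ∧ Nat.card A = q ∧
    (∀ s ∈ B, s • x = x ↔ s ∈ A) ∧ ∀ s ∈ A, s ≠ 1 → ∀ t ∈ A, ∀ v : V, s • v = v → t • v = v := by
  classical
  have M := I.mem B hB
  obtain ⟨A, hA, hcard, h1, h2⟩ := I.sc B hB x hx hxF
  refine ⟨A, hA, hcard, fun s hs => ⟨fun hsx => ?_, fun hsA => ?_⟩, ?_⟩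
  · by_cases hs1 : s = 1
    · rw [hs1]; exact one_mem _
    obtain ⟨w, hw⟩ := I.exists_dl hB hs hs1 hsx
    have hwE : w ∉ EX V B := I.notE hB hs (by rw [hw]; exact hxF)
    choose g hg hg' using h1
    let φ : A → V ⧸ EX V B := fun t => if h : (t : Y) = 1 then 0 else QuotientAddGroup.mk (g t t.2 h)
    have hφ : Function.Injective φ := by
      intro t t' htt
      by_cases ht : (t : Y) = 1 <;> by_cases ht' : (t' : Y) = 1
      · exact Subtype.ext (ht.trans ht'.symm)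
      · exfalso
        simp only [φ, dif_pos ht, dif_neg ht'] at htt
        exact hg t' t'.2 ht' ((QuotientAddGroup.eq_zero_iff _).1 htt.symm)
      · exfalso
        simp only [φ, dif_pos ht', dif_neg ht] at htt
        exact hg t t.2 ht ((QuotientAddGroup.eq_zero_iff _).1 htt)
      · simp only [φ, dif_neg ht, dif_neg ht'] at htt
        rw [QuotientAddGroup.eq] at htt
        have h3 : g t t.2 ht + g t' t'.2 ht' ∈ EX V B := by
          have e : -g t t.2 ht = g t t.2 ht := neg_eq_of_add_eq_zero_left (I.two _)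
          rwa [e] at htt
        have h4 := M.dlF (hA t'.2) h3
        rw [map_add] at h4
        have h5 := hg' t t.2 ht
        have h6 := hg' t' t'.2 ht'
        -- dl t g + x, dl t' g' + x, dl t' g + dl t' g'
        have h7 : dl (t : Y) (g t t.2 ht) + dl (t' : Y) (g t t.2 ht) ∈ FX V B := by
          refine add_trans I.two (b := x) h5 ?_
          rw [add_comm]
          refine add_trans I.two (b := dl (t' : Y) (g t' t'.2 ht')) h4 h6
        exact Subtype.ext (I.eq_of hB (hg t t.2 ht) (hA t.2) (hA t'.2) h7)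
    have hcard' : Nat.card A = Nat.card (V ⧸ EX V B) := by rw [hcard, ← M.ind]; rfl
    have hsurj := (Function.Injective.bijective_of_nat_card_le hφ hcard'.ge).2
    obtain ⟨t, ht⟩ := hsurj (QuotientAddGroup.mk w)
    have ht1 : (t : Y) ≠ 1 := by
      intro h
      simp only [φ, dif_pos h] at ht
      exact hwE ((QuotientAddGroup.eq_zero_iff _).1 ht.symm)
    simp only [φ, dif_neg ht1] at ht
    rw [QuotientAddGroup.eq] at ht
    have h3 : g t t.2 ht1 + w ∈ EX V B := by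
      have e : -g t t.2 ht1 = g t t.2 ht1 := neg_eq_of_add_eq_zero_left (I.two _)
      rwa [e] at ht
    have h4 := M.dlF (hA t.2) h3
    rw [map_add] at h4
    have h5 := hg' t t.2 ht1
    have h6 : dl (t : Y) w + dl s w ∈ FX V B := by
      rw [hw]
      refine add_trans I.two (b := dl (t : Y) (g t t.2 ht1)) ?_ h5
      rwa [add_comm]
    rw [← I.eq_of hB hwE (hA t.2) hs h6]
    exact t.2
  · by_cases hs1 : s = 1
    · rw [hs1, one_smul]
    obtain ⟨w, -, hw⟩ := h1 s hsA hs1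
    have h3 := hw s hs
    have h4 : s • dl s w = dl s w := (dl_eq_zero I.two).1 (dl_self I.two (M.sq s hs) w)
    rw [smul_add, h4] at h3
    exact add_left_cancel h3
  · intro s hs hs1 t ht v hv
    obtain ⟨w, rfl⟩ := I.exists_dl hB (hA hs) hs1 hv
    exact (dl_eq_zero I.two).1 (h2 t ht s hs w)

omit I hB in
/-- the line of `s` -/
def ln (V : Type u) [AddCommGroup V] [DistribMulAction Y V] (B : Subgroup Y) (s : Y) : Subgroup Y where
  carrier := {t | t ∈ B ∧ ∀ v : V, s • v = v → t • v = v}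
  one_mem' := ⟨one_mem _, fun v _ => one_smul _ v⟩
  mul_mem' := fun {a b} ha hb => ⟨mul_mem ha.1 hb.1, fun v hv => by rw [mul_smul, hb.2 v hv, ha.2 v hv]⟩
  inv_mem' := fun {a} ha => ⟨inv_mem ha.1, fun v hv => by rw [inv_smul_eq_iff, ha.2 v hv]⟩

omit I hB [Finite Y] [Finite V] in
theorem mem_ln {B : Subgroup Y} {s t : Y} : t ∈ ln V B s ↔ t ∈ B ∧ ∀ v : V, s • v = v → t • v = v := Iff.rfl

omit I hB [Finite Y] [Finite V] in
theorem ln_le {B : Subgroup Y} {s : Y} : ln V B s ≤ B := fun _ h => h.1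

omit I hB [Finite Y] [Finite V] in
theorem self_mem_ln {B : Subgroup Y} {s : Y} (hs : s ∈ B) : s ∈ ln V B s := ⟨hs, fun _ h => h⟩

/-- `C_V(s) ∩ C_V(t) ⊄ F` ⟹ `C_V(s) ≤ C_V(t)` -/
theorem same {s t : Y} (hs : s ∈ B) (hs1 : s ≠ 1) (ht : t ∈ B) {x : V} (hxF : x ∉ FX V B) (hsx : s • x = x)
    (htx : t • x = x) {v : V} (hv : s • v = v) : t • v = v := by
  obtain ⟨A, -, -, h1, h2⟩ := I.exists_line hB ((I.mem B hB).mem_of_fix I.two hs hs1 hsx) hxF
  exact h2 s ((h1 s hs).1 hsx) hs1 t ((h1 t ht).1 htx) v hv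

theorem exists_notF {s : Y} (hs : s ∈ B) (hs1 : s ≠ 1) : ∃ x : V, x ∉ FX V B ∧ s • x = x := by
  obtain ⟨w, hw⟩ := (I.mem B hB).ne
  exact ⟨dl s w, I.dl_notF hB hs hs1 hw,
    (dl_eq_zero I.two).1 (dl_self I.two ((I.mem B hB).sq s hs) w)⟩

theorem card_ln {s : Y} (hs : s ∈ B) (hs1 : s ≠ 1) : Nat.card (ln V B s) = q := by
  obtain ⟨x, hxF, hx⟩ := I.exists_notF hB hs hs1
  obtain ⟨A, hA, hcard, h1, h2⟩ := I.exists_line hB ((I.mem B hB).mem_of_fix I.two hs hs1 hx) hxF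
  have e : ln V B s = A := by
    ext t
    constructor
    · rintro ⟨ht, h3⟩
      exact (h1 t ht).1 (h3 x hx)
    · intro ht
      exact ⟨hA ht, h2 s ((h1 s hs).1 hx) hs1 t ht⟩
  rw [e, hcard]

theorem ln_symm {s t : Y} (hs : s ∈ B) (hs1 : s ≠ 1) (ht : t ∈ ln V B s) (ht1 : t ≠ 1) {v : V}
    (hv : t • v = v) : s • v = v := by
  obtain ⟨x, hxF, hx⟩ := I.exists_notF hB hs hs1
  exact I.same hB ht.1 ht1 hs hxF (ht.2 x hx) hx hv

/-- a group fixing a vector outside `F` lies in a line -/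
theorem le_ln {R : Subgroup Y} (hR : R ≤ B) {v : V} (hv : v ∉ FX V B) (h : ∀ r ∈ R, r • v = v) {s : Y}
    (hs : s ∈ R) (hs1 : s ≠ 1) : R ≤ ln V B s := fun t ht =>
  ⟨hR ht, fun _ hx => I.same hB (hR hs) hs1 (hR ht) hv (h s hs) (h t ht) hx⟩

/-- Two lines generate `B`. -/
theorem eq_of_two_lines {R : Subgroup Y} (hR : R ≤ B) {s t : Y} (hs : s ∈ B) (hs1 : s ≠ 1) (ht : t ∈ B)
    (hts : t ∉ ln V B s) (h1 : ln V B s ≤ R) (h2 : ln V B t ≤ R) : R = B := by
  have M := I.mem B hB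
  have ht1 : t ≠ 1 := fun h => hts (h ▸ one_mem _)
  have hdis : ln V B s ⊓ ln V B t = ⊥ := by
    rw [eq_bot_iff]
    rintro y ⟨hy1, hy2⟩
    rw [mem_bot]
    by_contra hy
    exact hts ⟨ht, fun v hv => I.ln_symm hB ht ht1 hy2 hy (hy1.2 v hv)⟩
  refine Subgroup.eq_of_le_of_card_ge hR ?_
  rw [I.cardB B hB]
  -- `ℓ × ℓ' → R` injective
  let f : (ln V B s) × (ln V B t) → R := fun p => ⟨p.1 * p.2, mul_mem (h1 p.1.2) (h2 p.2.2)⟩
  have hf : Function.Injective f := by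
    rintro ⟨a, b⟩ ⟨c, d⟩ h
    have h3 : (a : Y) * b = c * d := congrArg Subtype.val h
    have h4 : (c : Y)⁻¹ * a = d * (b : Y)⁻¹ := by
      rw [inv_mul_eq_iff_eq_mul, ← mul_assoc, ← h3, mul_inv_cancel_right]
    have h5 : (c : Y)⁻¹ * a ∈ ln V B s ⊓ ln V B t :=
      Subgroup.mem_inf.2 ⟨Subgroup.mul_mem _ (Subgroup.inv_mem _ c.2) a.2,
        h4 ▸ Subgroup.mul_mem _ d.2 (Subgroup.inv_mem _ b.2)⟩
    rw [hdis, mem_bot] at h5
    have h6 : (a : Y) = c := by rwa [inv_mul_eq_one, eq_comm] at h5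
    have h7 : (b : Y) = d := by
      rw [h6] at h3
      exact mul_left_cancel h3
    exact Prod.ext (Subtype.ext h6) (Subtype.ext h7)
  have h8 := Nat.card_le_card_of_injective f hf
  rw [Nat.card_prod, I.card_ln hB hs hs1, I.card_ln hB ht ht1] at h8
  rwa [pow_two]

end fin

end Inp

end Cfsg.Agent.Omega.NO1.Alpha

end

section


/-!
# THEOREM ALPHA (text #18722, helper446), (4), (5): the member at a Sylow group, the point of a member
-/

set_option autoImplicit false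
set_option linter.unusedSectionVars false

namespace Cfsg.Agent.Omega.NO1.Alpha

open Subgroup Cfsg.Agent.ZN
open Cfsg.Agent.Omega.NO1.HE (dl dl_apply dl_one dl_eq_zero dl_comm dl_mul dl_self smul_eq add_eq_zero' mem_conj
  Pts At mem_smul_sylow)
open scoped Pointwise

universe u

section groups

variable {Y : Type u} [Group Y]

theorem exists_central [Finite Y] {R N : Subgroup Y} (hR : IsPGroup 2 R) (hNR : N ≤ R)
    (hn : R ≤ normalizer (N : Set Y)) (hN : N ≠ ⊥) : ∃ z ∈ N, z ≠ 1 ∧ ∀ r ∈ R, r * z = z * r := by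
  have : Fact (Nat.Prime 2) := ⟨Nat.prime_two⟩
  have h1 : (N.subgroupOf R).Normal := normal_subgroupOf_of_le_normalizer hn
  have h2 : (N.subgroupOf R) ≠ ⊥ := by
    intro h
    apply hN
    rw [subgroupOf_eq_bot, disjoint_iff, inf_of_le_left hNR] at h
    exact h
  have hnil : Group.IsNilpotent R := hR.isNilpotent
  have h4 := Lib.NormalAbelian.normal_inf_center_ne_bot (N.subgroupOf R) h2
  obtain ⟨e, he⟩ := Subgroup.ne_bot_iff_exists_ne_one.mp h4
  have h5 := e.2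
  rw [mem_inf, mem_subgroupOf] at h5
  refine ⟨((e : R) : Y), h5.1, fun h => he (Subtype.ext (Subtype.ext h)), fun r hr => ?_⟩
  exact congrArg Subtype.val (mem_center_iff.mp h5.2 ⟨r, hr⟩)

theorem exists_norm [Finite Y] {R N : Subgroup Y} (hR : IsPGroup 2 R) (hNR : N ≤ R) (hne : N ≠ R) :
    ∃ x ∈ R, x ∉ N ∧ MulAut.conj x • N = N := by
  have : Fact (Nat.Prime 2) := ⟨Nat.prime_two⟩
  have : Group.IsNilpotent R := hR.isNilpotent
  have h3 : N.subgroupOf R < normalizer (N.subgroupOf R : Set R) :=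
    Group.normalizerCondition_of_isNilpotent _ (lt_top_iff_ne_top.2 fun h => hne
      (le_antisymm hNR (subgroupOf_eq_top.1 h)))
  obtain ⟨x, hx, hxN⟩ := SetLike.exists_of_lt h3
  refine ⟨x, x.2, fun h => hxN (mem_subgroupOf.2 h), ?_⟩
  rw [conj_eq_iff, mem_normalizer_iff]
  intro y
  constructor
  · intro hy
    have h5 := (mem_normalizer_iff.1 hx ⟨y, hNR hy⟩).1 (mem_subgroupOf.2 hy)
    exact mem_subgroupOf.1 h5
  · intro hy
    have h6 := mem_normalizer_iff.1 (inv_mem hx) ⟨(x : Y) * y * (x : Y)⁻¹, hNR hy⟩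
    have h5 := mem_subgroupOf.1 (h6.1 (mem_subgroupOf.2 hy))
    have e : (x : Y)⁻¹ * ((x : Y) * y * (x : Y)⁻¹) * ((x : Y)⁻¹)⁻¹ = y := by group
    change (x : Y)⁻¹ * ((x : Y) * y * (x : Y)⁻¹) * ((x : Y)⁻¹)⁻¹ ∈ N at h5
    rwa [e] at h5

theorem conj_conj' (g h : Y) (H : Subgroup Y) : MulAut.conj g • (MulAut.conj h • H) = MulAut.conj (g * h) • H := by
  rw [map_mul, mul_smul]

end groups

section modules

variable {Y : Type u} [Group Y] {V : Type u} [AddCommGroup V] [DistribMulAction Y V]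

/-- A 2-group fixes a nonzero vector of the quotient. -/
theorem exists_fixed_mod [Finite V] (h2 : ∀ v : V, v + v = 0) {R : Subgroup Y} (hR : IsPGroup 2 R)
    (W : AddSubgroup V) (hW : ∀ r ∈ R, ∀ w ∈ W, r • w ∈ W) (hne : ∃ v, v ∉ W) :
    ∃ v, v ∉ W ∧ ∀ r ∈ R, dl r v ∈ W := by
  have hcomap : ∀ r : R, W ≤ W.comap (DistribSMul.toAddMonoidHom V (r : Y)) := fun r w hw => hW r r.2 w hw
  let _ : MulAction R (V ⧸ W) :=
    { smul := fun r x => QuotientAddGroup.map W W (DistribSMul.toAddMonoidHom V (r : Y)) (hcomap r) x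
      one_smul := by
        intro x
        obtain ⟨v, rfl⟩ := QuotientAddGroup.mk_surjective x
        exact congrArg QuotientAddGroup.mk (one_smul Y v)
      mul_smul := by
        intro r s x
        obtain ⟨v, rfl⟩ := QuotientAddGroup.mk_surjective x
        exact congrArg QuotientAddGroup.mk (mul_smul (r : Y) (s : Y) v) }
  have hs : ∀ (r : R) (v : V), r • (QuotientAddGroup.mk v : V ⧸ W) = QuotientAddGroup.mk ((r : Y) • v) :=
    fun _ _ => rfl
  obtain ⟨w, hw⟩ := hne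
  have h1 : 2 ∣ Nat.card (V ⧸ W) := by
    have h3 : addOrderOf (QuotientAddGroup.mk w : V ⧸ W) = 2 := by
      refine addOrderOf_eq_prime ?_ ?_
      · rw [two_nsmul]; exact congrArg QuotientAddGroup.mk (h2 w)
      · exact fun h => hw ((QuotientAddGroup.eq_zero_iff _).1 h)
    rw [← h3]
    exact addOrderOf_dvd_natCard _
  have : Fact (Nat.Prime 2) := ⟨Nat.prime_two⟩
  obtain ⟨x, hx, hne⟩ := hR.exists_fixed_point_of_prime_dvd_card_of_fixed_point (V ⧸ W) h1 (a := 0) (by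
    intro r
    exact congrArg QuotientAddGroup.mk (smul_zero (r : Y)))
  obtain ⟨v, rfl⟩ := QuotientAddGroup.mk_surjective x
  refine ⟨v, fun h => hne ((QuotientAddGroup.eq_zero_iff _).2 h).symm, fun r hr => ?_⟩
  have h4 := hx ⟨r, hr⟩
  rw [hs, QuotientAddGroup.eq] at h4
  have e : -((r : Y) • v) = (r : Y) • v := neg_eq_of_add_eq_zero_left (h2 _)
  rw [e] at h4
  exact h4

end modules

variable {Y : Type u} [Group Y] {V : Type u} [AddCommGroup V] [DistribMulAction Y V]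

namespace Inp

variable {q : ℕ} {UU : Set (Subgroup Y)} {B C : Subgroup Y} (I : Inp V q UU)
include I

section fin

variable [Finite Y] [Finite V] (hB : B ∈ UU)

theorem ext_of_le {B C : Subgroup Y} (hB : B ∈ UU) (hC : C ∈ UU) (h : FX V B ≤ FX V C) : B = C :=
  I.uniq B hB C hC (AddSubgroup.eq_of_le_of_card_ge h (by rw [I.cardF B hB, I.cardF C hC]))

include hB

theorem index_F : (FX V B).index = q ^ 3 := by
  have h1 := AddSubgroup.card_mul_index (FX V B)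
  rw [I.cardF B hB, I.cardV] at h1
  refine Nat.eq_of_mul_eq_mul_left I.q_pos ?_
  rw [h1]
  ring

/-- a 2-group commuting with `B` centralises `F_B` -/
theorem fix_of_comm {D : Subgroup Y} (hD : IsPGroup 2 D) (hc : ∀ d ∈ D, ∀ b ∈ B, d * b = b * d) {f : V}
    (hf : f ∈ FX V B) {d : Y} (hd : d ∈ D) : d • f = f := by
  have M := I.mem B hB
  have hF : ∀ d ∈ D, ∀ f ∈ FX V B, d • f ∈ FX V B := fun d hd f hf b hb => by
    rw [← mul_smul, ← hc d hd b hb, mul_smul, hf b hb]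
  have hdl : ∀ d ∈ D, ∀ b ∈ B, ∀ v : V, dl b (d • v) = d • dl b v := fun d hd b hb v => by
    rw [dl_apply, dl_apply, smul_add, ← mul_smul, ← hc d hd b hb, mul_smul]
  have hE : ∀ d ∈ D, ∀ e ∈ EX V B, d • e ∈ EX V B := fun d hd e he b hb => by
    rw [hdl d hd b hb]
    exact hF d hd _ (he b hb)
  obtain ⟨v, hv, hvD⟩ := exists_fixed_mod I.two hD (EX V B) hE M.ne
  have h1 : ∀ d ∈ D, ∀ e ∈ EX V B, dl d e ∈ FX V B := by
    intro d hd e he
    obtain ⟨u, hu, hue⟩ := M.surj v hv e he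
    have h2 : dl d (dl u v) ∈ FX V B := by
      rw [dl_comm (hc d hd u hu)]
      exact M.dlF hu (hvD d hd)
    have h3 : dl d (dl u v + e) ∈ FX V B := by
      rw [dl_apply]
      exact (FX V B).add_mem (hF d hd _ hue) hue
    rw [map_add] at h3
    exact (add_mem_iff I.two h3).1 h2
  obtain ⟨b, hb, hb1⟩ := M.exists_ne_one
  obtain ⟨e, he, rfl⟩ := I.EF B hB b hb hb1 f hf
  rw [← dl_eq_zero I.two, dl_comm (hc d hd b hb)]
  exact M.dl0 I.two hb (h1 d hd e he)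

/-- (4) : no offender -/
theorem card_lt {D : Subgroup Y} (hD : ∀ a ∈ D, ∀ b ∈ D, a * b = b * a) (hD2 : ∀ a ∈ D, a * a = 1)
    (hc : ∀ d ∈ D, ∀ b ∈ B, d * b = b * d) (hdis : D ⊓ B = ⊥) : Nat.card D < q := by
  have M := I.mem B hB
  have hDp : IsPGroup 2 D := fun b => ⟨1, by rw [pow_one, pow_two]; exact Subtype.ext (hD2 _ b.2)⟩
  have hcomm : ∀ (b : B) (d : D), Commute (B.subtype b) (D.subtype d) := fun b d =>
    (hc d d.2 b b.2).symm
  let φ : B × D →* Y := MonoidHom.noncommCoprod B.subtype D.subtype hcomm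
  have hφ : ∀ p : B × D, φ p = p.1 * p.2 := fun _ => rfl
  have hinj : Function.Injective φ := by
    rintro ⟨a, b⟩ ⟨c, d⟩ h
    have h3 : (a : Y) * b = c * d := h
    have h4 : (c : Y)⁻¹ * a = d * (b : Y)⁻¹ := by
      rw [inv_mul_eq_iff_eq_mul, ← mul_assoc, ← h3, mul_inv_cancel_right]
    have h5 : (c : Y)⁻¹ * a ∈ D ⊓ B :=
      Subgroup.mem_inf.2 ⟨h4 ▸ Subgroup.mul_mem _ d.2 (Subgroup.inv_mem _ b.2),
        Subgroup.mul_mem _ (Subgroup.inv_mem _ c.2) a.2⟩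
    rw [hdis, mem_bot] at h5
    have h6 : (a : Y) = c := by rwa [inv_mul_eq_one, eq_comm] at h5
    have h7 : (b : Y) = d := by
      rw [h6] at h3
      exact mul_left_cancel h3
    exact Prod.ext (Subtype.ext h6) (Subtype.ext h7)
  have hcard : Nat.card φ.range = q ^ 2 * Nat.card D := by
    rw [← I.cardB B hB, ← Nat.card_prod]
    exact (Nat.card_congr (MonoidHom.ofInjective hinj).toEquiv).symm
  have h1 := I.noff φ.range (by
    rintro _ ⟨⟨a, b⟩, rfl⟩ _ ⟨⟨c, d⟩, rfl⟩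
    rw [← map_mul, ← map_mul]
    congr 1
    exact Prod.ext (Subtype.ext (M.comm a a.2 c c.2)) (Subtype.ext (hD b b.2 d d.2))) (by
    rintro _ ⟨⟨a, b⟩, rfl⟩
    rw [← map_mul]
    have : ((a, b) * (a, b) : B × D) = 1 := Prod.ext (Subtype.ext (M.sq a a.2)) (Subtype.ext (hD2 b b.2))
    rw [this, map_one]) (by
    intro h
    obtain ⟨b, hb, hb1⟩ := M.exists_ne_one
    apply hb1
    have h2 : b ∈ φ.range := ⟨(⟨b, hb⟩, 1), by rw [hφ]; simp⟩
    rwa [h, mem_bot] at h2)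
  have h2 : FX V B ≤ FX V φ.range := by
    rintro f hf _ ⟨⟨a, b⟩, rfl⟩
    rw [hφ, mul_smul]
    rw [I.fix_of_comm hB hDp hc hf b.2]
    exact hf a a.2
  have h3 : (FX V φ.range).index ≤ q ^ 3 := by
    rw [← I.index_F hB]
    exact AddSubgroup.index_antitone h2
  rw [hcard] at h1
  have h4 : q ^ 2 * Nat.card D < q ^ 2 * q := by
    calc q ^ 2 * Nat.card D < q ^ 3 := lt_of_lt_of_le h1 h3
      _ = q ^ 2 * q := by ring
  exact lt_of_mul_lt_mul_left h4 (Nat.zero_le _)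

theorem q_lt_sq : q < q ^ 2 := by
  have h := I.two_le_q hB
  nlinarith

/-- (4) -/
theorem eq_of_norm (hC : C ∈ UU) (h1 : B ≤ normalizer (C : Set Y)) (h2 : C ≤ normalizer (B : Set Y)) : B = C := by
  have MB := I.mem B hB
  have MC := I.mem C hC
  by_cases hd : C ⊓ B = ⊥
  · exfalso
    have hc : ∀ c ∈ C, ∀ b ∈ B, c * b = b * c := by
      intro c hc b hb
      have h3 : c * b * c⁻¹ * b⁻¹ ∈ C ⊓ B := by
        refine Subgroup.mem_inf.2 ⟨?_, ?_⟩
        · have h4 := (mem_normalizer_iff.1 (h1 hb) c⁻¹).1 (inv_mem hc)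
          have e : c * b * c⁻¹ * b⁻¹ = c * (b * c⁻¹ * b⁻¹) := by group
          rw [e]
          exact Subgroup.mul_mem _ hc h4
        · exact Subgroup.mul_mem _ ((mem_normalizer_iff.1 (h2 hc) b).1 hb) (Subgroup.inv_mem _ hb)
      rw [hd, mem_bot, mul_inv_eq_one, mul_inv_eq_iff_eq_mul] at h3
      exact h3
    have h3 := I.card_lt hB MC.comm MC.sq hc hd
    rw [I.cardB C hC] at h3
    have := I.q_lt_sq hB
    omega
  · obtain ⟨b, hbC, hbB, hb1⟩ : ∃ b, b ∈ C ∧ b ∈ B ∧ b ≠ 1 := by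
      obtain ⟨x, hx⟩ := Subgroup.ne_bot_iff_exists_ne_one.mp hd
      exact ⟨x, (Subgroup.mem_inf.1 x.2).1, (Subgroup.mem_inf.1 x.2).2, fun h => hx (Subtype.ext h)⟩
    have hFE : FX V B ≤ EX V C := fun f hf => MC.mem_of_fix I.two hbC hb1 (hf b hbB)
    have hE : EX V B = EX V C := by
      by_cases hle : EX V C ≤ EX V B
      · exact (AddSubgroup.eq_of_le_of_card_ge hle (by rw [I.cardE hB, I.cardE hC])).symm
      · obtain ⟨v, hvC, hvB⟩ := SetLike.not_le_iff_exists.1 hle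
        refine AddSubgroup.eq_of_le_of_card_ge (fun e he => ?_) (by rw [I.cardE hB, I.cardE hC])
        obtain ⟨u, hu, hue⟩ := MB.surj v hvB e he
        have h3 : dl u v ∈ EX V C := by
          rw [dl_apply]
          exact (EX V C).add_mem (smul_EX_of (h1 hu) hvC) hvC
        exact (add_mem_iff I.two (hFE hue)).1 h3
    apply I.ext_of_le hB hC
    intro f hf
    obtain ⟨e, he, rfl⟩ := I.EF B hB b hbB hb1 f hf
    rw [hE] at he
    exact MC.dlF hbC he

theorem norm_of_le {T : Sylow 2 Y} (hT : B ≤ T) : (T : Subgroup Y) ≤ normalizer (B : Set Y) := by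
  set N : Subgroup Y := (T : Subgroup Y) ⊓ normalizer (B : Set Y) with hN
  by_contra hne
  have hNT : N ≠ T := fun h => hne (h ▸ inf_le_right)
  obtain ⟨x, hxT, hxN, hx⟩ : ∃ x ∈ (T : Subgroup Y), x ∉ N ∧ MulAut.conj x • N = N :=
    exists_norm T.isPGroup' (inf_le_left : N ≤ T) hNT
  have hBN : B ≤ N := le_inf hT Subgroup.le_normalizer
  have h1 : MulAut.conj x • B ≤ N := by
    rw [← hx]
    exact Subgroup.pointwise_smul_le_pointwise_smul_iff.2 hBN
  have h2 : N ≤ normalizer ((MulAut.conj x • B : Subgroup Y) : Set Y) := by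
    intro n hn
    rw [← hx, mem_conj] at hn
    rw [← conj_eq_iff, conj_conj']
    have h3 := conj_eq_iff.2 (Subgroup.mem_inf.1 hn).2
    have e : n * x = x * (x⁻¹ * n * x) := by group
    rw [e, ← conj_conj', h3]
  have h3 := I.eq_of_norm hB (I.conj B hB x) (hBN.trans h2) (h1.trans inf_le_right)
  exact hxN (Subgroup.mem_inf.2 ⟨hxT, conj_eq_iff.1 h3.symm⟩)

/-- (4) : one member in a Sylow group -/
theorem eq_of_sylow (hC : C ∈ UU) {T : Sylow 2 Y} (hT : B ≤ T) (hT' : C ≤ T) : B = C :=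
  I.eq_of_norm hB hC (hT.trans (I.norm_of_le hC hT')) (hT'.trans (I.norm_of_le hB hT))

theorem exists_mem_sylow (T : Sylow 2 Y) : ∃ C ∈ UU, C ≤ T := by
  obtain ⟨T0, hT0⟩ := (I.mem B hB).two_pow.exists_le_sylow
  obtain ⟨g, rfl⟩ := MulAction.exists_smul_eq Y T0 T
  refine ⟨_, I.conj B hB g, fun y hy => ?_⟩
  rw [mem_conj] at hy
  exact mem_smul_sylow.2 (hT0 hy)

theorem normalizer_ne : normalizer (B : Set Y) ≠ ⊤ := by
  intro h
  have hq := I.two_le_q hB
  rcases I.irr (FX V B) (fun y x hx => smul_FX_of (h ▸ mem_top y) hx) with h1 | h1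
  · have h2 := I.cardF B hB
    rw [h1, AddSubgroup.card_bot] at h2
    omega
  · have h2 := I.cardF B hB
    rw [h1, AddSubgroup.card_top, I.cardV] at h2
    have h3 : q ^ 1 < q ^ 4 := Nat.pow_lt_pow_right (by omega) (by norm_num)
    rw [pow_one] at h3
    omega

end fin

section pts

variable [Finite Y] [Finite V] {Ω : Type u} [MulAction Y Ω] (P : Pts Y Ω)
  (mx : ∀ (T : Sylow 2 Y) (p : Ω), At T p → ∀ K : Subgroup Y, (T : Subgroup Y) ≤ K → K ≠ ⊤ → ∀ k ∈ K, k • p = p)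

include mx in
theorem norm_fix (hB : B ∈ UU) {T : Sylow 2 Y} (hT : B ≤ T) {p : Ω} (hp : At T p) {n : Y}
    (hn : n ∈ normalizer (B : Set Y)) : n • p = p :=
  mx T p hp _ (I.norm_of_le hB hT) (I.normalizer_ne hB) n hn

omit I in
/-- the stabiliser of `C_V(b)` -/
def KK (V : Type u) [AddCommGroup V] [DistribMulAction Y V] (b : Y) : Subgroup Y where
  carrier := {y | ∀ v : V, b • v = v ↔ b • (y • v) = y • v}
  one_mem' := fun v => by rw [one_smul]
  mul_mem' := fun {x y} hx hy v => by rw [mul_smul]; exact (hy v).trans (hx (y • v))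
  inv_mem' := fun {x} hx v => by
    have h := hx (x⁻¹ • v)
    rw [smul_inv_smul] at h
    exact h.symm

omit I [Finite Y] [Finite V] in
theorem mem_KK {b y : Y} : y ∈ KK V b ↔ ∀ v : V, b • v = v ↔ b • (y • v) = y • v := Iff.rfl

omit I [Finite Y] [Finite V] in
theorem mem_KK_of_comm {b y : Y} (h : y * b = b * y) : y ∈ KK V b := fun v => by
  rw [← mul_smul, ← h, mul_smul]
  exact (smul_left_cancel_iff y).symm

omit I [Finite Y] in
theorem mem_KK_of {b y : Y} (h : ∀ v : V, b • v = v → b • (y • v) = y • v) : y ∈ KK V b := by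
  intro v
  refine ⟨h v, fun hv => ?_⟩
  let S : Set V := {v | b • v = v}
  let f : S → S := fun x => ⟨y • (x : V), h x x.2⟩
  have hf : Function.Injective f := by
    intro a c hac
    have : y • (a : V) = y • (c : V) := congrArg Subtype.val hac
    exact Subtype.ext (smul_left_cancel _ this)
  have hf2 := Finite.surjective_of_injective hf
  obtain ⟨x, hx⟩ := hf2 ⟨y • v, hv⟩
  have h1 : y • (x : V) = y • v := congrArg Subtype.val hx
  rw [← smul_left_cancel _ h1]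
  exact x.2

theorem KK_ne (hB : B ∈ UU) {b : Y} (hb : b ∈ B) (hb1 : b ≠ 1) : KK V b ≠ ⊤ := by
  intro h
  have hq := I.two_le_q hB
  have hc := I.card_ker hB hb hb1
  rcases I.irr (dl b : V →+ V).ker (fun y x hx => by
    have h1 : y ∈ KK V b := h ▸ mem_top y
    exact (dl_eq_zero I.two).2 ((h1 x).1 ((dl_eq_zero I.two).1 hx))) with h1 | h1
  · rw [h1, AddSubgroup.card_bot] at hc
    nlinarith
  · rw [h1, AddSubgroup.card_top, I.cardV] at hc
    have h3 : q ^ 2 < q ^ 4 := Nat.pow_lt_pow_right (by omega) (by norm_num)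
    omega

omit I [Finite Y] [Finite V] in
theorem conj_mem_KK {n y b : Y} : y ∈ KK V (n * b * n⁻¹) ↔ n⁻¹ * y * n ∈ KK V b := by
  have key : ∀ v : V, (n * b * n⁻¹) • v = v ↔ b • (n⁻¹ • v) = n⁻¹ • v := fun v => by
    rw [mul_smul, mul_smul, ← eq_inv_smul_iff]
  constructor
  · intro h v
    have h1 := h (n • v)
    have e : n⁻¹ • y • n • v = (n⁻¹ * y * n) • v := by simp only [mul_smul]
    rwa [key, key, inv_smul_smul, e] at h1
  · intro h v
    rw [key, key]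
    have h1 := h (n⁻¹ • v)
    have e : (n⁻¹ * y * n) • n⁻¹ • v = n⁻¹ • y • v := by
      rw [← mul_smul, mul_inv_cancel_right, mul_smul]
    rwa [e] at h1

include P mx

/-- (5) -/
theorem KK_fix (hB : B ∈ UU) {T : Sylow 2 Y} (hT : B ≤ T) {p : Ω} (hp : At T p) {b : Y} (hb : b ∈ B)
    (hb1 : b ≠ 1) : (∀ y ∈ KK V b, y • p = p) ∧ ∃ T' : Sylow 2 Y, (T' : Subgroup Y) ≤ KK V b := by
  obtain ⟨z, hz, hz1, hzT⟩ := exists_central T.isPGroup' hT (I.norm_of_le hB hT) fun h => hb1 (by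
    rwa [h, mem_bot] at hb)
  obtain ⟨n, hn, rfl⟩ := I.trans B hB z hz hz1 b hb hb1
  have hTK : (T : Subgroup Y) ≤ KK V z := fun t ht => mem_KK_of_comm (hzT t ht)
  have hK := mx T p hp (KK V z) hTK (I.KK_ne hB hz hz1)
  have hnp := I.norm_fix mx hB hT hp hn
  refine ⟨fun y hy => ?_, n • T, fun t ht => ?_⟩
  · rw [conj_mem_KK] at hy
    have h1 := hK _ hy
    rw [mul_smul, mul_smul, hnp, inv_smul_eq_iff, hnp] at h1
    exact h1
  · rw [conj_mem_KK]
    exact hTK (mem_smul_sylow.1 ht)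

theorem cent_fix (hB : B ∈ UU) {T : Sylow 2 Y} (hT : B ≤ T) {p : Ω} (hp : At T p) {b : Y} (hb : b ∈ B)
    (hb1 : b ≠ 1) {y : Y} (hy : y * b = b * y) : y • p = p :=
  (I.KK_fix P mx hB hT hp hb hb1).1 y (mem_KK_of_comm hy)

/-- (5) : `C_V(b) = C_V(c)` ⟹ the points of `B`, `C` are equal -/
theorem eq_pt (hB : B ∈ UU) {T : Sylow 2 Y} (hT : B ≤ T) {p : Ω} (hp : At T p) {b : Y} (hb : b ∈ B)
    (hb1 : b ≠ 1) (hC : C ∈ UU) {T' : Sylow 2 Y} (hT' : C ≤ T') {p' : Ω} (hp' : At T' p') {c : Y} (hc : c ∈ C)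
    (hc1 : c ≠ 1) (h : ∀ v : V, b • v = v → c • v = v) : p = p' := by
  have h1 : (dl b : V →+ V).ker = (dl c : V →+ V).ker := by
    refine AddSubgroup.eq_of_le_of_card_ge (fun v hv => ?_) (by
      rw [I.card_ker hB hb hb1, I.card_ker hC hc hc1])
    exact (dl_eq_zero I.two).2 (h v ((dl_eq_zero I.two).1 hv))
  have h2 : ∀ v : V, b • v = v ↔ c • v = v := fun v => by
    have h3 : v ∈ (dl b : V →+ V).ker ↔ v ∈ (dl c : V →+ V).ker := by rw [h1]
    rw [AddMonoidHom.mem_ker, AddMonoidHom.mem_ker, dl_eq_zero I.two, dl_eq_zero I.two] at h3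
    exact h3
  have h3 : KK V b = KK V c := by
    ext y
    rw [mem_KK, mem_KK]
    exact forall_congr' fun v => by rw [h2 v, h2 (y • v)]
  obtain ⟨h4, T'', hT''⟩ := I.KK_fix P mx hB hT hp hb hb1
  have h5 := (I.KK_fix P mx hC hT' hp' hc hc1).1
  exact P.one T'' p p' (fun t ht => h4 t (hT'' ht)) (fun t ht => h5 t (h3 ▸ hT'' ht))

end pts

end Inp

end Cfsg.Agent.Omega.NO1.Alpha

end

section


/-!
# THEOREM ALPHA (text #18722, helper446), (6): `B ∩ M' = 1` for `M' ≠ M_B`, and (7): (+)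
-/

set_option autoImplicit false
set_option linter.unusedSectionVars false

namespace Cfsg.Agent.Omega.NO1.Alpha

open Subgroup Cfsg.Agent.ZN
open Cfsg.Agent.Omega.NO1.HE (dl dl_apply dl_one dl_eq_zero dl_comm dl_mul dl_self smul_eq add_eq_zero' mem_conj
  Pts At mem_smul_sylow exists_fixed)
open scoped Pointwise

universe u

variable {Y : Type u} [Group Y] {V : Type u} [AddCommGroup V] [DistribMulAction Y V] {Ω : Type u} [MulAction Y Ω]

/-- A bad pair of Sylow groups. -/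
structure BadP (UU : Set (Subgroup Y)) (T T' : Sylow 2 Y) (B C : Subgroup Y) (p p' : Ω) : Prop where
  m : B ∈ UU
  m' : C ∈ UU
  l : B ≤ T
  l' : C ≤ T'
  a : At T p
  a' : At T' p'
  ne : p ≠ p'
  tr : (∃ b ∈ B, b ≠ 1 ∧ b ∈ T') ∨ ∃ c ∈ C, c ≠ 1 ∧ c ∈ T

theorem BadP.symm {UU : Set (Subgroup Y)} {T T' : Sylow 2 Y} {B C : Subgroup Y} {p p' : Ω}
    (h : BadP UU T T' B C p p') : BadP UU T' T C B p' p :=
  ⟨h.m', h.m, h.l', h.l, h.a', h.a, h.ne.symm, h.tr.symm⟩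

/-- `|T ∩ T'|` maximal. -/
structure Cf (UU : Set (Subgroup Y)) (T T' : Sylow 2 Y) (B C : Subgroup Y) (p p' : Ω) : Prop where
  bad : BadP UU T T' B C p p'
  max : ∀ (S S' : Sylow 2 Y) (D D' : Subgroup Y) (r r' : Ω), BadP UU S S' D D' r r' →
    Nat.card ((S : Subgroup Y) ⊓ S' : Subgroup Y) ≤ Nat.card ((T : Subgroup Y) ⊓ T' : Subgroup Y)

theorem Cf.symm {UU : Set (Subgroup Y)} {T T' : Sylow 2 Y} {B C : Subgroup Y} {p p' : Ω}
    (h : Cf UU T T' B C p p') : Cf UU T' T C B p' p :=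
  ⟨h.bad.symm, fun S S' D D' r r' hb => by
    rw [inf_comm (T' : Subgroup Y)]
    exact h.max S S' D D' r r' hb⟩

theorem exists_cf [Finite Y] {UU : Set (Subgroup Y)} {T T' : Sylow 2 Y} {B C : Subgroup Y} {p p' : Ω}
    (h : BadP UU T T' B C p p') : ∃ (S S' : Sylow 2 Y) (D D' : Subgroup Y) (r r' : Ω), Cf UU S S' D D' r r' := by
  classical
  let α := {x : Sylow 2 Y × Sylow 2 Y // ∃ (D D' : Subgroup Y) (r r' : Ω), BadP UU x.1 x.2 D D' r r'}
  have : Nonempty α := ⟨⟨(T, T'), B, C, p, p', h⟩⟩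
  obtain ⟨⟨⟨S, S'⟩, D, D', r, r', h1⟩, h2⟩ :=
    Finite.exists_max (fun x : α => Nat.card ((x.1.1 : Subgroup Y) ⊓ x.1.2 : Subgroup Y))
  exact ⟨S, S', D, D', r, r', h1, fun X X' A A' s s' hb => h2 ⟨(X, X'), A, A', s, s', hb⟩⟩

theorem sup_le_of_max [Finite Y] {R C : Subgroup Y} {N : Subgroup Y} (h1 : R ⊔ C ≤ N)
    (h2 : Nat.card N ≤ Nat.card R) : C ≤ R := by
  have h3 : R = N := Subgroup.eq_of_le_of_card_ge (le_sup_left.trans h1) h2
  rw [h3]
  exact le_sup_right.trans h1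

namespace Inp

variable {q : ℕ} {UU : Set (Subgroup Y)} [Finite Y] [Finite V] (I : Inp V q UU) (P : Pts Y Ω)
  (mx : ∀ (T : Sylow 2 Y) (p : Ω), At T p → ∀ K : Subgroup Y, (T : Subgroup Y) ≤ K → K ≠ ⊤ → ∀ k ∈ K, k • p = p)
include I P mx

section cf

variable {T T' : Sylow 2 Y} {B C : Subgroup Y} {p p' : Ω} (h : Cf UU T T' B C p p')
include h

/-- the first half -/
theorem half (ht : ∃ b ∈ B, b ≠ 1 ∧ b ∈ T') : (∃ z ∈ B, z ≠ 1 ∧ z ∈ T' ∧
      (∀ r ∈ T, r ∈ T' → r * z = z * r) ∧ ∀ c ∈ C, c * z = z * c → c ∈ T) ∧ ∃ c ∈ C, c ≠ 1 ∧ c ∈ T := by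
  have hb := h.bad
  set R : Subgroup Y := (T : Subgroup Y) ⊓ T' with hR
  have hRp : IsPGroup 2 R := T.isPGroup'.to_le inf_le_left
  have hBT := I.norm_of_le hb.m hb.l
  have hCT := I.norm_of_le hb.m' hb.l'
  obtain ⟨z, hz, hz1, hzR⟩ := exists_central (N := B ⊓ T') hRp (inf_le_inf_right _ hb.l) (by
    intro r hr
    have hr' := Subgroup.mem_inf.1 hr
    rw [mem_normalizer_iff]
    intro y
    have h1 := mem_normalizer_iff.1 (hBT hr'.1) y
    have h2 : y ∈ (T' : Subgroup Y) ↔ r * y * r⁻¹ ∈ (T' : Subgroup Y) :=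
      mem_normalizer_iff.1 (Subgroup.le_normalizer (H := (T' : Subgroup Y)) hr'.2) y
    exact and_congr h1 h2) (by
    intro h0
    obtain ⟨b, hb, hb1, hbT⟩ := ht
    apply hb1
    have : b ∈ B ⊓ (T' : Subgroup Y) := Subgroup.mem_inf.2 ⟨hb, hbT⟩
    rwa [h0, mem_bot] at this)
  obtain ⟨hzB, hzT'⟩ := Subgroup.mem_inf.1 hz
  obtain ⟨w, hw, hw1, hwT⟩ := exists_central T'.isPGroup' hb.l' hCT (by
    intro h0
    obtain ⟨c, hc, hc1⟩ := (I.mem C hb.m').exists_ne_one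
    rw [h0, mem_bot] at hc
    exact hc1 hc)
  -- `K = C_C(z)`
  set K : Subgroup Y := C ⊓ centralizer {z} with hK
  have hKmem : ∀ c, c ∈ K ↔ c ∈ C ∧ c * z = z * c := by
    intro c
    rw [hK, Subgroup.mem_inf, mem_centralizer_iff]
    simp only [Set.mem_singleton_iff, forall_eq]
    exact and_congr_right fun _ => eq_comm
  have hKp : IsPGroup 2 K := (I.mem C hb.m').two_pow.to_le inf_le_left
  have hRK : R ≤ normalizer (K : Set Y) := by
    intro r hr
    have hr' := Subgroup.mem_inf.1 hr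
    have hrz := hzR r hr
    rw [mem_normalizer_iff]
    intro y
    rw [hKmem, hKmem]
    refine and_congr (mem_normalizer_iff.1 (hCT hr'.2) y) ?_
    have e : z = r * z * r⁻¹ := by rw [hrz, mul_inv_cancel_right]
    constructor
    · intro hy
      calc r * y * r⁻¹ * z = r * y * r⁻¹ * (r * z * r⁻¹) := by rw [← e]
        _ = r * (y * z) * r⁻¹ := by group
        _ = r * (z * y) * r⁻¹ := by rw [hy]
        _ = (r * z * r⁻¹) * (r * y * r⁻¹) := by group
        _ = z * (r * y * r⁻¹) := by rw [← e]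
    · intro hy
      have e' : z = r⁻¹ * z * r := by rw [mul_assoc, ← hrz, inv_mul_cancel_left]
      calc y * z = r⁻¹ * (r * y * r⁻¹) * r * z := by group
        _ = r⁻¹ * (r * y * r⁻¹) * (r * z) := by group
        _ = r⁻¹ * (r * y * r⁻¹) * (z * r) := by rw [hrz]
        _ = r⁻¹ * ((r * y * r⁻¹) * z) * r := by group
        _ = r⁻¹ * (z * (r * y * r⁻¹)) * r := by rw [hy]
        _ = (r⁻¹ * z * r) * y := by group
        _ = z * y := by rw [← e']
  have hRKp : IsPGroup 2 (R ⊔ K : Subgroup Y) := hRp.to_sup_of_normal_right' hKp hRK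
  obtain ⟨S, hS, hSp⟩ := P.exists_sylow hRKp (p := p) (fun r hr => by
    have h1 : R ⊔ K ≤ MulAction.stabilizer Y p := by
      refine sup_le (fun r hr => hb.a r (Subgroup.mem_inf.1 hr).1) fun c hc => ?_
      exact I.cent_fix P mx hb.m hb.l hb.a hzB hz1 ((hKmem c).1 hc).2
    exact h1 hr)
  obtain ⟨D, hD, hDS⟩ := I.exists_mem_sylow hb.m S
  have hwK : w ∈ K := (hKmem w).2 ⟨hw, (hwT z hzT').symm⟩
  have h3 := h.max S T' D C p p' ⟨hD, hb.m', hDS, hb.l', hSp, hb.a', hb.ne,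
    Or.inr ⟨w, hw, hw1, hS (le_sup_right (a := R) hwK)⟩⟩
  have h4 : K ≤ R := sup_le_of_max (le_inf hS (sup_le inf_le_right (inf_le_left.trans hb.l'))) h3
  exact ⟨⟨z, hzB, hz1, hzT', fun r hr hr' => hzR r (Subgroup.mem_inf.2 ⟨hr, hr'⟩), fun c hc hcz =>
    (Subgroup.mem_inf.1 (h4 ((hKmem c).2 ⟨hc, hcz⟩))).1⟩, w, hw, hw1, (Subgroup.mem_inf.1 (h4 hwK)).1⟩

theorem t1 : ∃ b ∈ B, b ≠ 1 ∧ b ∈ T' := by
  rcases h.bad.tr with ht | ht
  · exact ht
  · exact (I.half P mx h.symm ht).2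

theorem zz : ∃ z ∈ B, z ≠ 1 ∧ z ∈ T' ∧ (∀ r ∈ T, r ∈ T' → r * z = z * r) ∧ ∀ c ∈ C, c * z = z * c → c ∈ T :=
  (I.half P mx h (I.t1 P mx h)).1

theorem norm {f : Y} (hf : f ∈ B) (hn : f ∈ normalizer (C : Set Y)) : f ∈ T' := by
  have hb := h.bad
  obtain ⟨b, hbB, hb1, hbT⟩ := I.t1 P mx h
  set R : Subgroup Y := (T : Subgroup Y) ⊓ T' with hR
  have hRp : IsPGroup 2 R := T.isPGroup'.to_le inf_le_left
  have hBT := I.norm_of_le hb.m hb.l
  have hCT := I.norm_of_le hb.m' hb.l'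
  set K : Subgroup Y := B ⊓ normalizer (C : Set Y) with hK
  have hKp : IsPGroup 2 K := (I.mem B hb.m).two_pow.to_le inf_le_left
  have hRK : R ≤ normalizer (K : Set Y) := by
    intro r hr
    have hr' := Subgroup.mem_inf.1 hr
    rw [mem_normalizer_iff]
    intro y
    have h1 := mem_normalizer_iff.1 (hBT hr'.1) y
    have h2 : y ∈ normalizer (C : Set Y) ↔ r * y * r⁻¹ ∈ normalizer (C : Set Y) :=
      mem_normalizer_iff.1 (Subgroup.le_normalizer (H := normalizer (C : Set Y)) (hCT hr'.2)) y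
    exact and_congr h1 h2
  have hRKp : IsPGroup 2 (R ⊔ K : Subgroup Y) := hRp.to_sup_of_normal_right' hKp hRK
  obtain ⟨S, hS, hSp⟩ := P.exists_sylow hRKp (p := p') (fun r hr => by
    have h1 : R ⊔ K ≤ MulAction.stabilizer Y p' := by
      refine sup_le (fun r hr => hb.a' r (Subgroup.mem_inf.1 hr).2) fun c hc => ?_
      exact I.norm_fix mx hb.m' hb.l' hb.a' (Subgroup.mem_inf.1 hc).2
    exact h1 hr)
  obtain ⟨D, hD, hDS⟩ := I.exists_mem_sylow hb.m S
  have hbR : b ∈ R := Subgroup.mem_inf.2 ⟨hb.l hbB, hbT⟩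
  have h3 := h.max T S B D p p' ⟨hb.m, hD, hb.l, hDS, hb.a, hSp, hb.ne,
    Or.inl ⟨b, hbB, hb1, hS (le_sup_left (b := K) hbR)⟩⟩
  have h4 : K ≤ R := sup_le_of_max (le_inf (sup_le inf_le_left (inf_le_left.trans hb.l)) hS) h3
  exact (Subgroup.mem_inf.1 (h4 (Subgroup.mem_inf.2 ⟨hf, hn⟩))).2

theorem disj : B ⊓ C = ⊥ := by
  have hb := h.bad
  rw [eq_bot_iff]
  intro y hy
  obtain ⟨h1, h2⟩ := Subgroup.mem_inf.1 hy
  rw [mem_bot]
  by_contra hy1
  exact hb.ne (I.eq_pt P mx hb.m hb.l hb.a h1 hy1 hb.m' hb.l' hb.a' h2 hy1 fun _ hv => hv)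

theorem comm {b c : Y} (hbB : b ∈ B) (hbT : b ∈ T') (hcC : c ∈ C) (hcT : c ∈ T) : b * c = c * b := by
  have hb := h.bad
  have hBT := I.norm_of_le hb.m hb.l
  have hCT := I.norm_of_le hb.m' hb.l'
  have h3 : b * c * b⁻¹ * c⁻¹ ∈ B ⊓ C := by
    refine Subgroup.mem_inf.2 ⟨?_, ?_⟩
    · have h4 := (mem_normalizer_iff.1 (hBT hcT) b⁻¹).1 (inv_mem hbB)
      have e : b * c * b⁻¹ * c⁻¹ = b * (c * b⁻¹ * c⁻¹) := by group
      rw [e]
      exact Subgroup.mul_mem _ hbB h4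
    · exact Subgroup.mul_mem _ ((mem_normalizer_iff.1 (hCT hbT) c).1 hcC) (Subgroup.inv_mem _ hcC)
  rw [I.disj P mx h, mem_bot, mul_inv_eq_one, mul_inv_eq_iff_eq_mul] at h3
  exact h3

/-- `[B, C ∩ T] ≤ T'` -/
theorem comm_mem {f r : Y} (hf : f ∈ B) (hr : r ∈ C) (hrT : r ∈ T) : f * r * f⁻¹ * r⁻¹ ∈ T' := by
  have hb := h.bad
  have MB := I.mem B hb.m
  have MC := I.mem C hb.m'
  have hBT := I.norm_of_le hb.m hb.l
  obtain ⟨z, hzC, -, hzT, -, hz⟩ := I.zz P mx h.symm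
  have hnz : ∀ y ∈ B, z * y * z⁻¹ ∈ B := fun y hy => (mem_normalizer_iff.1 (hBT hzT) y).1 hy
  have hz2 : z⁻¹ = z := MC.inv_eq hzC
  have hg : f * r * f⁻¹ * r⁻¹ ∈ B := by
    have h4 := (mem_normalizer_iff.1 (hBT hrT) f⁻¹).1 (inv_mem hf)
    have e : f * r * f⁻¹ * r⁻¹ = f * (r * f⁻¹ * r⁻¹) := by group
    rw [e]
    exact Subgroup.mul_mem _ hf h4
  apply hz _ hg
  -- `k = f⁻¹ f^z`
  set k : Y := f⁻¹ * (z * f * z⁻¹) with hk
  have hkB : k ∈ B := Subgroup.mul_mem _ (inv_mem hf) (hnz f hf)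
  have hkz : k * z = z * k := by
    have h5 : z * k * z⁻¹ = k⁻¹ := by
      rw [hk]
      calc z * (f⁻¹ * (z * f * z⁻¹)) * z⁻¹ = (z * f⁻¹ * z) * f * (z⁻¹ * z⁻¹) := by group
        _ = (z * f⁻¹ * z⁻¹) * f * (z⁻¹ * z) := by rw [hz2]
        _ = (f⁻¹ * (z * f * z⁻¹))⁻¹ := by group
    rw [MB.inv_eq hkB] at h5
    calc k * z = (z * k * z⁻¹) * z := by rw [h5]
      _ = z * k := by group
  have hkT : k ∈ T' := hz k hkB hkz
  have hkr : k * r = r * k := I.comm P mx h hkB hkT hr hrT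
  have hzr : z * r * z⁻¹ = r := by rw [MC.comm z hzC r hr, mul_inv_cancel_right]
  have hzf : z * f * z⁻¹ = f * k := by rw [hk]; group
  have h6 : z * (f * r * f⁻¹ * r⁻¹) * z⁻¹ = f * r * f⁻¹ * r⁻¹ := by
    calc z * (f * r * f⁻¹ * r⁻¹) * z⁻¹ = (z * f * z⁻¹) * (z * r * z⁻¹) * (z * f * z⁻¹)⁻¹ * (z * r * z⁻¹)⁻¹ := by
          group
      _ = f * k * r * (f * k)⁻¹ * r⁻¹ := by rw [hzr, hzf]
      _ = f * (k * r) * k⁻¹ * f⁻¹ * r⁻¹ := by group
      _ = f * (r * k) * k⁻¹ * f⁻¹ * r⁻¹ := by rw [hkr]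
      _ = f * r * f⁻¹ * r⁻¹ := by group
  calc f * r * f⁻¹ * r⁻¹ * z = z * (f * r * f⁻¹ * r⁻¹) * z⁻¹ * z := by rw [h6]
    _ = z * (f * r * f⁻¹ * r⁻¹) := by group

theorem card_le : q ≤ Nat.card (B ⊓ T' : Subgroup Y) := by
  have hb := h.bad
  have MB := I.mem B hb.m
  have MC := I.mem C hb.m'
  have hBT := I.norm_of_le hb.m hb.l
  obtain ⟨z, hzC, -, hzT, -, hz⟩ := I.zz P mx h.symm
  have hnz : ∀ y ∈ B, z * y * z⁻¹ ∈ B := fun y hy => (mem_normalizer_iff.1 (hBT hzT) y).1 hy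
  let φ : B →* Y := MonoidHom.mk' (fun f => (f : Y) * z * (f : Y)⁻¹ * z⁻¹) (by
    intro f g
    have hg : (g : Y) * z * (g : Y)⁻¹ * z⁻¹ ∈ B := by
      have e : (g : Y) * z * (g : Y)⁻¹ * z⁻¹ = g * (z * (g : Y)⁻¹ * z⁻¹) := by group
      rw [e]
      exact Subgroup.mul_mem _ g.2 (hnz _ (inv_mem g.2))
    have h1 := MB.comm f f.2 _ hg
    change ((f * g : B) : Y) * z * ((f * g : B) : Y)⁻¹ * z⁻¹ = _
    rw [Subgroup.coe_mul]
    calc (f : Y) * g * z * ((f : Y) * g)⁻¹ * z⁻¹ =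
        (f : Y) * ((g : Y) * z * (g : Y)⁻¹ * z⁻¹) * (z * (f : Y)⁻¹ * z⁻¹) := by group
      _ = (g : Y) * z * (g : Y)⁻¹ * z⁻¹ * f * (z * (f : Y)⁻¹ * z⁻¹) := by rw [h1]
      _ = (g : Y) * z * (g : Y)⁻¹ * z⁻¹ * ((f : Y) * z * (f : Y)⁻¹ * z⁻¹) := by group
      _ = (f : Y) * z * (f : Y)⁻¹ * z⁻¹ * ((g : Y) * z * (g : Y)⁻¹ * z⁻¹) := by
        apply MB.comm _ hg
        have e : (f : Y) * z * (f : Y)⁻¹ * z⁻¹ = f * (z * (f : Y)⁻¹ * z⁻¹) := by group
        rw [e]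
        exact Subgroup.mul_mem _ f.2 (hnz _ (inv_mem f.2)))
  have hφ : ∀ f : B, φ f = (f : Y) * z * (f : Y)⁻¹ * z⁻¹ := fun _ => rfl
  have hr : φ.range ≤ B ⊓ (T' : Subgroup Y) := by
    rintro _ ⟨f, rfl⟩
    rw [hφ]
    refine Subgroup.mem_inf.2 ⟨?_, I.comm_mem P mx h f.2 hzC hzT⟩
    have e : (f : Y) * z * (f : Y)⁻¹ * z⁻¹ = f * (z * (f : Y)⁻¹ * z⁻¹) := by group
    rw [e]
    exact Subgroup.mul_mem _ f.2 (hnz _ (inv_mem f.2))
  have hk : Nat.card φ.ker ≤ Nat.card (B ⊓ T' : Subgroup Y) := by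
    let g : φ.ker → (B ⊓ T' : Subgroup Y) := fun x => ⟨(x : B), by
      refine Subgroup.mem_inf.2 ⟨(x : B).2, hz _ (x : B).2 ?_⟩
      have h1 : φ (x : B) = 1 := x.2
      rw [hφ, mul_inv_eq_one, mul_inv_eq_iff_eq_mul] at h1
      exact h1⟩
    refine Nat.card_le_card_of_injective g fun a b hab => ?_
    have h9 : ((g a : (B ⊓ T' : Subgroup Y)) : Y) = g b := congrArg Subtype.val hab
    exact Subtype.ext (Subtype.ext h9)
  have hr' : Nat.card φ.range ≤ Nat.card (B ⊓ T' : Subgroup Y) :=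
    Nat.card_le_card_of_injective (Subgroup.inclusion hr) (Subgroup.inclusion_injective hr)
  have h1 := Subgroup.card_mul_index φ.ker
  rw [Subgroup.index_ker, I.cardB B hb.m] at h1
  by_contra hlt
  push Not at hlt
  have h2 : Nat.card φ.ker * Nat.card φ.range ≤
      Nat.card (B ⊓ T' : Subgroup Y) * Nat.card (B ⊓ T' : Subgroup Y) := Nat.mul_le_mul hk hr'
  rw [h1] at h2
  nlinarith

end cf

end Inp

end Cfsg.Agent.Omega.NO1.Alpha

end

section


/-!
# THEOREM ALPHA (text #18722, helper446), (6) second half and (7): (+)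
-/

set_option autoImplicit false
set_option linter.unusedSectionVars false

namespace Cfsg.Agent.Omega.NO1.Alpha

open Subgroup Cfsg.Agent.ZN
open Cfsg.Agent.Omega.NO1.HE (dl dl_apply dl_one dl_eq_zero dl_comm dl_mul dl_self smul_eq add_eq_zero' mem_conj
  Pts At mem_smul_sylow exists_fixed)
open scoped Pointwise

universe u

variable {Y : Type u} [Group Y] {V : Type u} [AddCommGroup V] [DistribMulAction Y V] {Ω : Type u} [MulAction Y Ω]

theorem dl_conj_smul (r t : Y) (w : V) : dl (r * t * r⁻¹) (r • w) = r • dl t w := dl_conj r t w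

namespace Inp

variable {q : ℕ} {UU : Set (Subgroup Y)} [Finite Y] [Finite V] (I : Inp V q UU)
include I

section lines

variable {B : Subgroup Y} (hB : B ∈ UU) {r : Y} (hr : r ∈ normalizer (B : Set Y))
include hB hr

theorem dlF_of {f : V} (hf : f ∈ FX V B) : dl r f ∈ FX V B := by
  rw [dl_apply]
  exact (FX V B).add_mem (smul_FX_of hr hf) hf

theorem dlE_of {e : V} (he : e ∈ EX V B) : dl r e ∈ EX V B := by
  rw [dl_apply]
  exact (EX V B).add_mem (smul_EX_of hr he) he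

/-- `r` centralises a line ⟹ `r` centralises `V / E` -/
theorem triv_of_line (hr2 : IsPGroup 2 (zpowers r)) {s : Y} (hs : s ∈ B) (hs1 : s ≠ 1)
    (hl : ∀ t ∈ ln V B s, r * t = t * r) (w : V) : dl r w ∈ EX V B := by
  have M := I.mem B hB
  obtain ⟨v, hv, hvr⟩ := exists_fixed_mod I.two hr2 (EX V B) (by
    intro x hx e he
    exact smul_EX_of ((zpowers_le.2 hr : zpowers r ≤ normalizer (B : Set Y)) hx) he) M.ne
  have hvr' := hvr r (mem_zpowers r)
  by_cases hw : w ∈ EX V B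
  · exact I.dlE_of hB hr hw
  by_contra hne
  have hxF : dl s v ∉ FX V B := I.dl_notF hB hs hs1 hv
  obtain ⟨s', hs', hx⟩ := M.surj w hw (dl s v) (M.VB s hs v)
  have hxF' : dl s' w ∉ FX V B := fun h => hxF ((add_mem_iff I.two hx).1 h)
  have hs1' : s' ≠ 1 := by
    rintro rfl
    exact hxF' (by rw [dl_one I.two]; exact (FX V B).zero_mem)
  have hsx : s • dl s v = dl s v := (dl_eq_zero I.two).1 (dl_self I.two (M.sq s hs) v)
  have hsx' : s' • dl s v = dl s v := by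
    have h1 : dl s' (dl s' w + dl s v) = 0 := M.dl0 I.two hs' hx
    rw [map_add, dl_self I.two (M.sq s' hs'), zero_add] at h1
    exact (dl_eq_zero I.two).1 h1
  have hmem : s' ∈ ln V B s := ⟨hs', fun v hv => I.same hB hs hs1 hs' hxF hsx hsx' hv⟩
  have h1 : dl r (dl s v) ∈ FX V B := by
    rw [dl_comm (hl s (self_mem_ln hs))]
    exact M.dlF hs hvr'
  have h2 : dl r (dl s' w) ∈ FX V B := by
    have h3 := I.dlF_of hB hr hx
    rw [map_add] at h3
    exact (add_mem_iff I.two h3).2 h1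
  rw [dl_comm (hl s' hmem)] at h2
  exact I.dl_notF hB hs' hs1' hne h2

/-- `r` centralises `V / E` and `t` ⟹ `r` centralises the line of `t` -/
theorem comm_line (htr : ∀ w : V, dl r w ∈ EX V B) {t : Y} (ht : t ∈ B) (ht1 : t ≠ 1) (hc : r * t = t * r)
    {t' : Y} (ht' : t' ∈ ln V B t) : r * t' = t' * r := by
  have M := I.mem B hB
  by_cases h1 : t' = 1
  · rw [h1, mul_one, one_mul]
  obtain ⟨v, hv⟩ := M.ne
  have hxF : dl t v ∉ FX V B := I.dl_notF hB ht ht1 hv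
  have hx : t • dl t v = dl t v := (dl_eq_zero I.two).1 (dl_self I.two (M.sq t ht) v)
  obtain ⟨w, hw⟩ := I.exists_dl hB ht'.1 h1 (ht'.2 _ hx)
  have hwE : w ∉ EX V B := I.notE hB ht'.1 (by rw [hw]; exact hxF)
  have h2 : dl r (dl t v) ∈ FX V B := by
    rw [dl_comm hc]
    exact M.dlF ht (htr v)
  have ht'' : r * t' * r⁻¹ ∈ B := (mem_normalizer_iff.1 hr t').1 ht'.1
  have h3 : dl (r * t' * r⁻¹) w + dl t' w ∈ FX V B := by
    have h4 := dl_conj_smul r t' w
    rw [smul_eq I.two r w, map_add] at h4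
    have h5 : dl (r * t' * r⁻¹) (dl r w) ∈ FX V B := M.dlF ht'' (htr w)
    have h6 : dl (r * t' * r⁻¹) w + r • dl t' w ∈ FX V B := by
      rw [← h4, ← add_assoc, I.two, zero_add]
      exact h5
    refine add_trans I.two h6 ?_
    rw [hw]
    exact h2
  have h4 := I.eq_of hB hwE ht'' ht'.1 h3
  rw [mul_inv_eq_iff_eq_mul] at h4
  exact h4

end lines

variable (P : Pts Y Ω)
  (mx : ∀ (T : Sylow 2 Y) (p : Ω), At T p → ∀ K : Subgroup Y, (T : Subgroup Y) ≤ K → K ≠ ⊤ → ∀ k ∈ K, k • p = p)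
include P mx

section cf

variable {T T' : Sylow 2 Y} {B C : Subgroup Y} {p p' : Ω} (h : Cf UU T T' B C p p')
include h

/-- if `B ∩ T'` contains a line, it is a line -/
theorem eq_line {s : Y} (hs : s ∈ B) (hs1 : s ≠ 1) (hl : ∀ t ∈ ln V B s, t ∈ T') {f : Y} (hf : f ∈ B)
    (hfT : f ∈ T') : f ∈ ln V B s := by
  by_contra hne
  have hb := h.bad
  have MB := I.mem B hb.m
  have MC := I.mem C hb.m'
  have hBT := I.norm_of_le hb.m hb.l
  have hf1 : f ≠ 1 := fun h1 => hne (h1 ▸ one_mem _)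
  have key : ∀ r ∈ C ⊓ (T : Subgroup Y), ∀ b ∈ B, r * b = b * r := by
    intro r hr
    obtain ⟨hrC, hrT⟩ := Subgroup.mem_inf.1 hr
    have hrn := hBT hrT
    have hr2 : IsPGroup 2 (zpowers r) := MC.two_pow.to_le (zpowers_le.2 hrC)
    have hl' : ∀ t ∈ ln V B s, r * t = t * r := fun t ht => (I.comm P mx h ht.1 (hl t ht) hrC hrT).symm
    have htr := I.triv_of_line hb.m hrn hr2 hs hs1 hl'
    have h1 := I.eq_of_two_lines hb.m (R := B ⊓ centralizer {r}) inf_le_left hs hs1 hf hne (by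
      intro t ht
      refine Subgroup.mem_inf.2 ⟨ht.1, mem_centralizer_iff.2 fun x hx => ?_⟩
      rw [Set.mem_singleton_iff] at hx
      rw [hx]
      exact hl' t ht) (by
      intro t ht
      refine Subgroup.mem_inf.2 ⟨ht.1, mem_centralizer_iff.2 fun x hx => ?_⟩
      rw [Set.mem_singleton_iff] at hx
      rw [hx]
      exact I.comm_line hb.m hrn htr hf hf1 (I.comm P mx h hf hfT hrC hrT).symm ht)
    intro b hbB
    rw [← h1] at hbB
    exact mem_centralizer_iff.1 (Subgroup.mem_inf.1 hbB).2 r rfl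
  have h1 := I.card_lt hb.m (D := C ⊓ (T : Subgroup Y))
    (fun a ha b hb => MC.comm a (Subgroup.mem_inf.1 ha).1 b (Subgroup.mem_inf.1 hb).1)
    (fun a ha => MC.sq a (Subgroup.mem_inf.1 ha).1) key (by
      rw [eq_bot_iff, ← I.disj P mx h]
      intro y hy
      obtain ⟨h2, h3⟩ := Subgroup.mem_inf.1 hy
      exact Subgroup.mem_inf.2 ⟨h3, (Subgroup.mem_inf.1 h2).1⟩)
  have h2 := I.card_le P mx h.symm
  omega

/-- if `B ∩ T'` is a line, `C ∩ T` centralises `F_B` -/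
theorem fix_F {s : Y} (hs : s ∈ B) (hs1 : s ≠ 1) (hsT : s ∈ T') (hl : ∀ f ∈ B, f ∈ T' → f ∈ ln V B s)
    (hl' : ∀ t ∈ ln V B s, t ∈ T') {f : V} (hf : f ∈ FX V B) {r : Y} (hrC : r ∈ C) (hrT : r ∈ T) : r • f = f := by
  have hb := h.bad
  have MB := I.mem B hb.m
  have MC := I.mem C hb.m'
  have hrn := I.norm_of_le hb.m hb.l hrT
  have hr2 : IsPGroup 2 (zpowers r) := MC.two_pow.to_le (zpowers_le.2 hrC)
  have htr := I.triv_of_line hb.m hrn hr2 hs hs1
    (fun t ht => (I.comm P mx h ht.1 (hl' t ht) hrC hrT).symm)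
  obtain ⟨v, hv⟩ := MB.ne
  have hsF : ∀ f ∈ FX V B, dl s f = 0 := fun f hf => MB.dl0 I.two hs hf
  -- `s` centralises `[E, r]`
  have key : ∀ e ∈ EX V B, dl s (dl r e) = 0 := by
    intro e he
    obtain ⟨u, hu, hue⟩ := MB.surj v hv e he
    have h1 : dl s (dl r (dl u v + e)) = 0 := hsF _ (I.dlF_of hb.m hrn hue)
    rw [map_add, map_add] at h1
    rw [← (add_eq_zero' I.two).1 h1]
    -- `u' = u^r`
    have hu' : r * u * r⁻¹ ∈ B := (mem_normalizer_iff.1 hrn u).1 hu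
    have hcB : r * u * r⁻¹ * u ∈ B := mul_mem hu' hu
    have hcT : r * u * r⁻¹ * u ∈ T' := by
      have h2 := I.comm_mem P mx h hu hrC hrT
      have e1 : r * u * r⁻¹ * u = (u * r * u⁻¹ * r⁻¹)⁻¹ := by
        have : u⁻¹ = u := MB.inv_eq hu
        calc r * u * r⁻¹ * u = r * u * r⁻¹ * u⁻¹ := by rw [this]
          _ = _ := by group
      rw [e1]
      exact inv_mem h2
    have hc := hl _ hcB hcT
    have h2 : dl s (dl (r * u * r⁻¹ * u) v) = 0 := by
      by_cases hc1 : r * u * r⁻¹ * u = 1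
      · rw [hc1, dl_one I.two, map_zero]
      · rw [dl_eq_zero I.two]
        exact I.ln_symm hb.m hs hs1 hc hc1
          ((dl_eq_zero I.two).1 (dl_self I.two (MB.sq _ hcB) v))
    have h3 : dl r (dl u v) = dl (r * u * r⁻¹ * u) v + dl (r * u * r⁻¹) (dl u v) +
        dl (r * u * r⁻¹) (dl r v) := by
      have h4 := dl_conj_smul r u v
      rw [smul_eq I.two r v, map_add, smul_eq I.two r (dl u v)] at h4
      rw [dl_mul I.two]
      have h5 : dl r (dl u v) = dl u v + (dl (r * u * r⁻¹) v + dl (r * u * r⁻¹) (dl r v)) := by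
        rw [h4, ← add_assoc, I.two, zero_add]
      rw [h5]
      have h6 : dl (r * u * r⁻¹) v + dl u v + dl (r * u * r⁻¹) (dl u v) + dl (r * u * r⁻¹) (dl u v) +
          dl (r * u * r⁻¹) (dl r v) = dl u v + (dl (r * u * r⁻¹) v + dl (r * u * r⁻¹) (dl r v)) +
          (dl (r * u * r⁻¹) (dl u v) + dl (r * u * r⁻¹) (dl u v)) := by abel
      rw [h6, I.two, add_zero]
    rw [h3, map_add, map_add, h2, hsF _ (MB.dlF hu' (MB.VB u hu v)), hsF _ (MB.dlF hu' (htr v)), add_zero,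
      add_zero]
  obtain ⟨e, he, rfl⟩ := I.EF B hb.m s hs hs1 f hf
  rw [← dl_eq_zero I.two, dl_comm (I.comm P mx h hs hsT hrC hrT).symm]
  exact key e he

/-- if `B ∩ T'` contains no line, `C_V(B ∩ T') = F_B` -/
theorem fix_of_not_line (hn : ¬ ∃ s ∈ B, s ≠ 1 ∧ ∀ t ∈ ln V B s, t ∈ T') {v : V}
    (hv : ∀ b ∈ B, b ∈ T' → b • v = v) : v ∈ FX V B := by
  by_contra hvF
  have hb := h.bad
  obtain ⟨s, hs, hs1, hsT⟩ := I.t1 P mx h
  have h1 : B ⊓ (T' : Subgroup Y) ≤ ln V B s :=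
    I.le_ln hb.m inf_le_left hvF (fun r hr => hv r (Subgroup.mem_inf.1 hr).1 (Subgroup.mem_inf.1 hr).2)
      (Subgroup.mem_inf.2 ⟨hs, hsT⟩) hs1
  have h2 : B ⊓ (T' : Subgroup Y) = ln V B s :=
    Subgroup.eq_of_le_of_card_ge h1 (by rw [I.card_ln hb.m hs hs1]; exact I.card_le P mx h)
  exact hn ⟨s, hs, hs1, fun t ht => by rw [← h2] at ht; exact (Subgroup.mem_inf.1 ht).2⟩

/-- `F_B ∩ F_C = 0` -/
theorem disjF {w : V} (hw : w ≠ 0) (hwB : w ∈ FX V B) (hwC : w ∈ FX V C) : False := by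
  have hb := h.bad
  obtain ⟨D, hD⟩ := I.soc w hw
  -- each side
  have key : ∀ {T T' : Sylow 2 Y} {B C : Subgroup Y} {p p' : Ω}, Cf UU T T' B C p p' → w ∈ FX V B →
      w ∈ FX V C → ∃ s ∈ B, s ≠ 1 ∧ (∀ f ∈ B, f ∈ T' → f ∈ ln V B s) ∧ (∀ t ∈ ln V B s, t ∈ T') ∧
      ∀ v, v ∉ EX V B → (∀ a ∈ ln V B s, ∃ e ∈ D, dl a v + e ∈ FX V B) ∧
        ∀ e ∈ D, ∃ a ∈ ln V B s, dl a v + e ∈ FX V B := by
    intro T T' B C p p' h hwB hwC
    have hb := h.bad
    have MB := I.mem B hb.m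
    obtain ⟨A, hAB, hA1, hAn, hAD⟩ := hD B hb.m hwB
    obtain ⟨⟨s, hsA⟩, hs1'⟩ := Subgroup.ne_bot_iff_exists_ne_one.mp hA1
    have hs1 : s ≠ 1 := fun h1 => hs1' (Subtype.ext h1)
    have hsB := hAB hsA
    have hln : ln V B s ≤ A := by
      intro t ht
      by_cases ht1 : t = 1
      · rw [ht1]; exact one_mem _
      obtain ⟨v, hv⟩ := MB.ne
      have hxF : dl s v ∉ FX V B := I.dl_notF hb.m hsB hs1 hv
      have hx : s • dl s v = dl s v := (dl_eq_zero I.two).1 (dl_self I.two (MB.sq s hsB) v)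
      obtain ⟨w', hw'⟩ := I.exists_dl hb.m ht.1 ht1 (ht.2 _ hx)
      have hwE : w' ∉ EX V B := I.notE hb.m ht.1 (by rw [hw']; exact hxF)
      obtain ⟨e, he, hse⟩ := (hAD v hv).1 s hsA
      obtain ⟨a, ha, hae⟩ := (hAD w' hwE).2 e he
      have h1 : dl a w' + dl t w' ∈ FX V B := by
        rw [hw']
        refine add_trans I.two hae ?_
        rwa [add_comm]
      rw [← I.eq_of hb.m hwE (hAB ha) ht.1 h1]
      exact ha
    have hAT : ∀ a ∈ A, a ∈ T' := fun a ha => I.norm P mx h (hAB ha) (hAn C hb.m' hwC ha)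
    have hl' : ∀ t ∈ ln V B s, t ∈ T' := fun t ht => hAT t (hln ht)
    have hl : ∀ f ∈ B, f ∈ T' → f ∈ ln V B s := fun f hf hfT => I.eq_line P mx h hsB hs1 hl' hf hfT
    have hAl : A = ln V B s := le_antisymm (fun a ha => hl a (hAB ha) (hAT a ha)) hln
    refine ⟨s, hsB, hs1, hl, hl', ?_⟩
    rw [← hAl]
    exact hAD
  obtain ⟨s, hs, hs1, hl, hl', hsD⟩ := key h hwB hwC
  obtain ⟨t, ht, ht1, hlt, hlt', htD⟩ := key h.symm hwC hwB
  have MB := I.mem B hb.m
  have MC := I.mem C hb.m'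
  have htT : t ∈ T := hlt' t (self_mem_ln ht)
  have hsT : s ∈ T' := hl' s (self_mem_ln hs)
  have hFB : ∀ f ∈ FX V B, t • f = f := fun f hf => I.fix_F P mx h hs hs1 hsT hl hl' hf ht htT
  -- `E_w ≤ C_V(t)`
  have hDt : ∀ e ∈ D, t • e = e := by
    intro e he
    obtain ⟨v, hv⟩ := MC.ne
    obtain ⟨a, ha, hae⟩ := (htD v hv).2 e he
    have h1 : t • dl a v = dl a v := by
      by_cases ha1 : a = 1
      · rw [ha1, dl_one I.two, smul_zero]
      · exact I.ln_symm hb.m' ht ht1 ha ha1 ((dl_eq_zero I.two).1 (dl_self I.two (MC.sq a ha.1) v))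
    have h2 := hae t ht
    rw [smul_add, h1] at h2
    exact add_left_cancel h2
  -- `C_V(s) ≤ C_V(t)`
  have hst : ∀ x : V, s • x = x → t • x = x := by
    intro x hx
    by_cases hxF : x ∈ FX V B
    · exact hFB x hxF
    obtain ⟨w', rfl⟩ := I.exists_dl hb.m hs hs1 hx
    have hwE : w' ∉ EX V B := I.notE hb.m hs hxF
    obtain ⟨e, he, hse⟩ := (hsD w' hwE).1 s (self_mem_ln hs)
    have h2 := hFB _ hse
    rw [smul_add, hDt e he] at h2
    exact add_right_cancel h2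
  exact hb.ne (I.eq_pt P mx hb.m hb.l hb.a hs hs1 hb.m' hb.l' hb.a' ht ht1 hst)

theorem not_line_of (hL : ∃ s ∈ B, s ≠ 1 ∧ ∀ t ∈ ln V B s, t ∈ T') : ∃ t ∈ C, t ≠ 1 ∧ ∀ x ∈ ln V C t, x ∈ T := by
  by_contra hn
  have hb := h.bad
  obtain ⟨s, hs, hs1, hl'⟩ := hL
  have hl : ∀ f ∈ B, f ∈ T' → f ∈ ln V B s := fun f hf hfT => I.eq_line P mx h hs hs1 hl' hf hfT
  have h1 : FX V B ≤ FX V C := fun f hf => I.fix_of_not_line P mx h.symm hn fun b hbC hbT =>
    I.fix_F P mx h hs hs1 (hl' s (self_mem_ln hs)) hl hl' hf hbC hbT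
  have h2 := I.ext_of_le hb.m hb.m' h1
  have h3 := I.disj P mx h
  rw [← h2, inf_idem] at h3
  rw [h3, mem_bot] at hs
  exact hs1 hs

theorem false_of_cf : False := by
  have hb := h.bad
  have MB := I.mem B hb.m
  have MC := I.mem C hb.m'
  by_cases hL : ∃ s ∈ B, s ≠ 1 ∧ ∀ t ∈ ln V B s, t ∈ T'
  · obtain ⟨t, ht, ht1, hlt'⟩ := I.not_line_of P mx h hL
    obtain ⟨s, hs, hs1, hl'⟩ := hL
    have hl : ∀ f ∈ B, f ∈ T' → f ∈ ln V B s := fun f hf hfT => I.eq_line P mx h hs hs1 hl' hf hfT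
    have hlt : ∀ f ∈ C, f ∈ T → f ∈ ln V C t := fun f hf hfT => I.eq_line P mx h.symm ht ht1 hlt' hf hfT
    have hsT : s ∈ T' := hl' s (self_mem_ln hs)
    have htT : t ∈ T := hlt' t (self_mem_ln ht)
    -- `F_B`, `F_C ≤ C_V(s), C_V(t)`
    have h1 : ∀ f ∈ FX V B, t • f = f := fun f hf => I.fix_F P mx h hs hs1 hsT hl hl' hf ht htT
    have h2 : ∀ f ∈ FX V C, s • f = f := fun f hf => I.fix_F P mx h.symm ht ht1 htT hlt hlt' hf hs hsT
    have hdis : FX V B ⊓ FX V C = ⊥ := by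
      rw [eq_bot_iff]
      intro w hw
      rw [AddSubgroup.mem_bot]
      by_contra hw0
      exact I.disjF P mx h hw0 (AddSubgroup.mem_inf.1 hw).1 (AddSubgroup.mem_inf.1 hw).2
    -- the sum has order `q²`
    have h3 : Nat.card (FX V B ⊔ FX V C : AddSubgroup V) = q ^ 2 := by
      let f : FX V B × FX V C →+ V := (FX V B).subtype.coprod (FX V C).subtype
      have hf : ∀ x : FX V B × FX V C, f x = x.1 + x.2 := fun _ => rfl
      have hinj : Function.Injective f := by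
        rw [injective_iff_map_eq_zero]
        rintro ⟨a, b⟩ hab
        rw [hf] at hab
        have h4 : (a : V) = b := (add_eq_zero' I.two).1 hab
        have h5 : (a : V) ∈ FX V B ⊓ FX V C := AddSubgroup.mem_inf.2 ⟨a.2, h4 ▸ b.2⟩
        rw [hdis, AddSubgroup.mem_bot] at h5
        exact Prod.ext (Subtype.ext h5) (Subtype.ext (h4 ▸ h5))
      have hr : f.range = FX V B ⊔ FX V C := by
        ext x
        rw [AddSubgroup.mem_sup]
        constructor
        · rintro ⟨⟨a, b⟩, rfl⟩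
          exact ⟨a, a.2, b, b.2, rfl⟩
        · rintro ⟨a, ha, b, hb, rfl⟩
          exact ⟨(⟨a, ha⟩, ⟨b, hb⟩), rfl⟩
      rw [← hr, ← Nat.card_congr (AddMonoidHom.ofInjective hinj).toEquiv, Nat.card_prod, I.cardF B hb.m,
        I.cardF C hb.m', pow_two]
    have h4 : FX V B ⊔ FX V C = (dl s : V →+ V).ker := by
      refine AddSubgroup.eq_of_le_of_card_ge (sup_le (fun f hf => ?_) (fun f hf => ?_)) (by
        rw [h3, I.card_ker hb.m hs hs1])
      · exact MB.dl0 I.two hs hf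
      · exact (dl_eq_zero I.two).2 (h2 f hf)
    have h5 : FX V B ⊔ FX V C ≤ (dl t : V →+ V).ker :=
      sup_le (fun f hf => (dl_eq_zero I.two).2 (h1 f hf)) (fun f hf => MC.dl0 I.two ht hf)
    refine hb.ne (I.eq_pt P mx hb.m hb.l hb.a hs hs1 hb.m' hb.l' hb.a' ht ht1 fun x hx => ?_)
    have h6 : x ∈ (dl s : V →+ V).ker := (dl_eq_zero I.two).2 hx
    rw [← h4] at h6
    exact (dl_eq_zero I.two).1 (h5 h6)
  · have hn : ¬ ∃ t ∈ C, t ≠ 1 ∧ ∀ x ∈ ln V C t, x ∈ T := fun h1 => hL (I.not_line_of P mx h.symm h1)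
    -- a fixed vector of `T ∩ T'`
    obtain ⟨v, hv⟩ := MB.ne
    obtain ⟨w, -, hw0, hw⟩ := exists_fixed I.two (R := (T : Subgroup Y) ⊓ T') (T.isPGroup'.to_le inf_le_left)
      (⊤ : AddSubgroup V) (fun _ _ _ _ => trivial) ⟨v, trivial, fun h0 => hv (h0 ▸ (EX V B).zero_mem)⟩
    exact I.disjF P mx h hw0
      (I.fix_of_not_line P mx h hL fun b hbB hbT => hw b (Subgroup.mem_inf.2 ⟨hb.l hbB, hbT⟩))
      (I.fix_of_not_line P mx h.symm hn fun b hbC hbT => hw b (Subgroup.mem_inf.2 ⟨hbT, hb.l' hbC⟩))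

end cf

/-- **(6)** -/
theorem eq_of_fix {B : Subgroup Y} (hB : B ∈ UU) {T : Sylow 2 Y} (hT : B ≤ T) {p : Ω} (hp : At T p) {b : Y}
    (hb : b ∈ B) (hb1 : b ≠ 1) {p' : Ω} (hbp : b • p' = p') : p = p' := by
  by_contra hne
  obtain ⟨T', hT', hp'⟩ := P.exists_sylow (R := zpowers b) ((I.mem B hB).two_pow.to_le (zpowers_le.2 hb))
    (p := p') (fun r hr => (zpowers_le.2 (show b ∈ MulAction.stabilizer Y p' from hbp)) hr)
  obtain ⟨C, hC, hCT⟩ := I.exists_mem_sylow hB T'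
  obtain ⟨S, S', D, D', r, r', hcf⟩ := exists_cf (UU := UU) (T := T) (T' := T') (B := B) (C := C) (p := p)
    (p' := p') ⟨hB, hC, hT, hCT, hp, hp', hne, Or.inl ⟨b, hb, hb1, hT' (mem_zpowers b)⟩⟩
  exact I.false_of_cf P mx hcf

/-- **(7)** : (+) -/
theorem plus {B : Subgroup Y} (hB : B ∈ UU) {T : Sylow 2 Y} (hT : B ≤ T) {p : Ω} (hp : At T p) (T' : Sylow 2 Y)
    (p' : Ω) (hp' : At T' p') (h : ∃ v ∈ EX V B, v ≠ 0 ∧ ∀ t ∈ T', t • v = v) : p' = p := by
  have M := I.mem B hB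
  obtain ⟨v, hvE, hv0, hv⟩ := h
  -- `C_B(v) ≠ 1`
  obtain ⟨b, hb, hb1, hbv⟩ : ∃ b ∈ B, b ≠ 1 ∧ b • v = v := by
    by_contra hcon
    push Not at hcon
    let g : B → FX V B := fun b => ⟨dl b v, M.dlF b.2 hvE⟩
    have hg : Function.Injective g := by
      intro a c hac
      have h1 : dl (a : Y) v = dl (c : Y) v := congrArg Subtype.val hac
      have h2 : ((a * c : B) : Y) • v = v := by
        rw [← dl_eq_zero I.two, Subgroup.coe_mul, dl_mul I.two, h1, I.two, zero_add]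
        exact M.dl0 I.two a.2 (M.dlF c.2 hvE)
      by_contra hne
      refine hcon _ (a * c).2 (fun h3 => hne ?_) h2
      have h4 : (a : Y) * c = 1 := h3
      rw [mul_eq_one_iff_eq_inv, M.inv_eq c.2] at h4
      exact Subtype.ext h4
    have h1 := Nat.card_le_card_of_injective g hg
    rw [I.cardB B hB, I.cardF B hB] at h1
    have := I.q_lt_sq hB
    omega
  -- `C_Y(v) ≤ M'`
  have h1 : MulAction.stabilizer Y v ≠ ⊤ := by
    intro h1
    rcases I.irr (AddSubgroup.zmultiples v) (fun y x hx => by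
      obtain ⟨n, rfl⟩ := AddSubgroup.mem_zmultiples_iff.1 hx
      have h2 : y ∈ MulAction.stabilizer Y v := h1 ▸ mem_top y
      have h3 : y • v = v := h2
      refine AddSubgroup.mem_zmultiples_iff.2 ⟨n, ?_⟩
      rw [smul_comm, h3]) with h2 | h2
    · rw [AddSubgroup.zmultiples_eq_bot] at h2
      exact hv0 h2
    · have h3 := Nat.card_zmultiples v
      have h4 : addOrderOf v = 2 := by
        refine addOrderOf_eq_prime ?_ hv0
        rw [two_nsmul]; exact I.two v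
      rw [h2, h4, AddSubgroup.card_top, I.cardV] at h3
      have h5 := I.two_le_q hB
      have h6 : 2 ^ 4 ≤ q ^ 4 := Nat.pow_le_pow_left h5 4
      omega
  have h2 := mx T' p' hp' _ (fun t ht => hv t ht) h1 b hbv
  exact (I.eq_of_fix P mx hB hT hp hb hb1 h2).symm

end Inp

end Cfsg.Agent.Omega.NO1.Alpha

end
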