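import Cfsg.Agent.Mrg.Omega.NO1.Alpha.Trick
import Cfsg.Agent.Mrg.Omega.NO1.HE.End
import Cfsg.Agent.Mrg.Omega.NO1.Alpha.Defs
import Cfsg.Agent.Mrg.Omega.NO1.HE.Plug
import Cfsg.Agent.Mrg.Omega.NO1.AB.Loc

section


/-!
# THEOREM ALPHA (text #18722, helper446): (3), `L` on `V`

For `H : AL V UU L`, members `D ≠ D'` in `L`: `|D| = q²`, `|F_D| = q`, `|V| = q⁴`, `V = F_D ⊕ E_D'`, `F_D = [E_D, b]`, `L` is
irreducible on `V`, `D` is transitive on the other members, `N_L(D) ∩ N_L(D')` is transitive on `D#`.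
-/

set_option autoImplicit false
set_option linter.unusedSectionVars false

namespace Cfsg.Agent.Omega.NO1.Alpha

open Subgroup Cfsg.Agent.ZN
open Cfsg.Agent.Omega.NO1.HE (dl dl_apply dl_one dl_eq_zero dl_comm dl_mul dl_self smul_eq add_eq_zero' mem_conj
  exists_fixed mem_smul_sylow At Pts Geo)
open Cfsg.Agent.MinSimple.VModule (o2_isPGroup le_normalizer_o2 o2_le)
open scoped Pointwise

universe u

variable {Y : Type u} [Group Y] {V : Type u} [AddCommGroup V] [DistribMulAction Y V] [Finite Y] [Finite V]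

namespace AL

variable {UU : Set (Subgroup Y)} {L : Subgroup Y} {q : ℕ} {D D' : Subgroup Y}

theorem core (H : AL V UU L) (K : Cls V q UU) : ∀ N : Subgroup L, N.Normal → IsPGroup 2 N → N = ⊥ := by
  intro N hN h2
  have h1 : N ≤ pCore 2 L := Lib.Cores.le_pCore hN h2
  have h3 : N.map L.subtype ≤ o2 L := map_mono h1
  rw [H.o2_eq K, le_bot_iff, map_eq_bot_iff_of_injective _ L.subtype_injective] at h3
  exact h3

theorem exists_pair (H : AL V UU L) (K : Cls V q UU) (hD : D ∈ UU) (hDL : D ≤ L) :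
    ∃ C, Pair UU D C L := by
  obtain ⟨D', hD', hDL', hne⟩ := H.exists_ne D
  exact ⟨D', H.pair K hD hD' hDL hDL' hne.symm⟩

/-- the point of `D` -/
abbrev pt (D L : Subgroup Y) : L ⧸ Pair.Mx D L := ((1 : L) : L ⧸ Pair.Mx D L)

theorem pts (H : AL V UU L) (K : Cls V q UU) (hD : D ∈ UU) (hDL : D ≤ L) : Pts L (L ⧸ Pair.Mx D L) := by
  obtain ⟨C, P⟩ := H.exists_pair K hD hDL
  obtain ⟨T, hT⟩ := P.exists_sylow K
  refine HE.pts_of (T := T) (H.core K) (P.le_Mx K hT (P.sylow_ne K T)) (P.Mx_ne K)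
    (fun R hR hne => P.le_Mx K (hT.trans hR) hne) fun h => ?_
  obtain ⟨b, hb, hb1⟩ := (K.mem D hD).exists_ne_one
  have h1 : (⟨b, hDL hb⟩ : L) ∈ (T : Subgroup L) := hT (mem_subgroupOf.2 hb)
  rw [h, mem_bot] at h1
  exact hb1 (congrArg Subtype.val h1)

theorem smul_pt_eq {x y : L} : x • pt D L = y • pt D L ↔ MulAut.conj (x : Y) • D = MulAut.conj (y : Y) • D := by
  change ((x * 1 : L) : L ⧸ Pair.Mx D L) = ((y * 1 : L) : L ⧸ Pair.Mx D L) ↔ _
  rw [mul_one, mul_one, QuotientGroup.eq, mem_subgroupOf]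
  change (x : Y)⁻¹ * (y : Y) ∈ normalizer (D : Set Y) ↔ _
  rw [← conj_eq_iff, map_mul, mul_smul, map_inv, inv_smul_eq_iff, eq_comm]

/-- **the frame of `D`** -/
theorem exists_fr (H : AL V UU L) (K : Cls V q UU) (hD : D ∈ UU) (hDL : D ≤ L) :
    ∃ T : Sylow 2 L, HE.Fr q T (pt D L) (EX V D) (FX V D) (D.subgroupOf L) := by
  obtain ⟨C, P⟩ := H.exists_pair K hD hDL
  obtain ⟨T, hT⟩ := P.exists_sylow K
  have hm := K.mem D hD
  have hTM := P.le_Mx K hT (P.sylow_ne K T)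
  have hat : At T (pt D L) := by
    intro t ht
    have h1 : t • pt D L = (1 : L) • pt D L := by
      rw [smul_pt_eq, OneMemClass.coe_one, map_one, one_smul]
      exact conj_eq_iff.2 (mem_subgroupOf.1 (hTM ht))
    rwa [one_smul] at h1
  refine ⟨T, ?_⟩
  exact
    { at' := hat
      ind := hm.ind
      BT := hT
      comm := fun b hb c hc => Subtype.ext (hm.comm b (mem_subgroupOf.1 hb) c (mem_subgroupOf.1 hc))
      sq := fun b hb => Subtype.ext (hm.sq b (mem_subgroupOf.1 hb))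
      FE := hm.FE K.two
      VB := fun b hb v => hm.VB b (mem_subgroupOf.1 hb) v
      EB := fun b hb e he => hm.dlF (mem_subgroupOf.1 hb) he
      FB := fun b hb f hf => hf b (mem_subgroupOf.1 hb)
      CB := fun v hv b hb => hv ⟨b, hDL hb⟩ (mem_subgroupOf.2 hb)
      inj := fun w hw b hb h1 => Subtype.ext (hm.inj w hw b (mem_subgroupOf.1 hb) h1)
      surj := by
        intro w hw e he
        obtain ⟨b, hb, h1⟩ := hm.surj w hw e he
        exact ⟨⟨b, hDL hb⟩, mem_subgroupOf.2 hb, h1⟩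
      ne := hm.ne
      ne' := hm.ne'
      plus := by
        rintro T' r hr ⟨v, hvE, hv0, hfix⟩
        obtain ⟨x, rfl⟩ := MulAction.exists_smul_eq L T T'
        have h1 : r = x • pt D L := (H.pts K hD hDL).one _ _ _ hr (hat.smul x)
        rw [h1]
        have h3 : MulAut.conj (x : Y) • D = D := by
          by_contra hne
          refine hv0 (H.disj K hD (K.conj D hD x) hDL (Pair.conj_le hDL x.2) (Ne.symm hne) hvE ?_)
          intro b hb
          rw [mem_conj] at hb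
          have h4 : (⟨(x : Y)⁻¹ * b * x, hDL hb⟩ : L) ∈ T := hT (mem_subgroupOf.2 hb)
          have hbL : b ∈ L := Pair.conj_le hDL x.2 (mem_conj.2 hb)
          exact hfix ⟨b, hbL⟩ (by rw [mem_smul_sylow]; exact h4)
        have h4 : x • pt D L = (1 : L) • pt D L := by
          rw [smul_pt_eq, h3, OneMemClass.coe_one, map_one, one_smul]
        rw [h4, one_smul] }

theorem fr_congr {Z Ω : Type u} [Group Z] [DistribMulAction Z V] [MulAction Z Ω] {a : ℕ} {T : Sylow 2 Z} {p : Ω}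
    {E F E' F' : AddSubgroup V} {B B' : Subgroup Z} (h : HE.Fr a T p E F B) (hE : E = E') (hF : F = F')
    (hB : B = B') : HE.Fr a T p E' F' B' := by
  subst hE hF hB
  exact h

/-- the frames of `D` and `D'` -/
theorem exists_frs (H : AL V UU L) (K : Cls V q UU) (hD : D ∈ UU) (hD' : D' ∈ UU)
    (hDL : D ≤ L) (hDL' : D' ≤ L) (hne : D ≠ D') :
    ∃ (T T' : Sylow 2 L) (r : L ⧸ Pair.Mx D L), HE.Fr q T (pt D L) (EX V D) (FX V D) (D.subgroupOf L) ∧
      HE.Fr q T' r (EX V D') (FX V D') (D'.subgroupOf L) ∧ pt D L ≠ r := by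
  obtain ⟨T, hT⟩ := H.exists_fr K hD hDL
  obtain ⟨x, hx, rfl⟩ := (H.pair K hD hD' hDL hDL' hne).exists_conj K
  refine ⟨T, (⟨x, hx⟩ : L) • T, (⟨x, hx⟩ : L) • pt D L, hT, ?_, ?_⟩
  · refine fr_congr (hT.smul ⟨x, hx⟩) ?_ ?_ ?_
    · ext v
      rw [AddSubgroup.mem_pointwise_smul_iff_inv_smul_mem]
      change x⁻¹ • v ∈ EX V D ↔ _
      rw [← smul_mem_EX (g := x), smul_inv_smul]
    · ext v
      rw [AddSubgroup.mem_pointwise_smul_iff_inv_smul_mem]
      change x⁻¹ • v ∈ FX V D ↔ _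
      rw [← smul_mem_FX (g := x), smul_inv_smul]
    · ext y
      rw [mem_conj, mem_subgroupOf, mem_subgroupOf, mem_conj]
      rfl
  · intro h
    apply hne
    have h1 : (1 : L) • pt D L = (⟨x, hx⟩ : L) • pt D L := by rw [one_smul]; exact h
    rw [smul_pt_eq, OneMemClass.coe_one, map_one, one_smul] at h1
    exact h1

theorem faithL (K : Cls V q UU) : ∀ y : L, (∀ v : V, y • v = v) → y = 1 := fun y hy =>
  Subtype.ext (K.faith y hy)

/-- **`|D| = q²`** -/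
theorem card_D (H : AL V UU L) (K : Cls V q UU) (hD : D ∈ UU) (hDL : D ≤ L) : Nat.card D = q ^ 2 := by
  obtain ⟨D', hD', hDL', hne⟩ := H.exists_ne D
  obtain ⟨T, T', r, h, h', hpr⟩ := H.exists_frs K hD hD' hDL hDL' hne.symm
  have h1 := (h.main (H.pts K hD hDL) K.two h' hpr).1
  rwa [Nat.card_congr (subgroupOfEquivOfLe hDL).toEquiv] at h1

/-- **`|F_D| = q`** -/
theorem card_FX (H : AL V UU L) (K : Cls V q UU) (hD : D ∈ UU) (hDL : D ≤ L) : Nat.card (FX V D) = q := by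
  obtain ⟨T, h⟩ := H.exists_fr K hD hDL
  exact h.card_F (H.pts K hD hDL) K.two (faithL K)

/-- **`F_D = [E_D, b]`** -/
theorem FX_eq (H : AL V UU L) (K : Cls V q UU) (hD : D ∈ UU) (hDL : D ≤ L) {b : Y} (hb : b ∈ D) (hb1 : b ≠ 1) :
    FX V D = (EX V D).map (dl b) := by
  obtain ⟨T, h⟩ := H.exists_fr K hD hDL
  exact h.F_eq (H.pts K hD hDL) K.two (faithL K) (b := ⟨b, hDL hb⟩) (mem_subgroupOf.2 hb)
    fun h1 => hb1 (congrArg Subtype.val h1)

/-- **`V = F_D + E_D'`** -/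
theorem sum (H : AL V UU L) (K : Cls V q UU) (hD : D ∈ UU) (hD' : D' ∈ UU)
    (hDL : D ≤ L) (hDL' : D' ≤ L) (hne : D ≠ D') (v : V) : ∃ x ∈ FX V D, ∃ y ∈ EX V D', x + y = v := by
  obtain ⟨T, T', r, h, h', hpr⟩ := H.exists_frs K hD hD' hDL hDL' hne
  exact h.sum (H.pts K hD hDL) K.two (faithL K) h' hpr v

theorem card_EX (H : AL V UU L) (K : Cls V q UU) (hD : D ∈ UU) (hDL : D ≤ L) : Nat.card (EX V D) = q ^ 3 := by
  obtain ⟨T, h⟩ := H.exists_fr K hD hDL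
  rw [h.card_E K.two, H.card_FX K hD hDL, Nat.card_congr (subgroupOfEquivOfLe hDL).toEquiv, H.card_D K hD hDL]
  ring

/-- **`|V| = q⁴`** -/
theorem card_V (H : AL V UU L) (K : Cls V q UU) : Nat.card V = q ^ 4 := by
  obtain ⟨A, C, P, -⟩ := H.ex
  obtain ⟨T, h⟩ := H.exists_fr K P.A_mem P.A_le
  rw [h.card_V, H.card_EX K P.A_mem P.A_le]
  ring

/-- `[x, D] + F_D = E_D` for `x ∉ E_D`: an invariant subgroup containing `x` contains `E_D` -/
theorem EX_le (H : AL V UU L) (K : Cls V q UU) (hD : D ∈ UU) (hDL : D ≤ L) {W : AddSubgroup V}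
    (hW : ∀ b ∈ D, ∀ w ∈ W, b • w ∈ W) {x : V} (hx : x ∈ W) (hxE : x ∉ EX V D) : EX V D ≤ W := by
  have hm := K.mem D hD
  have hWd : ∀ b ∈ D, ∀ w ∈ W, dl b w ∈ W := fun b hb w hw => W.add_mem (hW b hb w hw) hw
  have hF : FX V D ≤ W := by
    obtain ⟨b, hb, hb1⟩ := hm.exists_ne_one
    rw [H.FX_eq K hD hDL hb hb1]
    rintro _ ⟨e, he, rfl⟩
    obtain ⟨c, hc, hf⟩ := hm.surj x hxE e he
    have h1 : dl b e = dl b (dl c x) := by
      rw [← add_eq_zero' K.two, ← map_add, add_comm]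
      exact hm.dl0 K.two hb hf
    change dl b e ∈ W
    rw [h1]
    exact hWd b hb _ (hWd c hc x hx)
  intro e he
  obtain ⟨c, hc, hf⟩ := hm.surj x hxE e he
  have h1 : e = dl c x + (dl c x + e) := by rw [← add_assoc, K.two, zero_add]
  rw [h1]
  exact W.add_mem (hWd c hc x hx) (hF hf)

/-- **`L` is irreducible on `V`** -/
theorem irr (H : AL V UU L) (K : Cls V q UU) {W : AddSubgroup V} (hW : ∀ l ∈ L, ∀ w ∈ W, l • w ∈ W)
    (hne : W ≠ ⊥) : W = ⊤ := by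
  obtain ⟨A, C, P, -⟩ := H.ex
  have key : ∀ D ∈ UU, ∀ D' ∈ UU, D ≤ L → D' ≤ L → D ≠ D' → EX V D ≤ W := by
    intro D hD D' hD' hDL hDL' hDD
    obtain ⟨x, hx, hx0, hxf⟩ := exists_fix_ne K (K.mem D' hD').two_pow W (fun r hr => hW r (hDL' hr)) hne
    refine H.EX_le K hD hDL (fun b hb => hW b (hDL hb)) hx fun hxE => hx0 ?_
    exact H.disj K hD hD' hDL hDL' hDD hxE hxf
  have h1 := key A P.A_mem C P.C_mem P.A_le P.C_le P.ne
  have h3 := key C P.C_mem A P.A_mem P.C_le P.A_le P.ne.symm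
  rw [eq_top_iff]
  intro v _
  obtain ⟨x, hx, y, hy, rfl⟩ := H.sum K P.A_mem P.C_mem P.A_le P.C_le P.ne v
  exact W.add_mem (h1 ((K.mem A P.A_mem).FE K.two hx)) (h3 hy)

/-- **`D` is transitive on the other members** -/
theorem trans_mem (H : AL V UU L) (K : Cls V q UU) (hD : D ∈ UU) (hDL : D ≤ L) {C C' : Subgroup Y}
    (hC : C ∈ UU) (hC' : C' ∈ UU) (hCL : C ≤ L) (hCL' : C' ≤ L) (h1 : C ≠ D) (h2 : C' ≠ D) :
    ∃ b ∈ D, MulAut.conj b • C = C' := by
  obtain ⟨T, h⟩ := H.exists_fr K hD hDL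
  obtain ⟨x, hx, rfl⟩ := (H.pair K hD hC hDL hCL h1.symm).exists_conj K
  obtain ⟨y, hy, rfl⟩ := (H.pair K hD hC' hDL hCL' h2.symm).exists_conj K
  have hne : ∀ z : L, MulAut.conj (z : Y) • D ≠ D → pt D L ≠ z • pt D L := by
    intro z hz h3
    have h4 : (1 : L) • pt D L = z • pt D L := by rw [one_smul]; exact h3
    rw [smul_pt_eq, OneMemClass.coe_one, map_one, one_smul] at h4
    exact hz h4.symm
  obtain ⟨b, hb, h3⟩ := h.trans (H.pts K hD hDL) K.two (h.smul ⟨y, hy⟩) (hne ⟨y, hy⟩ h2)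
    (r := (⟨x, hx⟩ : L) • pt D L) (hne ⟨x, hx⟩ h1).symm
  refine ⟨b, mem_subgroupOf.1 hb, ?_⟩
  rw [← mul_smul, smul_pt_eq] at h3
  rw [← mul_smul, ← map_mul]
  exact h3

/-- **`N_L(D) ∩ N_L(D')` is transitive on `D#`** -/
theorem exists_conj (H : AL V UU L) (K : Cls V q UU) (hD : D ∈ UU) (hD' : D' ∈ UU)
    (hDL : D ≤ L) (hDL' : D' ≤ L) (hne : D ≠ D') {b c : Y} (hb : b ∈ D) (hc : c ∈ D) (hb1 : b ≠ 1)
    (hc1 : c ≠ 1) : ∃ g ∈ L, g ∈ normalizer (D : Set Y) ∧ g ∈ normalizer (D' : Set Y) ∧ g * b * g⁻¹ = c := by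
  -- the action of `L` on the members in `L`
  let W := {E : Subgroup Y // E ∈ UU ∧ E ≤ L}
  let _ : MulAction L W :=
    { smul := fun l E => ⟨MulAut.conj (l : Y) • E.1, K.conj _ E.2.1 _, Pair.conj_le E.2.2 l.2⟩
      one_smul := fun E => Subtype.ext (by
        change MulAut.conj ((1 : L) : Y) • E.1 = E.1
        rw [OneMemClass.coe_one, map_one, one_smul])
      mul_smul := fun l m E => Subtype.ext (by
        change MulAut.conj ((l * m : L) : Y) • E.1 = MulAut.conj (l : Y) • MulAut.conj (m : Y) • E.1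
        rw [MulMemClass.coe_mul, map_mul, mul_smul]) }
  have hs : ∀ (l : L) (E : W), ((l • E : W) : Subgroup Y) = MulAut.conj (l : Y) • E.1 := fun _ _ => rfl
  have hfix : ∀ (l : L) (E : W), l • E = E ↔ (l : Y) ∈ normalizer (E.1 : Set Y) := by
    intro l E
    rw [← conj_eq_iff, ← hs]
    exact ⟨fun h => congrArg Subtype.val h, fun h => Subtype.ext h⟩
  obtain ⟨g, g1, g2, g3⟩ := HE.Trans.exists_conj (Y := L) (W := W) (R := fun E => E.1.subgroupOf L)
    (fun y r => by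
      ext z
      rw [mem_conj, mem_subgroupOf, mem_subgroupOf, hs, mem_conj]
      rfl)
    (fun r b hb hb1 s h1 => by
      rw [hfix] at h1
      by_contra hne
      refine hb1 (Subtype.ext ?_)
      exact H.inf_norm K r.2.1 s.2.1 r.2.2 s.2.2 (fun h => hne (Subtype.ext h.symm)) (mem_subgroupOf.1 hb) h1)
    (fun r b hb => (hfix b r).2 (Subgroup.le_normalizer (mem_subgroupOf.1 hb)))
    (fun r b hb => Subtype.ext ((K.mem _ r.2.1).sq b (mem_subgroupOf.1 hb)))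
    (fun r a ha b hb => Subtype.ext ((K.mem _ r.2.1).comm a (mem_subgroupOf.1 ha) b (mem_subgroupOf.1 hb)))
    (fun r s t h1 h3 => by
      obtain ⟨b, hb, h4⟩ := H.trans_mem K r.2.1 r.2.2 s.2.1 t.2.1 s.2.2 t.2.2 (fun h => h1 (Subtype.ext h))
        (fun h => h3 (Subtype.ext h))
      exact ⟨⟨b, r.2.2 hb⟩, mem_subgroupOf.2 hb, Subtype.ext h4⟩)
    ⟨D, hD, hDL⟩ ⟨D', hD', hDL'⟩ (fun h => hne (congrArg Subtype.val h)) ⟨b, hDL hb⟩ (mem_subgroupOf.2 hb)
    ⟨c, hDL hc⟩ (mem_subgroupOf.2 hc) (fun h => hb1 (congrArg Subtype.val h))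
    (fun h => hc1 (congrArg Subtype.val h))
  exact ⟨g, g.2, (hfix _ _).1 g1, (hfix _ _).1 g2, congrArg Subtype.val g3⟩

end AL

end Cfsg.Agent.Omega.NO1.Alpha

end

section


/-!
# THEOREM ALPHA (text #18722): the input of (4)-(7) from (0)-(3)

`inp_of` : `Cls V q UU`, `AL V UU L`, one class, `F_B` determines `B`, strong SOC, no offender ⟹ `Inp V q UU`.
-/

set_option autoImplicit false
set_option linter.unusedSectionVars false

namespace Cfsg.Agent.Omega.NO1.Alpha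

open Subgroup Cfsg.Agent.ZN
open Cfsg.Agent.Omega.NO1.HE (dl dl_apply dl_one dl_eq_zero dl_comm dl_mul dl_self smul_eq add_eq_zero' mem_conj)
open scoped Pointwise

universe u

variable {Y V : Type u} [Group Y] [AddCommGroup V] [DistribMulAction Y V]

/-- `|C_V(B^y)| = |C_V(B)|` -/
theorem inp_card_FX_conj (B : Subgroup Y) (y : Y) : Nat.card (FX V (MulAut.conj y • B)) = Nat.card (FX V B) := by
  refine Nat.card_congr
    { toFun := fun v => ⟨y⁻¹ • v.1, ?_⟩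
      invFun := fun v => ⟨y • v.1, smul_mem_FX.2 v.2⟩
      left_inv := fun v => Subtype.ext (smul_inv_smul y v.1)
      right_inv := fun v => Subtype.ext (inv_smul_smul y v.1) }
  rw [← smul_mem_FX (g := y), smul_inv_smul]
  exact v.2

/-- **The input of (4)-(7).** -/
theorem inp_of [Finite Y] [Finite V] {q : ℕ} {UU : Set (Subgroup Y)} {L : Subgroup Y} (K : Cls V q UU)
    (H : AL V UU L) (one : ∀ B ∈ UU, ∀ C ∈ UU, ∃ y : Y, MulAut.conj y • B = C)
    (uniq : ∀ B ∈ UU, ∀ C ∈ UU, FX V B = FX V C → B = C)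
    (soc : ∀ w : V, w ≠ 0 → ∃ D : AddSubgroup V, ∀ B ∈ UU, w ∈ FX V B → ∃ A : Subgroup Y, A ≤ B ∧ A ≠ ⊥ ∧
      (∀ C ∈ UU, w ∈ FX V C → A ≤ normalizer (C : Set Y)) ∧
      ∀ v, v ∉ EX V B → (∀ a ∈ A, ∃ e ∈ D, dl a v + e ∈ FX V B) ∧ ∀ e ∈ D, ∃ a ∈ A, dl a v + e ∈ FX V B)
    (noff : ∀ A : Subgroup Y, (∀ a ∈ A, ∀ b ∈ A, a * b = b * a) → (∀ a ∈ A, a * a = 1) → A ≠ ⊥ →
      Nat.card A < (FX V A).index) : Inp V q UU := by
  obtain ⟨D, C, P, -⟩ := id H.ex
  have hD := P.A_mem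
  have hC := P.C_mem
  have hDL := P.A_le
  have hCL := P.C_le
  have hne := P.ne
  refine
    { two := K.two
      mem := K.mem
      conj := K.conj
      one := one
      uniq := uniq
      sc := K.sc
      soc := soc
      noff := noff
      irr := ?_
      cardV := H.card_V K
      cardB := ?_
      cardF := ?_
      EF := ?_
      trans := ?_ }
  · intro X hX
    by_cases hX0 : X = ⊥
    · exact Or.inl hX0
    · exact Or.inr (H.irr K (fun l _ w hw => hX l w hw) hX0)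
  · intro B hB
    obtain ⟨y, rfl⟩ := one D hD B hB
    rw [← H.card_D K hD hDL]
    exact Nat.card_congr (Subgroup.equivSMul (MulAut.conj y) D).toEquiv.symm
  · intro B hB
    obtain ⟨y, rfl⟩ := one D hD B hB
    rw [inp_card_FX_conj]
    exact H.card_FX K hD hDL
  · intro B hB b hb hb1 f hf
    obtain ⟨y, rfl⟩ := one D hD B hB
    rw [mem_conj] at hb
    have h1 : y⁻¹ * b * y ≠ 1 := by
      intro h0
      apply hb1
      calc b = y * (y⁻¹ * b * y) * y⁻¹ := by group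
        _ = 1 := by rw [h0]; group
    have hf' : y⁻¹ • f ∈ FX V D := by
      rw [← smul_mem_FX (g := y), smul_inv_smul]
      exact hf
    rw [H.FX_eq K hD hDL hb h1] at hf'
    obtain ⟨e, he, hef⟩ := hf'
    refine ⟨y • e, smul_mem_EX.2 he, ?_⟩
    have e1 : y * (y⁻¹ * b * y) * y⁻¹ = b := by group
    have h2 : dl b (y • e) = y • dl (y⁻¹ * b * y) e := by rw [← dl_conj, e1]
    rw [h2, hef, smul_inv_smul]
  · intro B hB b hb hb1 c hc hc1
    obtain ⟨y, rfl⟩ := one D hD B hB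
    rw [mem_conj] at hb hc
    have key : ∀ x : Y, x ≠ 1 → y⁻¹ * x * y ≠ 1 := by
      intro x hx h0
      apply hx
      calc x = y * (y⁻¹ * x * y) * y⁻¹ := by group
        _ = 1 := by rw [h0]; group
    obtain ⟨g, -, hg, -, hgb⟩ := H.exists_conj K hD hC hDL hCL hne hb hc (key b hb1) (key c hc1)
    refine ⟨y * g * y⁻¹, ?_, ?_⟩
    · rw [← conj_eq_iff] at hg ⊢
      rw [map_mul, map_mul, map_inv, mul_smul, mul_smul, inv_smul_smul, hg]
    · calc y * g * y⁻¹ * b * (y * g * y⁻¹)⁻¹ = y * (g * (y⁻¹ * b * y) * g⁻¹) * y⁻¹ := by group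
        _ = c := by rw [hgb]; group

end Cfsg.Agent.Omega.NO1.Alpha

end

section


/-!
# FIN-ALPHA (bb OMEGA #20935, #20994, helper406): a local group with (+) gives the input of (4)-(7) of #18722

`PL V q L A L₁ R` : `A ≤ R ∈ Syl₂(L)`, `O₂(L) = 1`, `L₁` the unique maximal subgroup of `L` over `A`, `A` flat on `V`,
(+) for `(L, L₁)`.

* `PL.fr`, `PL.geo` : helper438's frame / geometry on `L / L₁`;
* `PL.card_V`, `PL.card_A`, `PL.card_F`, `PL.F_eq`, `PL.irr`, `PL.trans`, `PL.sum`;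
* `inp_of_PL` : 675's `Inp V q UU`.
-/

set_option autoImplicit false
set_option linter.unusedSectionVars false

namespace Cfsg.Agent.Omega.NO1.Alpha

open Subgroup Cfsg.Agent.ZN
open Cfsg.Agent.Omega.NO1.HE (dl dl_apply dl_one dl_eq_zero dl_comm dl_mul dl_self smul_eq add_eq_zero' mem_conj
  exists_fixed mem_smul_sylow At Pts Geo)
open scoped Pointwise

universe u

variable {Y V : Type u} [Group Y] [AddCommGroup V] [DistribMulAction Y V]

/-- A local group with (+). -/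
structure PL (V : Type u) [AddCommGroup V] [DistribMulAction Y V] (q : ℕ) (L A : Subgroup Y) (L₁ : Subgroup L)
    (R : Sylow 2 L) : Prop where
  two : ∀ v : V, v + v = 0
  faith : ∀ y : Y, (∀ v : V, y • v = v) → y = 1
  mem : Mem V q A
  le : A ≤ L
  AR : A.subgroupOf L ≤ (R : Subgroup L)
  R_ne : (R : Subgroup L) ≠ ⊤
  core : ∀ N : Subgroup L, N.Normal → IsPGroup 2 N → N = ⊥
  ne : L₁ ≠ ⊤
  uniq : ∀ H : Subgroup L, A.subgroupOf L ≤ H → H ≠ ⊤ → H ≤ L₁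
  plus : ∀ x : L, ∀ v ∈ EX V A, v ≠ 0 → (∀ r ∈ R, (x * r * x⁻¹) • v = v) → x ∈ L₁

namespace PL

variable {q : ℕ} {L A : Subgroup Y} {L₁ : Subgroup L} {R : Sylow 2 L} (h : PL V q L A L₁ R)
include h

/-- the point of `A` -/
abbrev pt (L₁ : Subgroup L) : L ⧸ L₁ := ((1 : L) : L ⧸ L₁)

theorem RL : (R : Subgroup L) ≤ L₁ := h.uniq _ h.AR h.R_ne

theorem R_ne_bot : (R : Subgroup L) ≠ ⊥ := by
  intro h0
  obtain ⟨b, hb, hb1⟩ := h.mem.exists_ne_one
  have h1 : (⟨b, h.le hb⟩ : L) ∈ (R : Subgroup L) := h.AR (mem_subgroupOf.2 hb)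
  rw [h0, mem_bot] at h1
  exact hb1 (congrArg Subtype.val h1)

theorem pts [Finite Y] : Pts L (L ⧸ L₁) :=
  HE.pts_of h.core h.RL h.ne (fun K hK hne => h.uniq K (h.AR.trans hK) hne) h.R_ne_bot

theorem faithL : ∀ y : L, (∀ v : V, y • v = v) → y = 1 := fun y hy => Subtype.ext (h.faith y hy)

omit h in
theorem smul_pt {x : L} : x • pt L₁ = pt L₁ ↔ x ∈ L₁ := by
  change ((x * 1 : L) : L ⧸ L₁) = ((1 : L) : L ⧸ L₁) ↔ _
  rw [mul_one, eq_comm, QuotientGroup.eq, inv_one, one_mul]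

/-- **the frame** -/
theorem fr [Finite Y] : HE.Fr q R (pt L₁) (EX V A) (FX V A) (A.subgroupOf L) := by
  have hm := h.mem
  have hat : At R (pt L₁) := fun t ht => smul_pt.2 (h.RL ht)
  exact
    { at' := hat
      ind := hm.ind
      BT := h.AR
      comm := fun b hb c hc => Subtype.ext (hm.comm b (mem_subgroupOf.1 hb) c (mem_subgroupOf.1 hc))
      sq := fun b hb => Subtype.ext (hm.sq b (mem_subgroupOf.1 hb))
      FE := hm.FE h.two
      VB := fun b hb v => hm.VB b (mem_subgroupOf.1 hb) v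
      EB := fun b hb e he => hm.dlF (mem_subgroupOf.1 hb) he
      FB := fun b hb f hf => hf b (mem_subgroupOf.1 hb)
      CB := fun v hv b hb => hv ⟨b, h.le hb⟩ (mem_subgroupOf.2 hb)
      inj := fun w hw b hb h1 => Subtype.ext (hm.inj w hw b (mem_subgroupOf.1 hb) h1)
      surj := by
        intro w hw e he
        obtain ⟨b, hb, h1⟩ := hm.surj w hw e he
        exact ⟨⟨b, h.le hb⟩, mem_subgroupOf.2 hb, h1⟩
      ne := hm.ne
      ne' := hm.ne'
      plus := by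
        rintro T' r hr ⟨v, hvE, hv0, hfix⟩
        obtain ⟨x, rfl⟩ := MulAction.exists_smul_eq L R T'
        have h1 : r = x • pt L₁ := h.pts.one _ _ _ hr (hat.smul x)
        rw [h1, smul_pt]
        refine h.plus x v hvE hv0 fun s hs => hfix (x * s * x⁻¹) ?_
        rw [mem_smul_sylow]
        have e : x⁻¹ * (x * s * x⁻¹) * x = s := by group
        rwa [e] }

variable [Finite Y] [Finite V]

theorem exists_pt : ∃ r : L ⧸ L₁, pt L₁ ≠ r := by
  obtain ⟨r, hr⟩ := h.pts.ne (pt L₁)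
  exact ⟨r, hr.symm⟩

/-- `|A| = q²` -/
theorem card_A : Nat.card A = q ^ 2 := by
  obtain ⟨G⟩ := HE.exists_geo h.pts h.two h.faithL h.fr
  have h1 := G.uB h.fr
  have h2 := G.card_B (pt L₁)
  rw [← h1, Nat.card_congr (subgroupOfEquivOfLe h.le).toEquiv] at h2
  exact h2

/-- `|F_A| = q` -/
theorem card_F : Nat.card (FX V A) = q := h.fr.card_F h.pts h.two h.faithL

/-- `F_A = [E_A, b]` -/
theorem F_eq {b : Y} (hb : b ∈ A) (hb1 : b ≠ 1) : FX V A = (EX V A).map (dl b) :=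
  h.fr.F_eq h.pts h.two h.faithL (b := ⟨b, h.le hb⟩) (mem_subgroupOf.2 hb)
    fun h1 => hb1 (congrArg Subtype.val h1)

theorem card_E : Nat.card (EX V A) = q ^ 3 := by
  rw [h.fr.card_E h.two, h.card_F, Nat.card_congr (subgroupOfEquivOfLe h.le).toEquiv, h.card_A]
  ring

/-- `|V| = q⁴` -/
theorem card_V : Nat.card V = q ^ 4 := by
  rw [h.fr.card_V, h.card_E]
  ring

/-- `[x, A] + F_A = E_A` for `x ∉ E_A`: an `A`-invariant subgroup containing `x` contains `E_A` -/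
theorem EX_le {W : AddSubgroup V} (hW : ∀ b ∈ A, ∀ w ∈ W, b • w ∈ W) {x : V} (hx : x ∈ W) (hxE : x ∉ EX V A) :
    EX V A ≤ W := by
  have hm := h.mem
  have hWd : ∀ b ∈ A, ∀ w ∈ W, dl b w ∈ W := fun b hb w hw => W.add_mem (hW b hb w hw) hw
  have hF : FX V A ≤ W := by
    obtain ⟨b, hb, hb1⟩ := hm.exists_ne_one
    rw [h.F_eq hb hb1]
    rintro _ ⟨e, he, rfl⟩
    obtain ⟨c, hc, hf⟩ := hm.surj x hxE e he
    have h1 : dl b e = dl b (dl c x) := by
      rw [← add_eq_zero' h.two, ← map_add, add_comm]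
      exact hm.dl0 h.two hb hf
    change dl b e ∈ W
    rw [h1]
    exact hWd b hb _ (hWd c hc x hx)
  intro e he
  obtain ⟨c, hc, hf⟩ := hm.surj x hxE e he
  have h1 : e = dl c x + (dl c x + e) := by rw [← add_assoc, h.two, zero_add]
  rw [h1]
  exact W.add_mem (hWd c hc x hx) (hF hf)

/-- the conjugate local group -/
theorem exists_g : ∃ g : L, g ∉ L₁ := by
  by_contra hcon
  push Not at hcon
  exact h.ne ((eq_top_iff' _).2 hcon)

theorem frg (g : L) : HE.Fr q (g • R) (g • pt L₁) (EX V (MulAut.conj (g : Y) • A)) (FX V (MulAut.conj (g : Y) • A))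
    ((MulAut.conj (g : Y) • A).subgroupOf L) := by
  refine AL.fr_congr (h.fr.smul g) ?_ ?_ ?_
  · ext v
    rw [AddSubgroup.mem_pointwise_smul_iff_inv_smul_mem]
    change (g : Y)⁻¹ • v ∈ EX V A ↔ _
    rw [← smul_mem_EX (g := (g : Y)), smul_inv_smul]
  · ext v
    rw [AddSubgroup.mem_pointwise_smul_iff_inv_smul_mem]
    change (g : Y)⁻¹ • v ∈ FX V A ↔ _
    rw [← smul_mem_FX (g := (g : Y)), smul_inv_smul]
  · ext y
    rw [mem_conj, mem_subgroupOf, mem_subgroupOf, mem_conj]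
    rfl

/-- `V = F_A + E_{A^g}`, `g ∉ L₁` -/
theorem sum {g : L} (hg : g ∉ L₁) (v : V) : ∃ x ∈ FX V A, ∃ y ∈ EX V (MulAut.conj (g : Y) • A), x + y = v :=
  h.fr.sum h.pts h.two h.faithL (h.frg g) (fun h1 => hg (smul_pt.1 h1.symm)) v

/-- `V = F_{A^g} + E_A`, `g ∉ L₁` -/
theorem sum' {g : L} (hg : g ∉ L₁) (v : V) : ∃ x ∈ FX V (MulAut.conj (g : Y) • A), ∃ y ∈ EX V A, x + y = v :=
  (h.frg g).sum h.pts h.two h.faithL h.fr (fun h1 => hg (smul_pt.1 h1)) v

/-- `F_A ∩ E_{A^g} = 0`, `g ∉ L₁` -/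
theorem disj {g : L} (hg : g ∉ L₁) {v : V} (hv : v ∈ FX V A) (hv' : v ∈ EX V (MulAut.conj (g : Y) • A)) : v = 0 :=
  h.fr.disj h.pts h.two h.faithL (h.frg g) (fun h1 => hg (smul_pt.1 h1.symm)) hv hv'

/-- `1 ≠ b ∈ A^g`, `b ∈ L₁` ⟹ `g ∈ L₁` -/
theorem free {g : L} {b : Y} (hb : b ∈ MulAut.conj (g : Y) • A) (hb1 : b ≠ 1) (hbL : b ∈ L) (h1 : (⟨b, hbL⟩ : L) ∈ L₁) :
    g ∈ L₁ := by
  have h2 := (h.frg g).free h.pts h.two (b := ⟨b, hbL⟩) (mem_subgroupOf.2 hb)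
    (fun h3 => hb1 (congrArg Subtype.val h3)) (q := pt L₁) (smul_pt.2 h1)
  exact smul_pt.1 h2.symm

/-- **`L` is irreducible on `V`** -/
theorem irr {W : AddSubgroup V} (hW : ∀ l ∈ L, ∀ w ∈ W, l • w ∈ W) (hne : W ≠ ⊥) : W = ⊤ := by
  obtain ⟨g, hg⟩ := h.exists_g
  -- a fixed vector of `R` in `W`
  obtain ⟨x, hx, hx0, hxf⟩ : ∃ x ∈ W, x ≠ 0 ∧ ∀ r ∈ (R : Subgroup L), r • x = x := by
    refine exists_fixed h.two R.isPGroup' W (fun r _ w hw => hW r r.2 w hw) ?_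
    by_contra hcon
    push Not at hcon
    exact hne ((AddSubgroup.eq_bot_iff_forall W).2 hcon)
  have key : ∀ k : L, k ∉ L₁ → k • x ∉ EX V A := fun k hk hkx => hk (h.plus k _ hkx
    (fun h0 => hx0 ((smul_eq_zero_iff_eq k).1 h0)) fun r hr => by
      rw [mul_smul, mul_smul, inv_smul_smul, hxf r hr])
  have hE : EX V A ≤ W := h.EX_le (fun b hb => hW b (h.le hb)) (hW g g.2 x hx) (key g hg)
  have hEg : ∀ y ∈ EX V (MulAut.conj (g : Y) • A), y ∈ W := by
    intro y hy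
    have h1 : (g : Y)⁻¹ • y ∈ EX V A := by
      rw [← smul_mem_EX (g := (g : Y)), smul_inv_smul]
      exact hy
    have h2 := hW g g.2 _ (hE h1)
    rwa [smul_inv_smul] at h2
  rw [eq_top_iff]
  intro v _
  obtain ⟨x, hx, y, hy, rfl⟩ := h.sum hg v
  exact W.add_mem (hE (h.mem.FE h.two hx)) (hEg y hy)

/-- **`N_L(A)` is transitive on `A#`** -/
theorem trans {b c : Y} (hb : b ∈ A) (hc : c ∈ A) (hb1 : b ≠ 1) (hc1 : c ≠ 1) :
    ∃ g ∈ L, g ∈ normalizer (A : Set Y) ∧ g * b * g⁻¹ = c := by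
  obtain ⟨G⟩ := HE.exists_geo h.pts h.two h.faithL h.fr
  obtain ⟨r, hr⟩ := h.exists_pt
  have hB := G.uB h.fr
  have hb' : (⟨b, h.le hb⟩ : L) ∈ G.B (pt L₁) := hB ▸ mem_subgroupOf.2 hb
  have hc' : (⟨c, h.le hc⟩ : L) ∈ G.B (pt L₁) := hB ▸ mem_subgroupOf.2 hc
  obtain ⟨g, gp, -, hg⟩ := HE.Trans.exists_conj (R := G.B) (fun y r => (G.smulB y r).symm)
    (fun r b hb hb1 s hs => G.free hb hb1 hs) (fun r b hb => G.fix hb) (fun r => (G.fr r).sq)
    (fun r => (G.fr r).comm) (fun r s t hs ht => G.exists_B hs ht) (pt L₁) r hr _ hb' _ hc'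
    (fun h1 => hb1 (congrArg Subtype.val h1)) (fun h1 => hc1 (congrArg Subtype.val h1))
  refine ⟨g, g.2, ?_, congrArg Subtype.val hg⟩
  have h1 := G.smulB g (pt L₁)
  rw [gp, ← hB] at h1
  rw [← conj_eq_iff]
  ext y
  rw [mem_conj]
  have key : ∀ z : Y, z ∈ A → z ∈ L := fun z hz => h.le hz
  constructor
  · intro hy
    have hyL : y ∈ L := by
      have e : y = g * ((g : Y)⁻¹ * y * g) * (g : Y)⁻¹ := by group
      rw [e]
      exact L.mul_mem (L.mul_mem g.2 (h.le hy)) (L.inv_mem g.2)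
    have h2 : (⟨y, hyL⟩ : L) ∈ MulAut.conj g • A.subgroupOf L := by
      rw [mem_conj]
      exact mem_subgroupOf.2 hy
    rw [h1] at h2
    exact mem_subgroupOf.1 h2
  · intro hy
    have h2 : (⟨y, h.le hy⟩ : L) ∈ A.subgroupOf L := mem_subgroupOf.2 hy
    rw [← h1, mem_conj] at h2
    exact mem_subgroupOf.1 h2

end PL

/-- **FIN-ALPHA** -/
theorem inp_of_PL [Finite Y] [Finite V] {q : ℕ} {UU : Set (Subgroup Y)} {L A : Subgroup Y} {L₁ : Subgroup L}
    {R : Sylow 2 L} (h : PL V q L A L₁ R) (hA : A ∈ UU)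
    (mem : ∀ B ∈ UU, Mem V q B) (conj : ∀ B ∈ UU, ∀ y : Y, MulAut.conj y • B ∈ UU)
    (sc : ∀ B ∈ UU, ∀ x ∈ EX V B, x ∉ FX V B → ∃ A : Subgroup Y, A ≤ B ∧ Nat.card A = q ∧
      (∀ s ∈ A, s ≠ 1 → ∃ w, w ∉ EX V B ∧ dl s w + x ∈ FX V B) ∧ ∀ s ∈ A, ∀ t ∈ A, ∀ v : V, dl s (dl t v) = 0)
    (one : ∀ B ∈ UU, ∀ C ∈ UU, ∃ y : Y, MulAut.conj y • B = C)
    (uniq : ∀ B ∈ UU, ∀ C ∈ UU, FX V B = FX V C → B = C)
    (soc : ∀ w : V, w ≠ 0 → ∃ D : AddSubgroup V, ∀ B ∈ UU, w ∈ FX V B → ∃ A : Subgroup Y, A ≤ B ∧ A ≠ ⊥ ∧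
      (∀ C ∈ UU, w ∈ FX V C → A ≤ normalizer (C : Set Y)) ∧
      ∀ v, v ∉ EX V B → (∀ a ∈ A, ∃ e ∈ D, dl a v + e ∈ FX V B) ∧ ∀ e ∈ D, ∃ a ∈ A, dl a v + e ∈ FX V B)
    (noff : ∀ A : Subgroup Y, (∀ a ∈ A, ∀ b ∈ A, a * b = b * a) → (∀ a ∈ A, a * a = 1) → A ≠ ⊥ →
      Nat.card A < (FX V A).index) : Inp V q UU := by
  refine
    { two := h.two
      mem := mem
      conj := conj
      one := one
      uniq := uniq
      sc := sc
      soc := soc
      noff := noff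
      irr := ?_
      cardV := h.card_V
      cardB := ?_
      cardF := ?_
      EF := ?_
      trans := ?_ }
  · intro X hX
    by_cases hX0 : X = ⊥
    · exact Or.inl hX0
    · exact Or.inr (h.irr (fun l _ w hw => hX l w hw) hX0)
  · intro B hB
    obtain ⟨y, rfl⟩ := one A hA B hB
    rw [← h.card_A]
    exact Nat.card_congr (Subgroup.equivSMul (MulAut.conj y) A).toEquiv.symm
  · intro B hB
    obtain ⟨y, rfl⟩ := one A hA B hB
    rw [inp_card_FX_conj]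
    exact h.card_F
  · intro B hB b hb hb1 f hf
    obtain ⟨y, rfl⟩ := one A hA B hB
    rw [mem_conj] at hb
    have h1 : y⁻¹ * b * y ≠ 1 := by
      intro h0
      apply hb1
      calc b = y * (y⁻¹ * b * y) * y⁻¹ := by group
        _ = 1 := by rw [h0]; group
    have hf' : y⁻¹ • f ∈ FX V A := by
      rw [← smul_mem_FX (g := y), smul_inv_smul]
      exact hf
    rw [h.F_eq hb h1] at hf'
    obtain ⟨e, he, hef⟩ := hf'
    refine ⟨y • e, smul_mem_EX.2 he, ?_⟩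
    have e1 : y * (y⁻¹ * b * y) * y⁻¹ = b := by group
    have h2 : dl b (y • e) = y • dl (y⁻¹ * b * y) e := by rw [← dl_conj, e1]
    rw [h2, hef, smul_inv_smul]
  · intro B hB b hb hb1 c hc hc1
    obtain ⟨y, rfl⟩ := one A hA B hB
    rw [mem_conj] at hb hc
    have key : ∀ x : Y, x ≠ 1 → y⁻¹ * x * y ≠ 1 := by
      intro x hx h0
      apply hx
      calc x = y * (y⁻¹ * x * y) * y⁻¹ := by group
        _ = 1 := by rw [h0]; group
    obtain ⟨g, -, hg, hgb⟩ := h.trans hb hc (key b hb1) (key c hc1)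
    refine ⟨y * g * y⁻¹, ?_, ?_⟩
    · rw [← conj_eq_iff] at hg ⊢
      rw [map_mul, map_mul, map_inv, mul_smul, mul_smul, inv_smul_smul, hg]
    · calc y * g * y⁻¹ * b * (y * g * y⁻¹)⁻¹ = y * (g * (y⁻¹ * b * y) * g⁻¹) * y⁻¹ := by group
        _ = c := by rw [hgb]; group

/-- from 727's `Loc0` with `Q = 1` -/
theorem PL.of_loc {q : ℕ} {L A : Subgroup Y} {L₁ : Subgroup L} {R : Sylow 2 L}
    (faith : ∀ y : Y, (∀ v : V, y • v = v) → y = 1) (hq : (AB.Ee V A).index = q) (hE : ∃ e ∈ AB.Ee V A, e ∉ AB.fx V A)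
    (le : A ≤ L) (h : AB.Loc0 (A.subgroupOf L) (AB.Ee V A) (AB.fx V A) ⊥ L₁ R)
    (plus : ∀ x : L, ∀ v ∈ AB.Ee V A, v ≠ 0 → (∀ r ∈ R, (x * r * x⁻¹) • v = v) → x ∈ L₁) : PL V q L A L₁ R where
  two := h.two
  faith := faith
  mem :=
    { comm := fun b hb c hc => congrArg Subtype.val (h.mem.comm ⟨b, le hb⟩ (mem_subgroupOf.2 hb) ⟨c, le hc⟩
        (mem_subgroupOf.2 hc))
      sq := fun b hb => congrArg Subtype.val (h.mem.sq ⟨b, le hb⟩ (mem_subgroupOf.2 hb))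
      VB := fun b hb v => h.mem.VB ⟨b, le hb⟩ (mem_subgroupOf.2 hb) v
      inj := fun w hw b hb h1 => congrArg Subtype.val (h.mem.inj w hw ⟨b, le hb⟩ (mem_subgroupOf.2 hb) h1)
      surj := by
        intro w hw e he
        obtain ⟨b, hb, h1⟩ := h.mem.surj w hw e he
        exact ⟨b, mem_subgroupOf.1 hb, h1⟩
      ind := hq
      ne := h.mem.ne
      ne' := hE }
  le := le
  AR := h.AR
  R_ne := h.R_ne
  core := fun N hN h2 => le_bot_iff.1 (h.core N hN h2)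
  ne := h.ne
  uniq := h.uniq
  plus := plus

end Cfsg.Agent.Omega.NO1.Alpha

end
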