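import Cfsg.Agent.Mrg.Omega.NO1.Alpha.Irr
import Cfsg.Agent.Mrg.Omega.NO1.Alpha.Bridge
import Cfsg.Agent.Mrg.Omega.NO1.Alpha.Defs
import Cfsg.Agent.Mrg.Omega.NO1.HE.End

section


/-!
# FIN-ALPHA: from `V₁` to `V_m` (module level)

`π : Y' → Y` surjective, `ι : V → M'` injective and equivariant, `UU` a class of members of `Y'` on `M'`, `D ∈ UU` with a
local group with (+) for `π(D)` on `V`.  Then `ι` is surjective.
-/

set_option autoImplicit false
set_option linter.unusedSectionVars false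

namespace Cfsg.Agent.Omega.NO1.Alpha

open Subgroup Cfsg.Agent.ZN
open Cfsg.Agent.Omega.NO1.HE (dl dl_apply dl_one dl_eq_zero dl_comm dl_mul dl_self smul_eq add_eq_zero' mem_conj
  exists_fixed mem_smul_sylow At Pts Geo)
open Cfsg.Agent.MinSimple.VModule (o2_isPGroup)
open scoped Pointwise

universe u

variable {Y V : Type u} [Group Y] [Finite Y] [AddCommGroup V] [Finite V] [DistribMulAction Y V]
  {Y' M' : Type u} [Group Y'] [Finite Y'] [AddCommGroup M'] [Finite M'] [DistribMulAction Y' M']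

/-- `M' → M` : the group `Y'` on `M'`, the group `Y` on the submodule `V` -/
structure Lift (π : Y' →* Y) (ι : V →+ M') : Prop where
  surj : Function.Surjective π
  inj : Function.Injective ι
  eq : ∀ (y : Y') (m : V), ι (π y • m) = y • ι m

namespace Lift

variable {π : Y' →* Y} {ι : V →+ M'} (l : Lift π ι)
include l

theorem mem_FX {B : Subgroup Y'} {v : V} : v ∈ FX V (B.map π) ↔ ι v ∈ FX M' B := by
  constructor
  · intro h b hb
    rw [← l.eq, h _ ⟨b, hb, rfl⟩]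
  · rintro h _ ⟨b, hb, rfl⟩
    apply l.inj
    rw [l.eq]
    exact h b hb

theorem dl_eq (b : Y') (v : V) : ι (dl (π b) v) = dl b (ι v) := by
  rw [dl_apply, dl_apply, map_add, l.eq]

theorem mem_EX {B : Subgroup Y'} {v : V} : v ∈ EX V (B.map π) ↔ ι v ∈ EX M' B := by
  constructor
  · intro h b hb
    rw [← l.dl_eq, ← l.mem_FX]
    exact h _ ⟨b, hb, rfl⟩
  · rintro h _ ⟨b, hb, rfl⟩
    rw [l.mem_FX, l.dl_eq]
    exact h b hb

theorem map_conj (g : Y') (B : Subgroup Y') : (MulAut.conj g • B).map π = MulAut.conj (π g) • B.map π := by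
  ext y
  rw [mem_conj']
  constructor
  · rintro ⟨b, hb, rfl⟩
    obtain ⟨b, hb', rfl⟩ := mem_conj'.1 hb
    exact ⟨π b, ⟨b, hb', rfl⟩, by simp⟩
  · rintro ⟨_, ⟨b, hb, rfl⟩, rfl⟩
    exact ⟨g * b * g⁻¹, mem_conj'.2 ⟨b, hb, rfl⟩, by simp⟩

variable {q a : ℕ} {UU : Set (Subgroup Y')} (K : Cls M' q UU) {D : Subgroup Y'} (hD : D ∈ UU)
  {L A : Subgroup Y} {L₁ : Subgroup L} {R : Sylow 2 L} (h : PL V a L A L₁ R) (hA : D.map π = A)
include K hD h hA

theorem exists_w : ∃ w : V, ι w ∉ EX M' D := by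
  obtain ⟨w, hw⟩ := h.mem.ne
  rw [← hA] at hw
  exact ⟨w, fun h1 => hw (l.mem_EX.2 h1)⟩

/-- `π` is injective on `D^g` -/
theorem inj_D {g b : Y'} (hb : b ∈ MulAut.conj g • D) (h1 : π b = 1) : b = 1 := by
  obtain ⟨b, hb', rfl⟩ := mem_conj'.1 hb
  rw [map_mul, map_mul, map_inv, mul_inv_eq_one, mul_eq_left] at h1
  obtain ⟨w, hw⟩ := l.exists_w K hD h hA
  have h2 : b = 1 := (K.mem D hD).inj _ hw b hb' (by
    rw [← l.dl_eq, h1, dl_one h.two, map_zero]
    exact (FX M' D).zero_mem)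
  rw [h2]
  group

theorem card_eq : Nat.card D = a ^ 2 := by
  rw [← h.card_A, ← hA]
  refine Nat.card_congr (Equiv.ofBijective (fun b : D => (⟨π b, ⟨b, b.2, rfl⟩⟩ : D.map π)) ⟨?_, ?_⟩)
  · intro b c hbc
    have h1 : π (b : Y') = π (c : Y') := congrArg Subtype.val hbc
    have h2 : (b : Y')⁻¹ * (c : Y') = 1 := by
      refine l.inj_D K hD h hA (g := 1) ?_ ?_
      · rw [map_one, one_smul]
        exact D.mul_mem (D.inv_mem b.2) c.2
      · rw [map_mul, map_inv, h1, inv_mul_cancel]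
    exact Subtype.ext (inv_mul_eq_one.1 h2)
  · rintro ⟨_, b, hb, rfl⟩
    exact ⟨⟨b, hb⟩, rfl⟩

/-- the claim: a subgroup over `D` with a fixed vector does not cover `L` -/
theorem claim {X : Subgroup Y'} (hX : D ≤ X) (hXL : X.map π ≤ L) {x : M'} (hx : x ≠ 0)
    (hfix : ∀ k ∈ X, k • x = x) {k : Y'} (hk : k ∈ X) : (⟨π k, hXL ⟨k, hk, rfl⟩⟩ : L) ∈ L₁ := by
  have h1 : A.subgroupOf L ≤ (X.map π).subgroupOf L := by
    intro y hy
    rw [mem_subgroupOf, ← hA] at hy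
    exact mem_subgroupOf.2 (map_mono hX hy)
  by_cases h2 : (X.map π).subgroupOf L = ⊤
  · exfalso
    have h3 : L ≤ X.map π := by
      intro y hy
      have h4 : (⟨y, hy⟩ : L) ∈ (X.map π).subgroupOf L := by rw [h2]; exact mem_top _
      exact h4
    have h4 := K.soc D hD X hX ⟨x, hx, hfix⟩
    apply h4
    rw [eq_bot_iff]
    rintro b ⟨hbD, hbO⟩
    -- the image of `O₂(X)` in `L`
    have h5 : ((o2 X).map π).subgroupOf L = ⊥ := by
      refine h.core _ ⟨?_⟩ ?_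
      · rintro n hn g
        rw [mem_subgroupOf] at hn ⊢
        obtain ⟨m, hm, hmn⟩ := hn
        obtain ⟨x', hx', hxg⟩ := h3 g.2
        refine ⟨x' * m * x'⁻¹, ?_, ?_⟩
        · exact (mem_normalizer_iff.1 (le_normalizer_o2 X hx') m).1 hm
        · rw [map_mul, map_mul, map_inv, hmn, hxg]
          rfl
      · exact ((o2_isPGroup X).map π).comap_of_injective _ L.subtype_injective
    have h6 : (⟨π b, hXL ⟨b, hX hbD, rfl⟩⟩ : L) ∈ ((o2 X).map π).subgroupOf L := mem_subgroupOf.2 ⟨b, hbO, rfl⟩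
    rw [h5, mem_bot] at h6
    have h7 : π b = 1 := congrArg Subtype.val h6
    rw [mem_bot]
    exact l.inj_D K hD h hA (g := 1) (by rw [map_one, one_smul]; exact hbD) h7
  · exact h.uniq _ h1 h2 (mem_subgroupOf.2 ⟨k, hk, rfl⟩)

/-- `1 ≠ b ∈ D^g` and `D` have no common fixed vector if `π g ∉ L₁` -/
theorem no_fix {g : Y'} (hgL : π g ∈ L) (hg : (⟨π g, hgL⟩ : L) ∉ L₁) {b : Y'} (hb : b ∈ MulAut.conj g • D)
    (hb1 : b ≠ 1) {x : M'} (hx : x ≠ 0) (hxD : x ∈ FX M' D) (hxb : b • x = x) : False := by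
  set X : Subgroup Y' := D ⊔ zpowers b with hX
  have hbL : π b ∈ L := by
    obtain ⟨b, hb', rfl⟩ := mem_conj'.1 hb
    rw [map_mul, map_mul, map_inv]
    have h1 : π b ∈ A := hA ▸ ⟨b, hb', rfl⟩
    exact L.mul_mem (L.mul_mem hgL (h.le h1)) (L.inv_mem hgL)
  have hXL : X.map π ≤ L := by
    rw [hX, Subgroup.map_sup, hA]
    refine sup_le h.le ?_
    rw [MonoidHom.map_zpowers, zpowers_le]
    exact hbL
  have hfix : ∀ k ∈ X, k • x = x := by
    have h1 : X ≤ MulAction.stabilizer Y' x := sup_le (fun k hk => hxD k hk) (zpowers_le.2 hxb)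
    exact fun k hk => h1 hk
  have hbX : b ∈ X := (le_sup_right : zpowers b ≤ X) (mem_zpowers b)
  have h1 := l.claim K hD h hA le_sup_left hXL hx hfix hbX
  refine hg (h.free (g := ⟨π g, hgL⟩) (b := π b) ?_ ?_ hbL h1)
  · change π b ∈ MulAut.conj (π g) • A
    rw [← hA, ← l.map_conj]
    exact ⟨b, hb, rfl⟩
  · exact fun h2 => hb1 (l.inj_D K hD h hA hb h2)

/-- `F_D ∩ E_(D^g) = 0` -/
theorem inf_eq {g : Y'} (hgL : π g ∈ L) (hg : (⟨π g, hgL⟩ : L) ∉ L₁) {x : M'} (hxD : x ∈ FX M' D)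
    (hx : x ∈ EX M' (MulAut.conj g • D)) : x = 0 := by
  by_contra hx0
  have hm := K.mem _ (K.conj D hD g)
  by_cases hxF : x ∈ FX M' (MulAut.conj g • D)
  · obtain ⟨b, hb, hb1⟩ := hm.exists_ne_one
    exact l.no_fix K hD h hA hgL hg hb hb1 hx0 hxD (hxF b hb)
  · obtain ⟨w, hw⟩ := hm.ne
    obtain ⟨b, hb, h1⟩ := hm.surj w hw x hx
    have hb1 : b ≠ 1 := by
      rintro rfl
      rw [dl_one K.two, zero_add] at h1
      exact hxF h1
    refine l.no_fix K hD h hA hgL hg hb hb1 hx0 hxD ?_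
    rw [← dl_eq_zero K.two]
    have h2 : dl b (dl b w + x) = 0 := hm.dl0 K.two hb h1
    rw [map_add, dl_self K.two (hm.sq b hb), zero_add] at h2
    exact h2

/-- `|M' : E_D| = |V : E_A|` and `M' = ι(V) + E_D` -/
theorem index_eq (hpf : q ^ 2 ≤ Nat.card D) : q = a := by
  have h1 := l.card_eq K hD h hA
  have h2 : a ≤ q := by
    rw [← h.mem.ind, ← (K.mem D hD).ind]
    have h3 : EX V A = (EX M' D).comap ι := by
      ext v
      rw [← hA]
      exact l.mem_EX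
    rw [h3]
    have : (EX M' D).FiniteIndex := inferInstance
    rw [AddSubgroup.index_comap]
    exact Nat.le_of_dvd (Nat.pos_of_ne_zero AddSubgroup.FiniteIndex.index_ne_zero)
      (AddSubgroup.relIndex_dvd_index_of_normal _ _)
  rw [h1] at hpf
  exact le_antisymm (le_of_not_gt fun h3 => absurd hpf (Nat.not_le.2 (Nat.pow_lt_pow_left h3 (by norm_num)))) h2

theorem add_E (hpf : q ^ 2 ≤ Nat.card D) (m : M') : ∃ v : V, m + ι v ∈ EX M' D := by
  have h3 : EX V A = (EX M' D).comap ι := by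
    ext v
    rw [← hA]
    exact l.mem_EX
  have h1 : (EX M' D).relIndex ι.range = (EX M' D).index := by
    rw [← AddSubgroup.index_comap, ← h3, h.mem.ind, (K.mem D hD).ind, l.index_eq K hD h hA hpf]
  have h2 : (EX M' D).relIndex (ι.range ⊔ EX M' D) = (EX M' D).relIndex ι.range :=
    AddSubgroup.relIndex_sup_right _ _
  have h4 := AddSubgroup.relIndex_mul_index (le_sup_right : EX M' D ≤ ι.range ⊔ EX M' D)
  rw [h2, h1] at h4
  have h5 : (ι.range ⊔ EX M' D).index = 1 := by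
    have : (EX M' D).index ≠ 0 := AddSubgroup.index_ne_zero_of_finite
    exact Nat.eq_of_mul_eq_mul_left (Nat.pos_of_ne_zero this) (by rw [h4, mul_one])
  rw [AddSubgroup.index_eq_one] at h5
  have h6 : m ∈ ι.range ⊔ EX M' D := by rw [h5]; exact AddSubgroup.mem_top _
  obtain ⟨_, ⟨v, rfl⟩, e, he, rfl⟩ := AddSubgroup.mem_sup.1 h6
  refine ⟨v, ?_⟩
  have e1 : ι v + e + ι v = e + (ι v + ι v) := by abel
  rw [e1, K.two, add_zero]
  exact he

theorem add_F (hpf : q ^ 2 ≤ Nat.card D) (m : M') : ∃ v : V, m + ι v ∈ FX M' D := by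
  obtain ⟨v, hv⟩ := l.add_E K hD h hA hpf m
  obtain ⟨w, hw⟩ := l.exists_w K hD h hA
  obtain ⟨b, hb, h1⟩ := (K.mem D hD).surj _ hw _ hv
  refine ⟨v + dl (π b) w, ?_⟩
  rw [map_add, l.dl_eq]
  have e : m + (ι v + dl b (ι w)) = dl b (ι w) + (m + ι v) := by abel
  rw [e]
  exact h1

/-- **`ι` is surjective** -/
theorem surjective (hpf : q ^ 2 ≤ Nat.card D) : Function.Surjective ι := by
  obtain ⟨⟨g₁, hgL⟩, hg⟩ := h.exists_g
  obtain ⟨g, rfl⟩ := l.surj g₁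
  -- `F_D ≤ ι(V)`
  have key : ∀ f ∈ FX M' D, ∃ v : V, ι v = f := by
    intro f hf
    -- `f = ι v + f'`, `f' ∈ F_(D^g)`
    obtain ⟨v₀, hv₀⟩ := l.add_F K hD h hA hpf (g⁻¹ • f)
    set v := π g • v₀ with hv
    have h1 : f + ι v ∈ FX M' (MulAut.conj g • D) := by
      have h2 := smul_mem_FX (g := g).2 hv₀
      rwa [smul_add, smul_inv_smul, ← l.eq] at h2
    obtain ⟨x, hx, y, hy, hxy⟩ := h.sum hg v
    have h3 : f + ι x ∈ EX M' (MulAut.conj g • D) := by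
      have e : f + ι x = f + ι v + ι y := by
        rw [← hxy, map_add]
        have : f + (ι x + ι y) + ι y = f + ι x + (ι y + ι y) := by abel
        rw [this, K.two, add_zero]
      rw [e]
      refine (EX M' _).add_mem ((K.mem _ (K.conj D hD g)).FE K.two h1) ?_
      rw [← l.mem_EX, l.map_conj, hA]
      exact hy
    have h4 : f + ι x ∈ FX M' D := by
      refine (FX M' D).add_mem hf ?_
      rw [← l.mem_FX, hA]
      exact hx
    have h5 := l.inf_eq K hD h hA hgL hg h4 h3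
    exact ⟨x, ((add_eq_zero' K.two).1 h5).symm⟩
  intro m
  obtain ⟨v, hv⟩ := l.add_F K hD h hA hpf m
  obtain ⟨w, hw⟩ := key _ hv
  refine ⟨w + v, ?_⟩
  rw [map_add, hw, add_assoc, K.two, add_zero]

end Lift

end Cfsg.Agent.Omega.NO1.Alpha

end

section


/-!
# THEOREM ALPHA (bb OMEGA #18722): the bridge to `Inp` and the exit `PlusAt`

`h : Fr S P M F`, `R : RepM S P (zl S M) Y V T Mx`, `UU = mbs R W_F`:

* `mbs_one`, `mbs_uniq`, `mbs_soc`, `mbs_noff` : the fields `one`, `uniq`, `soc`, `noff` of `Inp`;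
* `plusAt_of_inp` : `Inp V q UU` implies (+), `PlusAt S P E_F`.
-/

set_option autoImplicit false
set_option linter.unusedSectionVars false

namespace Cfsg.Agent.Omega.NO1.Alpha

open Subgroup Cfsg Cfsg.Agent.ZN Cfsg.Agent.Omega.Frame
open Cfsg.Agent.Omega.NO1.HE (dl dl_apply dl_one dl_eq_zero dl_comm dl_mul dl_self smul_eq mem_conj add_eq_zero'
  At Pts mem_smul_sylow exists_fixed)
open Cfsg.Agent.Omega.NOne.Flat (Hyp Bad WW NN QU)
open Cfsg.Agent.Omega.NOne.NearFF (c c_def)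
open Cfsg.Agent.MinSimple.VModule (o2_isPGroup)
open Cfsg.Agent.Omega.FFThm (OffM ElemM)
open scoped Pointwise

universe u

section general

variable {G : Type u} [Group G] [Finite G] {S P VV F : Subgroup G} {Y V : Type u} [Group Y] [AddCommGroup V]
  [DistribMulAction Y V] {T : Sylow 2 Y} {Mx : Subgroup Y} (R : RepM S P VV Y V T Mx)

theorem mbs_one (W : Subgroup G) : ∀ B ∈ mbs R W, ∀ C ∈ mbs R W, ∃ y : Y, MulAut.conj y • B = C := by
  rintro _ ⟨y, rfl⟩ _ ⟨z, rfl⟩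
  exact ⟨z * y⁻¹, by rw [← mul_smul, ← map_mul, inv_mul_cancel_right]⟩

/-- `g ∈ P` normalising `W` : its image normalises the image of `W` -/
theorem ac_norm {W : Subgroup G} {g : G} (hgP : g ∈ P) (hg : g ∈ normalizer (W : Set G)) :
    R.ac ⟨g, hgP⟩ ∈ normalizer (R.im W : Set Y) := by
  have key : ∀ (g : G) (hgP : g ∈ P), g ∈ normalizer (W : Set G) → ∀ y ∈ R.im W,
      R.ac ⟨g, hgP⟩ * y * (R.ac ⟨g, hgP⟩)⁻¹ ∈ R.im W := by
    intro g hgP hg y hy
    obtain ⟨s, hs, hsW, rfl⟩ := R.mem_im'.1 hy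
    refine R.mem_im'.2 ⟨g * s * g⁻¹, mul_mem (mul_mem hgP hs) (inv_mem hgP), (mem_normalizer_iff.1 hg s).1 hsW, ?_⟩
    rw [← map_inv, ← map_mul, ← map_mul]
    rfl
  rw [mem_normalizer_iff]
  intro y
  refine ⟨key g hgP hg y, fun h1 => ?_⟩
  have h2 := key g⁻¹ (inv_mem hgP) (inv_mem hg) _ h1
  have e : R.ac ⟨g⁻¹, inv_mem hgP⟩ = (R.ac ⟨g, hgP⟩)⁻¹ := by rw [← map_inv]; rfl
  rw [e] at h2
  have e2 : (R.ac ⟨g, hgP⟩)⁻¹ * (R.ac ⟨g, hgP⟩ * y * (R.ac ⟨g, hgP⟩)⁻¹) * ((R.ac ⟨g, hgP⟩)⁻¹)⁻¹ = y := by group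
  rwa [e2] at h2

theorem mem_o2_conj (g : G) {z u : G} (hu : u ∈ o2 (centralizer ({z} : Set G))) :
    g * u * g⁻¹ ∈ o2 (centralizer ({g * z * g⁻¹} : Set G)) := by
  have e : MulAut.conj g • centralizer ({z} : Set G) = centralizer ({g * z * g⁻¹} : Set G) := by
    ext y
    rw [mem_conj, mem_centralizer_singleton_iff, mem_centralizer_singleton_iff]
    constructor
    · intro h
      calc y * (g * z * g⁻¹) = g * ((g⁻¹ * y * g) * z) * g⁻¹ := by group
        _ = g * (z * (g⁻¹ * y * g)) * g⁻¹ := by rw [h]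
        _ = g * z * g⁻¹ * y := by group
    · intro h
      calc (g⁻¹ * y * g) * z = g⁻¹ * (y * (g * z * g⁻¹)) * g := by group
        _ = g⁻¹ * (g * z * g⁻¹ * y) * g := by rw [h]
        _ = z * (g⁻¹ * y * g) := by group
  rw [← e, ← NOne.Flat.o2_conj]
  exact mem_conj'.2 ⟨u, hu, rfl⟩

section hyp

variable (H : Hyp VV F) (hWP : WW VV F ≤ P) (hPV : P ≤ normalizer (VV : Set G))
include H hWP hPV

theorem mbs_uniq' : ∀ B ∈ mbs R (WW VV F), ∀ C ∈ mbs R (WW VV F), FX V B = FX V C → B = C := by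
  rintro _ ⟨y, rfl⟩ _ ⟨z, rfl⟩ hF
  -- `g = y⁻¹ z` normalises `F`
  obtain ⟨⟨g, hgP⟩, hg⟩ := R.acs (z⁻¹ * y)
  have h1 : ∀ m : V, m ∈ R.ag F ↔ (z⁻¹ * y) • m ∈ R.ag F := by
    intro m
    rw [← FX_im R H hWP]
    have h2 : y • m ∈ FX V (MulAut.conj y • R.im (WW VV F)) ↔ y • m ∈ FX V (MulAut.conj z • R.im (WW VV F)) := by
      rw [hF]
    rw [smul_mem_FX] at h2
    rw [h2, ← smul_mem_FX (g := z) (v := (z⁻¹ * y) • m), mul_smul, smul_inv_smul]
  have h2 : g ∈ normalizer (F : Set G) := by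
    rw [mem_normalizer_iff]
    intro f
    constructor
    · intro hf
      obtain ⟨m, rfl⟩ := R.surj f (H.F_le_V hf)
      have h3 := (h1 m).1 hf
      rw [← hg, R.mem_ag, R.smul] at h3
      exact h3
    · intro hf
      have hfV : f ∈ VV := (mem_normalizer_iff.1 (hPV hgP) f).2 (H.F_le_V hf)
      obtain ⟨m, rfl⟩ := R.surj f hfV
      refine (h1 m).2 ?_
      rw [← hg, R.mem_ag, R.smul]
      exact hf
  have h3 := ac_norm R hgP (NOne.Flat.mem_norm_WW (hPV hgP) h2)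
  rw [hg, ← conj_eq_iff, map_mul, mul_smul] at h3
  have h4 : MulAut.conj z • (MulAut.conj z⁻¹ • (MulAut.conj y • R.im (WW VV F))) =
      MulAut.conj z • R.im (WW VV F) := by rw [h3]
  rwa [← mul_smul, ← map_mul, mul_inv_cancel, map_one, one_smul] at h4

theorem mbs_soc' (hc : ∀ u ∈ VV, u ≠ 1 →
      centralizer ({u} : Set G) ⊓ centralizer (o2 (centralizer ({u} : Set G)) : Set G) ≤
        o2 (centralizer ({u} : Set G))) :
    ∀ w : V, w ≠ 0 → ∃ D : AddSubgroup V, ∀ B ∈ mbs R (WW VV F), w ∈ FX V B → ∃ A : Subgroup Y, A ≤ B ∧ A ≠ ⊥ ∧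
      (∀ C ∈ mbs R (WW VV F), w ∈ FX V C → A ≤ normalizer (C : Set Y)) ∧
      ∀ v, v ∉ EX V B → (∀ a ∈ A, ∃ e ∈ D, dl a v + e ∈ FX V B) ∧ ∀ e ∈ D, ∃ a ∈ A, dl a v + e ∈ FX V B := by
  intro w hw0
  refine ⟨R.ag (VV ⊓ o2 (centralizer ({R.el w} : Set G))), ?_⟩
  rintro _ ⟨y, rfl⟩ hwB
  obtain ⟨⟨p, hpP⟩, rfl⟩ := R.acs y
  set y := R.ac ⟨p, hpP⟩ with hy
  have hwF : y⁻¹ • w ∈ R.ag F := by
    rw [← FX_im R H hWP, ← smul_mem_FX (g := y), smul_inv_smul]
    exact hwB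
  set z := R.el (y⁻¹ • w) with hz
  have hzF : z ∈ F := hwF
  have hyel : ∀ m : V, R.el (y • m) = p * R.el m * p⁻¹ := fun m => R.smul ⟨p, hpP⟩ m
  have hwz : R.el w = p * z * p⁻¹ := by rw [hz, ← hyel, smul_inv_smul]
  have hz1 : z ≠ 1 := by
    intro h1
    apply hw0
    rw [← R.el_eq_one, hwz, h1]
    group
  have hzC := hc z (H.F_le_V hzF) hz1
  obtain ⟨U, hU, hUQ, -, -⟩ := H.exists_qu_elem hzF hz1 hzC
  have hEz : NOne.Flat.EE VV (zpowers z) = VV ⊓ o2 (centralizer ({z} : Set G)) := by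
    change VV ⊓ o2 (centralizer ((zpowers z : Subgroup G) : Set G)) = _
    rw [Hyp.centralizer_zpowers']
  -- conjugation by `p`
  have hup : ∀ m : V, R.el m ∈ VV ⊓ o2 (centralizer ({z} : Set G)) →
      y • m ∈ R.ag (VV ⊓ o2 (centralizer ({R.el w} : Set G))) := by
    intro m hm
    rw [R.mem_ag, hyel]
    refine Subgroup.mem_inf.2 ⟨(mem_normalizer_iff.1 (hPV hpP) _).1 (Subgroup.mem_inf.1 hm).1, ?_⟩
    rw [hwz]
    exact mem_o2_conj p (Subgroup.mem_inf.1 hm).2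
  have hdown : ∀ m ∈ R.ag (VV ⊓ o2 (centralizer ({R.el w} : Set G))),
      R.el (y⁻¹ • m) ∈ VV ⊓ o2 (centralizer ({z} : Set G)) := by
    intro m hm
    rw [R.mem_ag] at hm
    have e : R.el (y⁻¹ • m) = p⁻¹ * R.el m * p := by
      have h1 := hyel (y⁻¹ • m)
      rw [smul_inv_smul] at h1
      rw [h1]; group
    refine Subgroup.mem_inf.2 ⟨R.mem _, ?_⟩
    rw [e]
    have h2 := mem_o2_conj p⁻¹ (Subgroup.mem_inf.1 hm).2
    have e2 : p⁻¹ * R.el w * p⁻¹⁻¹ = z := by rw [hwz]; group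
    rw [e2, inv_inv] at h2
    exact h2
  have hUW : R.im U ≤ R.im (WW VV F) := R.im_mono hU.le_W
  have hUP : U ≤ P := hU.le_W.trans hWP
  refine ⟨MulAut.conj y • R.im U, Subgroup.pointwise_smul_le_pointwise_smul_iff.2 hUW, ?_, ?_, ?_⟩
  · -- nontrivial
    have h1 : ¬ U ≤ centralizer (VV : Set G) := by
      intro h1
      obtain ⟨w', hw', hwE⟩ := H.exists_not_mem
      refine hwE (hU.cent_V ⟨hw', mem_centralizer_iff.2 fun s hs => ?_⟩)
      exact (mem_centralizer_iff.1 (h1 hs) w' hw').symm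
    obtain ⟨s, hs, hsV⟩ := SetLike.not_le_iff_exists.1 h1
    intro h0
    have h2 : y * R.ac ⟨s, hUP hs⟩ * y⁻¹ ∈ MulAut.conj y • R.im U :=
      mem_conj'.2 ⟨_, R.mem_im'.2 ⟨s, hUP hs, hs, rfl⟩, rfl⟩
    rw [h0, mem_bot, conj_eq_one_iff, R.ac_eq_one] at h2
    exact hsV h2
  · -- normalises the members `C` with `w ∈ F_C`
    rintro _ ⟨y', rfl⟩ hwC
    obtain ⟨⟨p', hpP'⟩, rfl⟩ := R.acs y'
    set y' := R.ac ⟨p', hpP'⟩ with hy'
    have hwF' : y'⁻¹ • w ∈ R.ag F := by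
      rw [← FX_im R H hWP, ← smul_mem_FX (g := y'), smul_inv_smul]
      exact hwC
    have hyel' : ∀ m : V, R.el (y' • m) = p' * R.el m * p'⁻¹ := fun m => R.smul ⟨p', hpP'⟩ m
    set z' := R.el (y'⁻¹ • w) with hz'
    have hzF' : z' ∈ F := hwF'
    have hwz' : R.el w = p' * z' * p'⁻¹ := by rw [hz', ← hyel', smul_inv_smul]
    have hz1' : z' ≠ 1 := by
      intro h1
      apply hw0
      rw [← R.el_eq_one, hwz', h1]
      group
    have hQ : o2 (centralizer ({z'} : Set G)) ≤ normalizer (WW VV F : Set G) := by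
      have h1 := H.QD_norm_W (D := zpowers z') (by rwa [Ne, zpowers_eq_bot]) (zpowers_le.2 hzF')
      rwa [Hyp.centralizer_zpowers'] at h1
    intro a ha
    obtain ⟨b, hb, rfl⟩ := mem_conj'.1 ha
    obtain ⟨s, hsP, hsU, rfl⟩ := R.mem_im'.1 hb
    have hg : p'⁻¹ * (p * s * p⁻¹) * p' ∈ o2 (centralizer ({z'} : Set G)) := by
      have h1 := mem_o2_conj p'⁻¹ (mem_o2_conj p (hUQ hsU))
      have e2 : p'⁻¹ * (p * z * p⁻¹) * p'⁻¹⁻¹ = z' := by rw [← hwz, hwz']; group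
      rw [e2, inv_inv] at h1
      exact h1
    have hgP : p'⁻¹ * (p * s * p⁻¹) * p' ∈ P :=
      mul_mem (mul_mem (inv_mem hpP') (mul_mem (mul_mem hpP hsP) (inv_mem hpP))) hpP'
    have h3 := ac_norm R hgP (hQ hg)
    have e3 : R.ac ⟨p'⁻¹ * (p * s * p⁻¹) * p', hgP⟩ = y'⁻¹ * (y * R.ac ⟨s, hsP⟩ * y⁻¹) * y' := by
      rw [hy, hy', ← map_inv, ← map_inv, ← map_mul, ← map_mul, ← map_mul, ← map_mul]
      rfl
    rw [e3, ← conj_eq_iff] at h3
    rw [← conj_eq_iff]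
    have h4 : MulAut.conj y' • (MulAut.conj (y'⁻¹ * (y * R.ac ⟨s, hsP⟩ * y⁻¹) * y') • R.im (WW VV F)) =
        MulAut.conj y' • R.im (WW VV F) := by rw [h3]
    rw [← mul_smul, ← map_mul] at h4
    rw [← mul_smul, ← map_mul]
    have e4 : y' * (y'⁻¹ * (y * R.ac ⟨s, hsP⟩ * y⁻¹) * y') = y * R.ac ⟨s, hsP⟩ * y⁻¹ * y' := by group
    rwa [e4] at h4
  · -- the two directions
    intro v hv
    have hv' : y⁻¹ • v ∉ EX V (R.im (WW VV F)) := fun h1 => hv (by
      have := smul_mem_EX (g := y).2 h1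
      rwa [smul_inv_smul] at this)
    have hvE : R.el (y⁻¹ • v) ∉ NOne.Flat.EE VV F := by
      rwa [EX_im R H hWP, R.mem_ag] at hv'
    have hdl : ∀ b : Y, dl (y * b * y⁻¹) v = y • dl b (y⁻¹ • v) := fun b => by
      rw [← dl_conj, smul_inv_smul]
    constructor
    · intro a ha
      obtain ⟨b, hb, rfl⟩ := mem_conj'.1 ha
      obtain ⟨s, hsP, hsU, rfl⟩ := R.mem_im'.1 hb
      refine ⟨y • dl (R.ac ⟨s, hsP⟩) (y⁻¹ • v), hup _ ?_, ?_⟩
      · rw [el_dl, ← hEz]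
        exact hU.comm_V _ (R.mem _) s hsU
      · rw [hdl, R.two]
        exact (FX V _).zero_mem
    · intro e he
      have he' := hdown e he
      rw [← hEz] at he'
      obtain ⟨s, hs, hse⟩ := hU.surj _ (R.mem (y⁻¹ • v)) hvE _ (mem_sup_left he')
      refine ⟨y * R.ac ⟨s, hUP hs⟩ * y⁻¹, mem_conj'.2 ⟨_, R.mem_im'.2 ⟨s, hUP hs, hs, rfl⟩, rfl⟩, ?_⟩
      have e1 : dl (y * R.ac ⟨s, hUP hs⟩ * y⁻¹) v + e = y • (dl (R.ac ⟨s, hUP hs⟩) (y⁻¹ • v) + y⁻¹ • e) := by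
        rw [smul_add, smul_inv_smul, hdl]
      rw [e1, smul_mem_FX, FX_im R H hWP, R.mem_ag, R.add, el_dl]
      rwa [R.el_inv] at hse

end hyp

include R in
/-- no offender -/
theorem noff_of (hPV : P ≤ normalizer (VV : Set G))
    (hoff : ∀ A : Subgroup G, A ≤ normalizer (VV : Set G) → ¬ OffM VV A) :
    ∀ A : Subgroup Y, (∀ a ∈ A, ∀ b ∈ A, a * b = b * a) → (∀ a ∈ A, a * a = 1) → A ≠ ⊥ →
      Nat.card A < (FX V A).index := by
  intro A hA hA2 hA1
  have := R.finite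
  have := R.finiteY
  by_contra hlt
  push Not at hlt
  set A' : Subgroup G := (A.comap R.ac).map P.subtype with hA'
  have hmem : ∀ a, a ∈ A' ↔ ∃ ha : a ∈ P, R.ac ⟨a, ha⟩ ∈ A := by
    intro a
    constructor
    · rintro ⟨p, hp, rfl⟩
      exact ⟨p.2, hp⟩
    · rintro ⟨ha, h1⟩
      exact ⟨⟨a, ha⟩, h1, rfl⟩
  refine hoff A' (fun a ha => hPV ((hmem a).1 ha).1) ?_
  have hne : ¬ A' ≤ centralizer (VV : Set G) := by
    intro h1
    apply hA1
    rw [eq_bot_iff]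
    intro y hy
    obtain ⟨⟨p, hp⟩, rfl⟩ := R.acs y
    rw [mem_bot, R.ac_eq_one]
    exact h1 ((hmem p).2 ⟨hp, hy⟩)
  refine { sq := ?_, comm := ?_, ne := hne, le := ?_ }
  · intro a ha
    obtain ⟨haP, h1⟩ := (hmem a).1 ha
    have h2 := hA2 _ h1
    rw [← map_mul, R.ac_eq_one] at h2
    rw [pow_two]
    exact h2
  · intro a ha b hb
    obtain ⟨haP, h1⟩ := (hmem a).1 ha
    obtain ⟨hbP, h2⟩ := (hmem b).1 hb
    have h3 : R.ac (⟨a, haP⟩ * ⟨b, hbP⟩ * ⟨a, haP⟩⁻¹ * ⟨b, hbP⟩⁻¹) = 1 := by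
      rw [map_mul, map_mul, map_mul, map_inv, map_inv, hA _ h1 _ h2, mul_inv_cancel_right, mul_inv_cancel]
    rw [R.ac_eq_one] at h3
    exact h3
  · -- orders
    have c1 : Nat.card A' = Nat.card A * Nat.card ↥(A' ⊓ centralizer (VV : Set G)) := by
      let φ : A.comap R.ac →* Y := R.ac.comp (A.comap R.ac).subtype
      have h1 := Subgroup.card_mul_index φ.ker
      rw [Subgroup.index_ker] at h1
      have h2 : φ.range = A := by
        ext y
        constructor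
        · rintro ⟨x, rfl⟩
          exact x.2
        · intro hy
          obtain ⟨p, rfl⟩ := R.acs y
          exact ⟨⟨p, hy⟩, rfl⟩
      have h3 : Nat.card φ.ker = Nat.card ↥(A' ⊓ centralizer (VV : Set G)) := by
        refine Nat.card_congr (Equiv.ofBijective
          (fun a : φ.ker => (⟨((a : A.comap R.ac) : P), Subgroup.mem_inf.2
            ⟨(hmem _).2 ⟨((a : A.comap R.ac) : P).2, (a : A.comap R.ac).2⟩, R.ac_eq_one.1 a.2⟩⟩ :
              ↥(A' ⊓ centralizer (VV : Set G)))) ⟨?_, ?_⟩)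
        · intro a b hab
          apply Subtype.ext
          apply Subtype.ext
          apply Subtype.ext
          exact congrArg (fun z : ↥(A' ⊓ centralizer (VV : Set G)) => (z : G)) hab
        · rintro ⟨a, ha⟩
          obtain ⟨haA, haC⟩ := Subgroup.mem_inf.1 ha
          obtain ⟨haP, h4⟩ := (hmem a).1 haA
          exact ⟨⟨⟨⟨a, haP⟩, h4⟩, R.ac_eq_one.2 haC⟩, rfl⟩
      have h4 : Nat.card A' = Nat.card (A.comap R.ac) :=
        (Nat.card_congr ((A.comap R.ac).equivMapOfInjective _ P.subtype_injective).toEquiv).symm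
      rw [h4, ← h1, h2, h3, mul_comm]
    have c2 : Nat.card ↥(VV ⊓ centralizer (A' : Set G)) = Nat.card (FX V A) := by
      symm
      refine Nat.card_congr (Equiv.ofBijective
        (fun m : FX V A => (⟨R.el m, Subgroup.mem_inf.2 ⟨R.mem _, mem_centralizer_iff.2 fun a ha => ?_⟩⟩ :
          ↥(VV ⊓ centralizer (A' : Set G)))) ⟨?_, ?_⟩)
      · obtain ⟨haP, h4⟩ := (hmem a).1 ha
        exact ((ac_fix R haP).1 (m.2 _ h4)).symm
      · intro a b hab
        exact Subtype.ext (R.inj (congrArg (fun z : ↥(VV ⊓ centralizer (A' : Set G)) => (z : G)) hab))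
      · rintro ⟨x, hx⟩
        obtain ⟨hx1, hx2⟩ := Subgroup.mem_inf.1 hx
        obtain ⟨m, rfl⟩ := R.surj x hx1
        refine ⟨⟨m, fun y hy => ?_⟩, rfl⟩
        obtain ⟨⟨p, hp⟩, rfl⟩ := R.acs y
        rw [ac_fix R hp]
        exact (mem_centralizer_iff.1 hx2 p ((hmem p).2 ⟨hp, hy⟩)).symm
    have c3 : Nat.card VV = Nat.card (FX V A) * (FX V A).index := by
      rw [AddSubgroup.card_mul_index, R.card_M]
    rw [c1, c2, c3]
    calc Nat.card (FX V A) * (FX V A).index * Nat.card ↥(A' ⊓ centralizer (VV : Set G))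
        ≤ Nat.card (FX V A) * Nat.card A * Nat.card ↥(A' ⊓ centralizer (VV : Set G)) :=
          Nat.mul_le_mul_right _ (Nat.mul_le_mul_left _ hlt)
      _ = Nat.card A * Nat.card ↥(A' ⊓ centralizer (VV : Set G)) * Nat.card (FX V A) := by ring

end general

/-! ### points -/

section points

variable {Y : Type u} [Group Y] [Finite Y] {T : Sylow 2 Y} {Mx : Subgroup Y}

theorem mx_of (Pt : Pts Y (Y ⧸ Mx)) (TM : (T : Subgroup Y) ≤ Mx)
    (max : ∀ K : Subgroup Y, (T : Subgroup Y) ≤ K → K ≠ ⊤ → K ≤ Mx) :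
    ∀ (T' : Sylow 2 Y) (p : Y ⧸ Mx), At T' p → ∀ K : Subgroup Y, (T' : Subgroup Y) ≤ K → K ≠ ⊤ →
      ∀ k ∈ K, k • p = p := by
  have : Fact (Nat.Prime 2) := ⟨Nat.prime_two⟩
  intro T' p hp K hK hK1 k hk
  obtain ⟨g, rfl⟩ := MulAction.exists_smul_eq Y T T'
  have at1 : At T ((1 : Y) : Y ⧸ Mx) := fun t ht => by
    rw [MulAction.Quotient.smul_coe, smul_eq_mul, mul_one, eq_comm, QuotientGroup.eq, inv_one, one_mul]
    exact TM ht
  have h1 := Pt.one _ _ _ hp (at1.smul g)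
  have h2 : MulAut.conj g⁻¹ • K ≤ Mx := by
    refine max _ (fun t ht => ?_) fun h3 => hK1 ?_
    · rw [mem_conj, inv_inv]
      apply hK
      change g * t * g⁻¹ ∈ g • T
      rw [mem_smul_sylow]
      have e : g⁻¹ * (g * t * g⁻¹) * g = t := by group
      rwa [e]
    · apply Subgroup.eq_top_of_card_eq
      rw [Nat.card_congr (Subgroup.equivSMul (MulAut.conj g⁻¹) K).toEquiv, h3, Subgroup.card_top]
  have h3 : g⁻¹ * k * g ∈ Mx := h2 (by
    rw [mem_conj, inv_inv]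
    have e : g * (g⁻¹ * k * g) * g⁻¹ = k := by group
    rwa [e])
  rw [h1, MulAction.Quotient.smul_coe, MulAction.Quotient.smul_coe, smul_eq_mul, smul_eq_mul, eq_comm,
    QuotientGroup.eq, mul_one]
  have e : g⁻¹ * (k * g) = g⁻¹ * k * g := by group
  rwa [e]

end points

/-! ### frames -/

section frames

variable {G : Type u} [Group G] [Finite G] {S : Sylow 2 G} {P M F : Subgroup G}
  {Y V : Type u} [Group Y] [AddCommGroup V] [DistribMulAction Y V] {T : Sylow 2 Y} {Mx : Subgroup Y}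
  (h : Fr S P M F) (R : RepM (S : Subgroup G) P (zl (S : Subgroup G) M) Y V T Mx)
include h

omit R in
theorem PV : P ≤ normalizer (zl (S : Subgroup G) M : Set G) :=
  h.inv.PM.trans (MinSimple.VModule.le_normalizer_zl _ _)

theorem mbs_uniq : ∀ B ∈ mbs R (WW (zl (S : Subgroup G) M) F), ∀ C ∈ mbs R (WW (zl (S : Subgroup G) M) F),
    FX V B = FX V C → B = C :=
  mbs_uniq' R h.hyp (h.W_le_S.trans h.cfg.S_le) (PV h)

theorem mbs_soc : ∀ w : V, w ≠ 0 → ∃ D : AddSubgroup V, ∀ B ∈ mbs R (WW (zl (S : Subgroup G) M) F), w ∈ FX V B →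
    ∃ A : Subgroup Y, A ≤ B ∧ A ≠ ⊥ ∧
      (∀ C ∈ mbs R (WW (zl (S : Subgroup G) M) F), w ∈ FX V C → A ≤ normalizer (C : Set Y)) ∧
      ∀ v, v ∉ EX V B → (∀ a ∈ A, ∃ e ∈ D, dl a v + e ∈ FX V B) ∧ ∀ e ∈ D, ∃ a ∈ A, dl a v + e ∈ FX V B :=
  mbs_soc' R h.hyp (h.W_le_S.trans h.cfg.S_le) (PV h) (hc_elem h)

include R in
theorem mbs_noff : ∀ A : Subgroup Y, (∀ a ∈ A, ∀ b ∈ A, a * b = b * a) → (∀ a ∈ A, a * a = 1) → A ≠ ⊥ →
    Nat.card A < (FX V A).index :=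
  noff_of R (PV h) h.noffV

include R in
/-- **The exit**: `Inp` implies (+). -/
theorem plusAt_of_inp {q : ℕ} (I : Inp V q (mbs R (WW (zl (S : Subgroup G) M) F))) :
    PlusAt (S : Subgroup G) P (NOne.Flat.EE (zl (S : Subgroup G) M) F) := by
  have := R.finite
  have := R.finiteY
  have : Fact (Nat.Prime 2) := ⟨Nat.prime_two⟩
  set B := R.im (WW (zl (S : Subgroup G) M) F) with hBdef
  have hB : B ∈ mbs R (WW (zl (S : Subgroup G) M) F) := im_mem_mbs R _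
  have hBT : B ≤ T := R.im_le_T h.W_le_S
  have hWP : WW (zl (S : Subgroup G) M) F ≤ P := h.W_le_S.trans h.cfg.S_le
  obtain ⟨b, hb, hb1⟩ := (I.mem B hB).exists_ne_one
  have hT : (T : Subgroup Y) ≠ ⊥ := fun h1 => hb1 (by
    have h2 : b ∈ (T : Subgroup Y) := hBT hb
    rwa [h1, mem_bot] at h2)
  have core : ∀ N : Subgroup Y, N.Normal → IsPGroup 2 N → N = ⊥ := by
    intro N hN hN2
    obtain ⟨v, hv⟩ := (I.mem B hB).ne
    obtain ⟨w, -, hw0, hw⟩ := exists_fixed I.two hN2 (⊤ : AddSubgroup V) (fun _ _ _ _ => trivial)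
      ⟨v, trivial, fun h0 => hv (h0 ▸ (EX V B).zero_mem)⟩
    rcases I.irr (FX V N) (fun y x hx n hn => by
      have h1 := hx _ (hN.conj_mem n hn y⁻¹)
      rw [inv_inv, mul_smul, mul_smul, inv_smul_eq_iff] at h1
      exact h1) with h1 | h1
    · exfalso
      apply hw0
      have h2 : w ∈ FX V N := hw
      rwa [h1, AddSubgroup.mem_bot] at h2
    · rw [eq_bot_iff]
      intro n hn
      rw [mem_bot]
      refine R.faith n fun m => ?_
      have h2 : m ∈ FX V N := h1 ▸ AddSubgroup.mem_top m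
      exact h2 n hn
  have Pt := HE.pts_of core R.TM R.Mne R.max hT
  have mx := mx_of Pt R.TM R.max
  have at1 : At T ((1 : Y) : Y ⧸ Mx) := fun t ht => by
    rw [MulAction.Quotient.smul_coe, smul_eq_mul, mul_one, eq_comm, QuotientGroup.eq, inv_one, one_mul]
    exact R.TM ht
  intro p hp z hz hz1 hE htop
  obtain ⟨m, rfl⟩ := R.surj z (h.VP_le (h.cfg.Z_le_V hz))
  set y := R.ac ⟨p, hp⟩ with hy
  have hm0 : m ≠ 0 := fun h0 => hz1 (R.el_eq_one.2 h0)
  have hfix : ∀ t ∈ T, t • m = m := by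
    intro t ht
    obtain ⟨⟨s, hsP⟩, hs, rfl⟩ := (R.mem_T t).1 ht
    rw [ac_fix R hsP]
    exact ((ChoiceBase.mem_zc.1 hz).2.2 s hs).symm
  have h1 := I.plus Pt mx hB hBT at1 (y • T) (y • ((1 : Y) : Y ⧸ Mx)) (at1.smul y) ⟨y • m, by
    rw [hBdef, EX_im R h.hyp hWP, R.mem_ag, R.smul]
    exact hE, fun h0 => hm0 (by rwa [smul_eq_zero_iff_eq] at h0), fun t ht => by
    have h2 := hfix _ (mem_smul_sylow.1 ht)
    rw [mul_smul, mul_smul, inv_smul_eq_iff] at h2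
    exact h2⟩
  have h2 : y ∈ Mx := by
    rw [MulAction.Quotient.smul_coe, smul_eq_mul, mul_one, eq_comm, QuotientGroup.eq, inv_one, one_mul] at h1
    exact h1
  apply R.Mne
  rw [eq_top_iff]
  intro x _
  obtain ⟨⟨g, hg⟩, rfl⟩ := R.acs x
  have h3 : (S : Subgroup G) ⊔ zpowers p ≤ (Mx.comap R.ac).map P.subtype := by
    refine sup_le (fun s hs => ⟨⟨s, h.cfg.S_le hs⟩, R.TM ((R.mem_T _).2 ⟨_, hs, rfl⟩), rfl⟩) ?_
    rw [zpowers_le]
    exact ⟨⟨p, hp⟩, h2, rfl⟩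
  rw [htop] at h3
  obtain ⟨g', hg', hgg⟩ := h3 hg
  have e : g' = ⟨g, hg⟩ := Subtype.ext hgg
  rw [← e]
  exact hg'

end frames

end Cfsg.Agent.Omega.NO1.Alpha

end
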