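import Cfsg.Agent.Mrg.Omega.NO1.Alpha.Defs

section


/-!
# LEMMA (TR) (text #19134, helper558)
-/

set_option autoImplicit false
set_option linter.unusedSectionVars false

namespace Cfsg.Agent.Omega.NO1.Alpha

open Subgroup Cfsg.Agent.ZN
open Cfsg.Agent.Omega.NO1.HE (dl dl_apply dl_one dl_eq_zero dl_comm dl_mul dl_self smul_eq add_eq_zero' mem_conj
  exists_fn zmod2)
open scoped Pointwise

universe u

variable {Y : Type u} [Group Y] {V : Type u} [AddCommGroup V] [DistribMulAction Y V]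

theorem card_dual' {Q : Type u} [AddCommGroup Q] [Finite Q] (hQ : ∀ q : Q, q + q = 0) :
    Nat.card (Q →+ ZMod 2) = Nat.card Q := by
  classical
  have := Fintype.ofFinite Q
  have : Finite (Q →+ ZMod 2) := Finite.of_injective _ DFunLike.coe_injective
  have := Fintype.ofFinite (Q →+ ZMod 2)
  rw [Nat.card_eq_fintype_card, Nat.card_eq_fintype_card]
  exact HE.card_dual hQ

/-- **LEMMA (TR).** -/
theorem tr [Finite Y] [Finite V] (h2 : ∀ v : V, v + v = 0) {q : ℕ} {A : Subgroup Y} (hA : Mem V q A) {x : V}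
    (hx : x ∈ EX V A) {A₁ : Subgroup Y} (hA₁ : A₁ ≤ A) (hc : q ≤ Nat.card A₁)
    (h1 : ∀ s ∈ A₁, s ≠ 1 → ∃ w, w ∉ EX V A ∧ dl s w + x ∈ FX V A)
    (hq : ∀ s ∈ A₁, ∀ t ∈ A₁, ∀ v : V, dl s (dl t v) = 0) {E' : AddSubgroup V}
    (hE : ∀ s ∈ A₁, ∀ v ∈ E', s • v ∈ E') (hi : E'.index < 2 * q) {b : Y} (hb : b ∈ A) : dl b x ∈ E' := by
  classical
  by_contra hf
  obtain ⟨ψ, hψ, hψf⟩ := exists_fn h2 E' hf
  have hfF : dl b x ∈ FX V A := hA.dlF hb hx
  have hQ : ∀ z : V ⧸ E', z + z = 0 := by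
    intro z
    induction z using QuotientAddGroup.induction_on with
    | _ v => rw [← QuotientAddGroup.mk_add, h2, QuotientAddGroup.mk_zero]
  let D := (V ⧸ E') →+ ZMod 2
  have iD : Finite D := Finite.of_injective _ DFunLike.coe_injective
  -- evaluation at `f`
  let ev : D →+ ZMod 2 := AddMonoidHom.mk' (fun g => g ((dl b x : V) : V ⧸ E')) (fun g g' => rfl)
  let K : AddSubgroup D := ev.ker
  have hK : K ≠ ⊤ := by
    intro h
    let ψ' : D := QuotientAddGroup.lift E' ψ hψ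
    have h3 : ψ' ∈ K := h ▸ AddSubgroup.mem_top _
    exact hψf h3
  -- the map
  have hlift : ∀ s : A₁, ∀ e ∈ E', (ψ.comp (dl (s : Y))) e = 0 := by
    intro s e he
    change ψ (dl (s : Y) e) = 0
    exact hψ _ (E'.add_mem (hE s s.2 e he) he)
  let η : A₁ → D := fun s => QuotientAddGroup.lift E' (ψ.comp (dl (s : Y))) (hlift s)
  have hη : ∀ (s : A₁) (v : V), η s (v : V ⧸ E') = ψ (dl (s : Y) v) := fun _ _ => rfl
  have hηK : ∀ s : A₁, η s ∈ K := by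
    intro s
    change η s ((dl b x : V) : V ⧸ E') = 0
    rw [hη, hA.dl0 h2 (hA₁ s.2) hfF, map_zero]
  have hinj : Function.Injective (fun s : A₁ => (⟨η s, hηK s⟩ : K)) := by
    intro s t hst
    have h3 : η s = η t := congrArg Subtype.val hst
    by_contra hne
    have h4 : (t : Y) * s ≠ 1 := by
      intro h5
      apply hne
      apply Subtype.ext
      have h6 := hA.sq t (hA₁ t.2)
      exact mul_left_cancel (h5.trans h6.symm)
    obtain ⟨w, hw, hwx⟩ := h1 _ (A₁.mul_mem t.2 s.2) h4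
    -- `f = [w, ts, b] = [w, b, ts]`
    have h5 : dl b x = dl ((t : Y) * s) (dl b w) := by
      rw [dl_comm (hA.comm _ (A.mul_mem (hA₁ t.2) (hA₁ s.2)) _ hb), ← add_eq_zero' h2, ← map_add, add_comm]
      exact hA.dl0 h2 hb hwx
    have h6 : ψ (dl b x) = 0 := by
      rw [h5, dl_mul h2, hq t t.2 s s.2, add_zero, map_add, ← hη, ← hη, h3]
      exact CharTwo.add_self_eq_zero _
    exact hψf h6
  have c1 := Nat.card_le_card_of_injective _ hinj
  have c2 : K.index * Nat.card K = Nat.card D := AddSubgroup.index_mul_card K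
  have c3 : Nat.card D = E'.index := card_dual' hQ
  have c4 : 2 ≤ K.index := by
    have h5 : K.index ≠ 0 := AddSubgroup.index_ne_zero_of_finite
    have h6 : K.index ≠ 1 := fun h => hK (AddSubgroup.index_eq_one.1 h)
    omega
  have c5 : 2 * Nat.card K ≤ K.index * Nat.card K := Nat.mul_le_mul_right _ c4
  omega

end Cfsg.Agent.Omega.NO1.Alpha

end

section


/-!
# THEOREM ALPHA (text #18722, helper446): (1), (2) and `O₂(L) = 1`

`AL V UU L` : `L = ⟨D, D'⟩` for any two members `D ≠ D'` in `L`, type I, ALPHA.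

* `AL.trick` : (1);
* `AL.eq_bot_of_le` : (2), an `L`-invariant subgroup of `E_D` is 0;
* `AL.disj` : `F_D' ∩ E_D = 0`;
* `AL.inf_norm` : `D ∩ N(D') = 1`;
* `AL.o2_eq` : `O₂(L) = 1`.
-/

set_option autoImplicit false
set_option linter.unusedSectionVars false

namespace Cfsg.Agent.Omega.NO1.Alpha

open Subgroup Cfsg.Agent.ZN
open Cfsg.Agent.Omega.NO1.HE (dl dl_apply dl_one dl_eq_zero dl_comm dl_mul dl_self smul_eq add_eq_zero' mem_conj
  exists_fixed)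
open Cfsg.Agent.MinSimple.VModule (o2_isPGroup le_normalizer_o2 o2_le)
open scoped Pointwise

universe u

variable {Y : Type u} [Group Y] {V : Type u} [AddCommGroup V] [DistribMulAction Y V]

/-- A type I pair generating `L`, with ALPHA. -/
structure AL (V : Type u) [AddCommGroup V] [DistribMulAction Y V] (UU : Set (Subgroup Y)) (L : Subgroup Y) :
    Prop where
  ex : ∃ A C : Subgroup Y, Pair UU A C L ∧ ∃ w, w ∉ EX V A ∧ ∀ t ∈ o2 L, t • w = w

/-- `AddSubgroup` of vectors fixed by `H` inside `W` -/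
def fixIn (W : AddSubgroup V) (H : Subgroup Y) : AddSubgroup V := W ⊓ FX V H

variable [Finite Y] [Finite V]

namespace Pair

variable {UU : Set (Subgroup Y)} {A C L : Subgroup Y} {q : ℕ}

/-- any two different members in `L` form a pair -/
theorem pair_of (P : Pair UU A C L) (K : Cls V q UU) {D D' : Subgroup Y} (hD : D ∈ UU) (hD' : D' ∈ UU)
    (hDL : D ≤ L) (hDL' : D' ≤ L) (hne : D ≠ D') : Pair UU D D' L := by
  have hg := P.min D hD D' hD' hne (sup_le hDL hDL')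
  refine ⟨hD, hD', hne, hg, P.min, fun h => P.not_two K ?_⟩
  rw [← hg]
  exact (K.mem D hD).two_pow.to_sup_of_normal_left' (K.mem D' hD').two_pow h.2

end Pair

namespace AL

variable {UU : Set (Subgroup Y)} {L : Subgroup Y} {q : ℕ} {D D' : Subgroup Y}

theorem smul_fix_o2 {w : V} (hw : ∀ t ∈ o2 L, t • w = w) {x : Y} (hx : x ∈ L) : ∀ t ∈ o2 L, t • x • w = x • w := by
  intro t ht
  have h1 := (mem_normalizer_iff.1 (inv_mem (le_normalizer_o2 L hx)) t).1 ht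
  rw [inv_inv] at h1
  have h2 := hw _ h1
  rw [mul_smul, mul_smul, inv_smul_eq_iff] at h2
  exact h2

/-- every member in `L` is as good as the first -/
theorem exists_w (H : AL V UU L) (K : Cls V q UU) (hD : D ∈ UU) (hDL : D ≤ L) :
    ∃ w, w ∉ EX V D ∧ ∀ t ∈ o2 L, t • w = w := by
  obtain ⟨A, C, P, w, hw, hfix⟩ := H.ex
  by_cases h : A = D
  · exact h ▸ ⟨w, hw, hfix⟩
  · obtain ⟨x, hx, rfl⟩ := (P.pair_of K P.A_mem hD P.A_le hDL h).exists_conj K
    exact ⟨x • w, fun h1 => hw (smul_mem_EX.1 h1), smul_fix_o2 hfix hx⟩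

theorem pair (H : AL V UU L) (K : Cls V q UU) (hD : D ∈ UU) (hD' : D' ∈ UU)
    (hDL : D ≤ L) (hDL' : D' ≤ L) (hne : D ≠ D') : Pair UU D D' L := by
  obtain ⟨A, C, P, -⟩ := H.ex
  exact P.pair_of K hD hD' hDL hDL' hne

/-- there are other members -/
theorem exists_ne (H : AL V UU L) (D : Subgroup Y) : ∃ D' ∈ UU, D' ≤ L ∧ D' ≠ D := by
  obtain ⟨A, C, P, -⟩ := H.ex
  by_cases h : A = D
  · exact ⟨C, P.C_mem, P.C_le, fun h1 => P.ne (h.trans h1.symm)⟩
  · exact ⟨A, P.A_mem, P.A_le, h⟩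

theorem le_norm (H : AL V UU L) (K : Cls V q UU) {D R : Subgroup Y} (hD : D ∈ UU) (hDR : D ≤ R)
    (hRL : R ≤ L) (hne : R ≠ L) : R ≤ normalizer (D : Set Y) := by
  obtain ⟨A, C, P, -⟩ := H.ex
  exact P.le_norm K hD hDR hRL hne

theorem inf_o2 (H : AL V UU L) (K : Cls V q UU) (hD : D ∈ UU) (hDL : D ≤ L) : D ⊓ o2 L = ⊥ := by
  obtain ⟨w, hw, hfix⟩ := H.exists_w K hD hDL
  rw [eq_bot_iff]
  rintro d ⟨hd, hd2⟩
  rw [mem_bot]
  refine (K.mem D hD).inj w hw d hd ?_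
  rw [(dl_eq_zero K.two).2 (hfix d hd2)]
  exact (FX V D).zero_mem

/-- `C_V(L) = 0` -/
theorem fix_zero (H : AL V UU L) (K : Cls V q UU) {v : V} (hv : v ∈ FX V L) : v = 0 := by
  by_contra hne
  obtain ⟨A, C, P, -⟩ := H.ex
  exact K.soc A P.A_mem L P.A_le ⟨v, hne, hv⟩ (H.inf_o2 K P.A_mem P.A_le)

theorem FX_disj (H : AL V UU L) (K : Cls V q UU) (hD : D ∈ UU) (hD' : D' ∈ UU)
    (hDL : D ≤ L) (hDL' : D' ≤ L) (hne : D ≠ D') {v : V} (hv : v ∈ FX V D) (hv' : v ∈ FX V D') : v = 0 := by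
  refine H.fix_zero K ?_
  rw [← (H.pair K hD hD' hDL hDL' hne).gen]
  exact fix_sup hv hv'

/-- `C_L(x) ≤ N(D')` for `0 ≠ x ∈ F_D'` -/
theorem stab_le (H : AL V UU L) (K : Cls V q UU) (hD' : D' ∈ UU) (hDL' : D' ≤ L) {x : V} (hx0 : x ≠ 0)
    (hx : x ∈ FX V D') {y : Y} (hy : y ∈ L) (hyx : y • x = x) : y ∈ normalizer (D' : Set Y) := by
  refine H.le_norm K hD' (R := L ⊓ MulAction.stabilizer Y x) (le_inf hDL' fun d hd => hx d hd) inf_le_left
    (fun h => hx0 (H.fix_zero K fun l hl => ?_)) ⟨hy, hyx⟩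
  have h1 := h.symm.le hl
  exact h1.2

theorem pos (H : AL V UU L) (K : Cls V q UU) : 0 < q := by
  obtain ⟨A, C, P, -⟩ := H.ex
  rw [← (K.mem A P.A_mem).ind]
  exact Nat.pos_of_ne_zero AddSubgroup.index_ne_zero_of_finite

/-- **(1)** -/
theorem trick (H : AL V UU L) (K : Cls V q UU) (hD : D ∈ UU) (hD' : D' ∈ UU)
    (hDL : D ≤ L) (hDL' : D' ≤ L) {x : V} (hx : x ∈ EX V D) (hx' : x ∈ FX V D') {b : Y}
    (hb : b ∈ D) : dl b x ∈ EX V D' := by
  by_cases hx0 : x = 0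
  · rw [hx0, map_zero]; exact (EX V D').zero_mem
  by_cases hxF : x ∈ FX V D
  · rw [(K.mem D hD).dl0 K.two hb hxF]; exact (EX V D').zero_mem
  obtain ⟨A₁, hA₁, hc, h1, h3⟩ := K.sc D hD x hx hxF
  refine tr K.two (K.mem D hD) hx hA₁ hc.ge h1 h3 (fun s hs v hv => ?_) ?_ hb
  · refine smul_EX_of (H.stab_le K hD' hDL' hx0 hx' (hDL (hA₁ hs)) ?_) hv
    by_cases hs1 : s = 1
    · rw [hs1, one_smul]
    obtain ⟨w, -, hw⟩ := h1 s hs hs1
    rw [← dl_eq_zero K.two]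
    have h4 : dl s x = dl s (dl s w) := by
      rw [← add_eq_zero' K.two, ← map_add, add_comm]
      exact (K.mem D hD).dl0 K.two (hA₁ hs) hw
    rw [h4, dl_self K.two ((K.mem D hD).sq s (hA₁ hs))]
  · rw [(K.mem D' hD').ind]
    have := H.pos K
    omega

/-- invariance under `L` -/
theorem inv_of (H : AL V UU L) (K : Cls V q UU) (hD : D ∈ UU) (hD' : D' ∈ UU)
    (hDL : D ≤ L) (hDL' : D' ≤ L) (hne : D ≠ D') {W : AddSubgroup V} (h1 : ∀ b ∈ D, ∀ w ∈ W, b • w ∈ W)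
    (h2 : ∀ b ∈ D', ∀ w ∈ W, b • w ∈ W) : ∀ l ∈ L, ∀ w ∈ W, l • w ∈ W := by
  have key : L ≤ MulAction.stabilizer Y W := by
    rw [← (H.pair K hD hD' hDL hDL' hne).gen]
    have aux : ∀ E : Subgroup Y, (∀ b ∈ E, ∀ w ∈ W, b • w ∈ W) → E ≤ MulAction.stabilizer Y W := by
      intro E hE b hb
      rw [MulAction.mem_stabilizer_iff]
      apply le_antisymm
      · intro v hv
        rw [AddSubgroup.mem_pointwise_smul_iff_inv_smul_mem] at hv
        have := hE b hb _ hv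
        rwa [smul_inv_smul] at this
      · intro v hv
        rw [AddSubgroup.mem_pointwise_smul_iff_inv_smul_mem]
        exact hE _ (inv_mem hb) v hv
    exact sup_le (aux D h1) (aux D' h2)
  intro l hl w hw
  have h3 := MulAction.mem_stabilizer_iff.1 (key hl)
  rw [← h3]
  exact AddSubgroup.smul_mem_pointwise_smul w l W hw

theorem exists_fix_ne (K : Cls V q UU) {R : Subgroup Y} (hR : IsPGroup 2 R) (W : AddSubgroup V)
    (hW : ∀ r ∈ R, ∀ w ∈ W, r • w ∈ W) (hne : W ≠ ⊥) : ∃ w ∈ W, w ≠ 0 ∧ ∀ r ∈ R, r • w = w := by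
  refine exists_fixed K.two hR W hW ?_
  by_contra hcon
  push Not at hcon
  exact hne ((AddSubgroup.eq_bot_iff_forall W).2 hcon)

/-- **(2)** -/
theorem eq_bot_of_le (H : AL V UU L) (K : Cls V q UU) {W : AddSubgroup V} (hW : ∀ l ∈ L, ∀ w ∈ W, l • w ∈ W)
    (hE : ∀ D ∈ UU, D ≤ L → W ≤ EX V D) : W = ⊥ := by
  by_contra hne
  -- `X_0`
  set X0 : AddSubgroup V := W ⊓ FX V (o2 L) with hX0
  obtain ⟨x0, hx0W, hx00, hx0f⟩ := exists_fix_ne K (o2_isPGroup L) W (fun r hr => hW r (o2_le L hr)) hne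
  have hX0ne : X0 ≠ ⊥ := fun h => hx00 (by
    have h1 : x0 ∈ X0 := ⟨hx0W, hx0f⟩
    rw [h] at h1
    exact AddSubgroup.mem_bot.1 h1)
  have hX0L : ∀ l ∈ L, ∀ w ∈ X0, l • w ∈ X0 := fun l hl w hw => ⟨hW l hl w hw.1, smul_fix_o2 hw.2 hl⟩
  -- `[X_0, D] ≤ X_0 ∩ F_D`
  have hcm : ∀ D ∈ UU, D ≤ L → ∀ b ∈ D, ∀ x ∈ X0, dl b x ∈ X0 ⊓ FX V D := by
    intro D hD hDL b hb x hx
    exact ⟨X0.add_mem (hX0L b (hDL hb) x hx) hx, (K.mem D hD).dlF hb (hE D hD hDL hx.1)⟩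
  have hfx : ∀ D ∈ UU, D ≤ L → ∃ x ∈ X0 ⊓ FX V D, x ≠ 0 := by
    intro D hD hDL
    obtain ⟨x, hx, hx1, hx3⟩ := exists_fix_ne K (K.mem D hD).two_pow X0 (fun r hr => hX0L r (hDL hr)) hX0ne
    exact ⟨x, ⟨hx, hx3⟩, hx1⟩
  obtain ⟨A, C, P, -⟩ := H.ex
  have hA := P.A_mem
  have hC := P.C_mem
  have hAL := P.A_le
  have hCL := P.C_le
  -- `X' = X_01 + X_01^g` is invariant
  set X' : AddSubgroup V := (X0 ⊓ FX V A) ⊔ (X0 ⊓ FX V C) with hX'
  have hX'0 : X' ≤ X0 := sup_le inf_le_left inf_le_left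
  have hX'L : ∀ l ∈ L, ∀ w ∈ X', l • w ∈ X' := by
    refine H.inv_of K hA hC hAL hCL P.ne ?_ ?_
    · intro b hb w hw
      rw [smul_eq K.two b w]
      exact X'.add_mem hw ((le_sup_left : _ ≤ X') (hcm A hA hAL b hb w (hX'0 hw)))
    · intro b hb w hw
      rw [smul_eq K.two b w]
      exact X'.add_mem hw ((le_sup_right : _ ≤ X') (hcm C hC hCL b hb w (hX'0 hw)))
  have hXD : ∀ D ∈ UU, D ≤ L → X0 ⊓ FX V D ≤ X' := by
    intro D hD hDL
    by_cases h : A = D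
    · rw [← h]; exact le_sup_left
    · obtain ⟨l, hl, rfl⟩ := (H.pair K hA hD hAL hDL h).exists_conj K
      intro x hx
      have h1 : l⁻¹ • x ∈ X0 ⊓ FX V A := by
        refine ⟨hX0L _ (inv_mem hl) x hx.1, ?_⟩
        change l⁻¹ • x ∈ FX V A
        rw [← smul_mem_FX (g := l), smul_inv_smul]
        exact hx.2
      have h3 := hX'L l hl _ ((le_sup_left : _ ≤ X') h1)
      rwa [smul_inv_smul] at h3
  -- `A ∩ N(C) = 1`
  have hAC : ∀ a ∈ A, a ∈ normalizer (C : Set Y) → a = 1 := by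
    intro a ha haC
    have hc1 : ∀ x ∈ X0 ⊓ FX V C, a • x = x := by
      intro x hx
      rw [← dl_eq_zero K.two]
      have h1 := hcm A hA hAL a ha x hx.1
      exact H.FX_disj K hA hC hAL hCL P.ne h1.2 ((FX V C).add_mem (smul_FX_of haC hx.2) hx.2)
    have hc3 : ∀ x ∈ X', a • x = x := by
      intro x hx
      obtain ⟨y, hy, z, hz, rfl⟩ := AddSubgroup.mem_sup.1 hx
      rw [smul_add, hc1 z hz, hy.2 a ha]
    have h3 : ∀ l ∈ L, l * a * l⁻¹ ∈ normalizer (A : Set Y) := by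
      intro l hl
      have hDU := K.conj A hA l⁻¹
      have hDL : MulAut.conj l⁻¹ • A ≤ L := Pair.conj_le hAL (inv_mem hl)
      obtain ⟨x, hx, hx1⟩ := hfx _ hDU hDL
      have h4 := H.stab_le K hDU hDL hx1 hx.2 (hAL ha) (hc3 x (hXD _ hDU hDL hx))
      rw [← conj_eq_iff] at h4 ⊢
      rw [← smul_assoc] at h4
      have h5 : MulAut.conj l • (MulAut.conj a • MulAut.conj l⁻¹) • A = MulAut.conj l • MulAut.conj l⁻¹ • A := by
        rw [h4]
      rw [← smul_assoc, ← smul_assoc] at h5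
      simp only [smul_eq_mul, ← map_mul] at h5
      rw [h5, ← smul_assoc, smul_eq_mul, ← map_mul, mul_inv_cancel, map_one, one_smul]
    have h4 : zpowers a ≤ o2 L := by
      refine P.le_o2 K (zpowers_le.2 (hAL ha)) ((K.mem A hA).two_pow.to_le (zpowers_le.2 ha)) ?_
      intro r hr l hl
      obtain ⟨k, rfl⟩ := mem_zpowers_iff.1 hr
      rw [← conj_zpow]
      exact zpow_mem (h3 l hl) k
    have h5 : a ∈ A ⊓ o2 L := ⟨ha, h4 (mem_zpowers a)⟩
    rw [H.inf_o2 K hA hAL] at h5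
    exact h5
  -- contradiction
  obtain ⟨y, hy, hy0⟩ := hfx C hC hCL
  have hyE : y ∈ EX V A := hE A hA hAL hy.1.1
  have hyF : y ∉ FX V A := fun h => hy0 (H.FX_disj K hA hC hAL hCL P.ne h hy.2)
  obtain ⟨w, hw⟩ := (K.mem A hA).ne
  obtain ⟨s, hs, hsy⟩ := (K.mem A hA).surj w hw y hyE
  have hs1 : s = 1 := by
    refine hAC s hs (H.stab_le K hC hCL hy0 hy.2 (hAL hs) ?_)
    rw [← dl_eq_zero K.two]
    have h4 : dl s y = dl s (dl s w) := by
      rw [← add_eq_zero' K.two, ← map_add, add_comm]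
      exact (K.mem A hA).dl0 K.two hs hsy
    rw [h4, dl_self K.two ((K.mem A hA).sq s hs)]
  apply hyF
  rwa [hs1, dl_one K.two, zero_add] at hsy

/-- **(2)** : `F_D' ∩ E_D = 0` -/
theorem disj (H : AL V UU L) (K : Cls V q UU) (hD : D ∈ UU) (hD' : D' ∈ UU)
    (hDL : D ≤ L) (hDL' : D' ≤ L) (hne : D ≠ D') {x : V} (hx : x ∈ EX V D) (hx' : x ∈ FX V D') : x = 0 := by
  set W : AddSubgroup V := (FX V D' ⊓ EX V D) ⊔ (FX V D ⊓ EX V D') with hW
  have hWD : W ≤ EX V D := sup_le inf_le_right (inf_le_left.trans ((K.mem D hD).FE K.two))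
  have hWD' : W ≤ EX V D' := sup_le (inf_le_left.trans ((K.mem D' hD').FE K.two)) inf_le_right
  have aux : ∀ D ∈ UU, ∀ D' ∈ UU, D ≤ L → D' ≤ L → ∀ b ∈ D,
      ∀ w ∈ (FX V D' ⊓ EX V D) ⊔ (FX V D ⊓ EX V D'), b • w ∈ (FX V D' ⊓ EX V D) ⊔ (FX V D ⊓ EX V D') := by
    intro D hD D' hD' hDL hDL' b hb w hw
    obtain ⟨y, hy, z, hz, rfl⟩ := AddSubgroup.mem_sup.1 hw
    have hz1 : b • z = z := hz.1 b hb
    rw [smul_add, hz1, smul_eq K.two b y]
    refine AddSubgroup.add_mem _ (AddSubgroup.add_mem _ ?_ ?_) ?_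
    · exact (le_sup_left : _ ≤ (FX V D' ⊓ EX V D) ⊔ (FX V D ⊓ EX V D')) hy
    · refine (le_sup_right : _ ≤ (FX V D' ⊓ EX V D) ⊔ (FX V D ⊓ EX V D')) ⟨(K.mem D hD).dlF hb hy.2, ?_⟩
      exact H.trick K hD hD' hDL hDL' hy.2 hy.1 hb
    · exact (le_sup_right : _ ≤ (FX V D' ⊓ EX V D) ⊔ (FX V D ⊓ EX V D')) hz
  have hWL : ∀ l ∈ L, ∀ w ∈ W, l • w ∈ W := by
    refine H.inv_of K hD hD' hDL hDL' hne (aux D hD D' hD' hDL hDL') ?_
    intro b hb w hw
    have h1 := aux D' hD' D hD hDL' hDL b hb w (by rw [sup_comm]; exact hw)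
    rw [sup_comm] at h1
    exact h1
  have hbot : W = ⊥ := by
    refine H.eq_bot_of_le K hWL fun D'' hD'' hDL'' => ?_
    by_cases h : D = D''
    · rw [← h]; exact hWD
    · obtain ⟨l, hl, rfl⟩ := (H.pair K hD hD'' hDL hDL'' h).exists_conj K
      intro w hw
      have h1 := hWD (hWL _ (inv_mem hl) w hw)
      rw [← smul_mem_EX (g := l), smul_inv_smul] at h1
      exact h1
  have h1 : x ∈ W := (le_sup_left : _ ≤ W) ⟨hx', hx⟩
  rw [hbot] at h1
  exact AddSubgroup.mem_bot.1 h1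

theorem FX_ne (K : Cls V q UU) (hD : D ∈ UU) : FX V D ≠ ⊥ := by
  obtain ⟨v, hv⟩ := (K.mem D hD).ne
  obtain ⟨w, -, hw0, hw⟩ := exists_fix_ne K (K.mem D hD).two_pow (⊤ : AddSubgroup V) (fun _ _ _ _ => trivial)
    (fun h => hv (by
      have h1 : v ∈ (⊤ : AddSubgroup V) := trivial
      rw [h] at h1
      rw [AddSubgroup.mem_bot.1 h1]
      exact (EX V D).zero_mem))
  intro h
  have h1 : w ∈ FX V D := hw
  rw [h] at h1
  exact hw0 (AddSubgroup.mem_bot.1 h1)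

/-- **(3)** : `D ∩ N(D') = 1` -/
theorem inf_norm (H : AL V UU L) (K : Cls V q UU) (hD : D ∈ UU) (hD' : D' ∈ UU)
    (hDL : D ≤ L) (hDL' : D' ≤ L) (hne : D ≠ D') {d : Y} (hd : d ∈ D) (hn : d ∈ normalizer (D' : Set Y)) :
    d = 1 := by
  by_contra h1
  obtain ⟨y, hy, hy0, hfix⟩ := exists_fix_ne K ((K.mem D hD).two_pow.to_le (zpowers_le.2 hd)) (FX V D')
    (fun r hr w hw => smul_FX_of ((zpowers_le.2 hn) hr) hw) (FX_ne K hD')
  exact hy0 (H.disj K hD hD' hDL hDL' hne ((K.mem D hD).mem_of_fix K.two hd h1 (hfix d (mem_zpowers d))) hy)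

/-- **(3)** : `O₂(L) = 1` -/
theorem o2_eq (H : AL V UU L) (K : Cls V q UU) : o2 L = ⊥ := by
  have hn : ∀ D ∈ UU, D ≤ L → o2 L ≤ normalizer (D : Set Y) := by
    intro D hD hDL
    have h1 : D ⊔ o2 L ≤ normalizer (D : Set Y) := by
      refine H.le_norm K hD le_sup_left (sup_le hDL (o2_le L)) fun h => ?_
      obtain ⟨A, C, P, -⟩ := H.ex
      apply P.not_two K
      rw [← h]
      exact (K.mem D hD).two_pow.to_sup_of_normal_right' (o2_isPGroup L) (hDL.trans (le_normalizer_o2 L))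
    exact le_sup_right.trans h1
  -- `O₂(L)` centralises the members
  have hcomm : ∀ D ∈ UU, D ≤ L → ∀ c ∈ o2 L, ∀ d ∈ D, c * d = d * c := by
    intro D hD hDL c hc d hd
    have h1 : c * d * c⁻¹ * d⁻¹ ∈ D ⊓ o2 L := by
      refine ⟨D.mul_mem ((mem_normalizer_iff.1 (hn D hD hDL hc) d).1 hd) (D.inv_mem hd), ?_⟩
      have h3 := (mem_normalizer_iff.1 (le_normalizer_o2 L (hDL hd)) c⁻¹).1 ((o2 L).inv_mem hc)
      have h4 := (o2 L).mul_mem hc h3
      have e : c * (d * c⁻¹ * d⁻¹) = c * d * c⁻¹ * d⁻¹ := by group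
      rwa [e] at h4
    rw [H.inf_o2 K hD hDL, mem_bot] at h1
    rw [mul_inv_eq_one, mul_inv_eq_iff_eq_mul] at h1
    exact h1
  have hE : ∀ D ∈ UU, D ≤ L → ∀ c ∈ o2 L, ∀ v : V, dl c v ∈ EX V D := by
    intro D hD hDL c hc v
    obtain ⟨w, hw, hfix⟩ := H.exists_w K hD hDL
    intro b hb
    obtain ⟨b', hb', hf⟩ := (K.mem D hD).surj w hw (dl b v) ((K.mem D hD).VB b hb v)
    rw [dl_comm (hcomm D hD hDL c hc b hb).symm]
    -- `dl c (dl b v) = dl c f`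
    have h1 : dl c (dl b' w) = 0 := by
      rw [dl_comm (hcomm D hD hDL c hc b' hb'), (dl_eq_zero K.two).2 (hfix c hc), map_zero]
    have h3 : dl c (dl b v) = dl c (dl b' w + dl b v) := by rw [map_add, h1, zero_add]
    rw [h3]
    exact (FX V D).add_mem (smul_FX_of (hn D hD hDL hc) hf) hf
  have hFc : ∀ D ∈ UU, D ≤ L → ∀ c ∈ o2 L, ∀ f ∈ FX V D, c • f = f := by
    intro D hD hDL c hc f hf
    obtain ⟨D', hD', hDL', hne⟩ := H.exists_ne D
    rw [← dl_eq_zero K.two]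
    exact H.disj K hD' hD hDL' hDL hne (hE D' hD' hDL' c hc f)
      ((FX V D).add_mem (smul_FX_of (hn D hD hDL hc) hf) hf)
  have hEc : ∀ D ∈ UU, D ≤ L → ∀ c ∈ o2 L, ∀ e ∈ EX V D, c • e = e := by
    intro D hD hDL c hc e he
    obtain ⟨w, hw, hfix⟩ := H.exists_w K hD hDL
    obtain ⟨b, hb, hf⟩ := (K.mem D hD).surj w hw e he
    have h1 : dl c (dl b w) = 0 := by
      rw [dl_comm (hcomm D hD hDL c hc b hb), (dl_eq_zero K.two).2 (hfix c hc), map_zero]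
    have h3 : dl c (dl b w + e) = 0 := (dl_eq_zero K.two).2 (hFc D hD hDL c hc _ hf)
    rw [map_add, h1, zero_add] at h3
    exact (dl_eq_zero K.two).1 h3
  have hV : ∀ D ∈ UU, D ≤ L → ∀ c ∈ o2 L, ∀ v : V, dl c v ∈ FX V D := by
    intro D hD hDL c hc v b hb
    rw [← dl_eq_zero K.two, ← dl_comm (hcomm D hD hDL c hc b hb)]
    exact (dl_eq_zero K.two).2 (hEc D hD hDL c hc _ ((K.mem D hD).VB b hb v))
  rw [eq_bot_iff]
  intro c hc
  rw [mem_bot]
  obtain ⟨A, C, P, -⟩ := H.ex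
  refine K.faith c fun v => ?_
  rw [← dl_eq_zero K.two]
  exact H.FX_disj K P.A_mem P.C_mem P.A_le P.C_le P.ne (hV A P.A_mem P.A_le c hc v) (hV C P.C_mem P.C_le c hc v)

end AL

end Cfsg.Agent.Omega.NO1.Alpha

end
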