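import Cfsg.Agent.Mrg.Omega.NO1.Alpha.LevelUp
import Cfsg.Agent.Mrg.Omega.NO1.TH.OfFr
import Cfsg.Agent.Mrg.Omega.NO1.TH.Fin
import Cfsg.Agent.Mrg.Omega.NO1.Field.KillF


/-!
# FIN-ALPHA (bb OMEGA #21423 (D4), helper406): `Fin` (ALPHA+) on `V₁` gives `PlusAt`

* `exists_lift` : `V₁ ≤ V_m` as modules;
* `zl_le_of_PL` : a local group with (+) on `V₁ ≤ V_m` gives `V_m = V₁`;
* `plusAt_of_PL`, `plusAt_of_loc` (`Loc0` with `Q = 1` and (+) on `V₁ = V1 S P`);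
* `plusAt_of_fin` : `Fin` and not (+) leave `Fin` (BETA).  Input: `SC V_m F` (868's `sc_of`, `sc_two`); `nn_of_fr`.
-/

set_option autoImplicit false
set_option linter.unusedSectionVars false

namespace Cfsg.Agent.Omega.NO1.Alpha

open Subgroup Cfsg Cfsg.Agent.ZN Cfsg.Agent.Omega.MinPar Cfsg.Agent.Omega.Frame
open Cfsg.Agent.Omega.NO1.HE (dl dl_apply dl_one dl_eq_zero dl_comm dl_mul dl_self smul_eq mem_conj)
open Cfsg.Agent.Omega.NOne.Flat (Hyp Bad WW NN)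
open Cfsg.Agent.Omega.NOne.NearFF (c c_def)
open Cfsg.Agent.Omega.NO1.WRF.Irr
open scoped Pointwise

universe u

/-- `Rep` as `RepM` -/
def toM {G : Type u} [Group G] {S P V₁ : Subgroup G} {Y V : Type u} [Group Y] [AddCommGroup V]
    [DistribMulAction Y V] {T : Sylow 2 Y} {Mx : Subgroup Y} (R : Rep S P V₁ Y V T Mx) : RepM S P V₁ Y V T Mx where
  el := R.el
  mem := R.mem
  add := R.add
  inj := R.inj
  surj := R.surj
  ac := R.ac
  acs := R.acs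
  smul := R.smul
  two := R.two
  faith := R.faith
  mem_T := R.mem_T
  TM := R.TM
  Mne := R.Mne
  max := R.max

section lift

variable {G : Type u} [Group G] [Finite G] {S P V₁ V₂ : Subgroup G} {Y V : Type u} [Group Y] [AddCommGroup V]
  [DistribMulAction Y V] {T : Sylow 2 Y} {Mx : Subgroup Y} (R : RepM S P V₁ Y V T Mx)
  {Y' V' : Type u} [Group Y'] [AddCommGroup V']
  [DistribMulAction Y' V'] {T' : Sylow 2 Y'} {Mx' : Subgroup Y'} (R' : RepM S P V₂ Y' V' T' Mx')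

/-- `V₁ ≤ V₂` as modules -/
theorem exists_lift (h12 : V₁ ≤ V₂) : ∃ (π : Y' →* Y) (ι : V →+ V'), Lift π ι ∧ (∀ p, π (R'.ac p) = R.ac p) ∧
    ∀ m, R'.el (ι m) = R.el m := by
  have hker : R'.ac.ker ≤ R.ac.ker := by
    intro p hp
    rw [MonoidHom.mem_ker] at hp ⊢
    rw [R.ac_eq_one]
    exact centralizer_le h12 (R'.ac_eq_one.1 hp)
  obtain ⟨π, hπ⟩ : ∃ π : Y' →* Y, ∀ p, π (R'.ac p) = R.ac p :=
    ⟨MonoidHom.liftOfSurjective R'.ac R'.acs ⟨R.ac, hker⟩,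
      fun p => MonoidHom.liftOfRightInverse_comp_apply _ _ _ ⟨R.ac, hker⟩ p⟩
  have h1 : ∀ m : V, ∃ m' : V', R'.el m' = R.el m := fun m => R'.surj _ (h12 (R.mem m))
  choose f hf using h1
  refine ⟨π, AddMonoidHom.mk' f fun a b => R'.inj ?_, ⟨?_, ?_, ?_⟩, hπ, hf⟩
  · rw [R'.add, hf, hf, hf, R.add]
  · intro y
    obtain ⟨p, rfl⟩ := R.acs y
    exact ⟨R'.ac p, hπ p⟩
  · intro a b hab
    have h2 : f a = f b := hab
    apply R.inj
    rw [← hf, ← hf, h2]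
  · intro y m
    obtain ⟨p, rfl⟩ := R'.acs y
    change f (π (R'.ac p) • m) = R'.ac p • f m
    apply R'.inj
    rw [hf, hπ, R.smul, R'.smul, hf]

end lift

section fr

variable {G : Type u} [Group G] [Finite G] {S : Sylow 2 G} {P M F : Subgroup G} (h : Fr S P M F)
include h

local notation "VV" => zl (S : Subgroup G) M
local notation "EF" => NOne.Flat.EE (zl (S : Subgroup G) M) F
local notation "WF" => NOne.Flat.WW (zl (S : Subgroup G) M) F

variable {V₁ : Subgroup G} {Y V : Type u} [Group Y] [AddCommGroup V] [DistribMulAction Y V] {T : Sylow 2 Y}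
  {Mx : Subgroup Y}

/-- (PF) on `V_m` -/
theorem pf_VV (R : RepM (S : Subgroup G) P VV Y V T Mx) (hN : NN VV F ≤ centralizer (VV : Set G)) :
    (EF).relIndex VV ^ 2 ≤ Nat.card (R.im WF) := by
  have := R.finite
  have := R.finiteY
  have H := h.hyp
  have hWP : WF ≤ P := h.W_le_S.trans h.cfg.S_le
  have hm := mem_of_hyp R H hWP hN
  have hab : AB.Mem (R.im WF) (EX V (R.im WF)) (FX V (R.im WF)) :=
    { comm := hm.comm
      sq := hm.sq
      FE := hm.FE R.two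
      VB := hm.VB
      EB := fun b hb e he => he b hb
      FB := fun b hb f hf => hf b hb
      CB := fun v hv => hv
      inj := hm.inj
      surj := hm.surj
      ne := hm.ne }
  have h1 := hab.card_E R.two
  rw [EX_im R H hWP, FX_im R H hWP, R.card_ag NOne.Flat.Hyp.E_le_V, R.card_ag H.F_le_V,
    ← NOne.Flat.card_mul_relIndex' H.F_le_E] at h1
  have h2 := Nat.eq_of_mul_eq_mul_left Nat.card_pos h1
  rw [← h2]
  exact H.sq_le

/-- a local group with (+) on `V₁ ≤ V_m` gives `V_m ≤ V₁` -/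
theorem zl_le_of_PL (hN : NN VV F ≤ centralizer (VV : Set G)) (hSC : SC VV F) (h1V : V₁ ≤ VV)
    (R : RepM (S : Subgroup G) P V₁ Y V T Mx) {a : ℕ} {L A : Subgroup Y} {L₁ : Subgroup L} {Q : Sylow 2 L}
    (hL : PL V a L A L₁ Q) (hA : A ∈ mbs R WF) : VV ≤ V₁ := by
  have := R.finite
  have := R.finiteY
  obtain ⟨Y', V', _, _, _, _, _, T', Mx', ⟨R'⟩⟩ := exists_repM h
  obtain ⟨π, ι, l, hπ, hι⟩ := exists_lift R R' h1V
  have hWP : WF ≤ P := h.W_le_S.trans h.cfg.S_le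
  have K := cls_of_hyp R' h.hyp hWP hN hSC (hc_elem h)
  obtain ⟨y, hy⟩ := hA
  obtain ⟨p, rfl⟩ := R.acs y
  have hD : MulAut.conj (R'.ac p) • R'.im WF ∈ mbs R' WF := ⟨_, rfl⟩
  have him : (R'.im WF).map π = R.im WF := by
    ext x
    constructor
    · rintro ⟨_, ⟨s, hs, rfl⟩, rfl⟩
      rw [hπ]
      exact ⟨s, hs, rfl⟩
    · rintro ⟨s, hs, rfl⟩
      exact ⟨_, ⟨s, hs, rfl⟩, hπ s⟩
  have hDA : (MulAut.conj (R'.ac p) • R'.im WF).map π = A := by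
    rw [l.map_conj, hπ, him, ← hy]
  have hpf : (EF).relIndex VV ^ 2 ≤ Nat.card ↥(MulAut.conj (R'.ac p) • R'.im WF) := by
    rw [← Nat.card_congr (Subgroup.equivSMul (MulAut.conj (R'.ac p)) (R'.im WF)).toEquiv]
    exact pf_VV h R' hN
  have hs := l.surjective K hD hL hDA hpf
  intro v hv
  obtain ⟨m', rfl⟩ := R'.surj v hv
  obtain ⟨m, rfl⟩ := hs m'
  rw [hι]
  exact R.mem m

/-- `Inp` on `V_m` from a local group with (+) -/
theorem plusAt_of_PL' (hN : NN VV F ≤ centralizer (VV : Set G)) (hSC : SC VV F)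
    (R : RepM (S : Subgroup G) P VV Y V T Mx) {a : ℕ} {L A : Subgroup Y} {L₁ : Subgroup L} {Q : Sylow 2 L}
    (hL : PL V a L A L₁ Q) (hA : A ∈ mbs R WF) : PlusAt (S : Subgroup G) P EF := by
  have := R.finite
  have := R.finiteY
  have hWP : WF ≤ P := h.W_le_S.trans h.cfg.S_le
  have K := cls_of_hyp R h.hyp hWP hN hSC (hc_elem h)
  have ha : (EF).relIndex VV = a := by rw [← (K.mem A hA).ind, hL.mem.ind]
  subst ha
  exact plusAt_of_inp h R (inp_of_PL hL hA K.mem K.conj K.sc (mbs_one R _) (mbs_uniq h R) (mbs_soc h R) (mbs_noff h R))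

/-- `N_F ≤ C(V_m)` -/
theorem nn_of_fr : NN VV F ≤ centralizer (VV : Set G) := h.hyp.NN_le_of_NNOne h.hypF.nnOne

/-- **a local group with (+) on `V₁ ≤ V_m` gives (+)** -/
theorem plusAt_of_PL (hN : NN VV F ≤ centralizer (VV : Set G)) (hSC : SC VV F) (h1V : V₁ ≤ VV)
    (R : RepM (S : Subgroup G) P V₁ Y V T Mx) {a : ℕ} {L A : Subgroup Y} {L₁ : Subgroup L} {Q : Sylow 2 L}
    (hL : PL V a L A L₁ Q) (hA : A ∈ mbs R WF) : PlusAt (S : Subgroup G) P EF := by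
  obtain rfl := le_antisymm h1V (zl_le_of_PL h hN hSC h1V R hL hA)
  exact plusAt_of_PL' h hN hSC R hL hA

/-! ### `Fin` -/

variable (R : Rep (S : Subgroup G) P (V1 S P) Y V T Mx)

/-- **FIN-ALPHA**: the local group of `Fin` (ALPHA+) gives (+) -/
theorem plusAt_of_loc [Finite Y] (hN : NN VV F ≤ centralizer (VV : Set G)) (hSC : SC VV F)
    {L A : Subgroup Y} {L₁ : Subgroup L} {Q : Sylow 2 L} (hA : A ∈ TH.mb M F R) (hAL : A ≤ L)
    (hloc : AB.Loc0 (A.subgroupOf L) (AB.Ee V A) (AB.fx V A) ⊥ L₁ Q)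
    (hplus : ∀ x : L, ∀ v ∈ AB.Ee V A, v ≠ 0 → (∀ r ∈ Q, (x * r * x⁻¹) • v = v) → x ∈ L₁) :
    PlusAt (S : Subgroup G) P EF := by
  have hE : ∃ e ∈ AB.Ee V A, e ∉ AB.fx V A := by
    obtain ⟨y, rfl⟩ := hA
    obtain ⟨e, he, hf⟩ := SetLike.not_le_iff_exists.1 (TH.flatA h R).ne
    refine ⟨y • e, ?_, ?_⟩
    · rw [TH.mem_Ee_conj, inv_smul_smul, TH.Ee_im h R]
      exact he
    · rw [TH.mem_fx_conj, inv_smul_smul, TH.fx_im h R]
      exact hf
  exact plusAt_of_PL h hN hSC (TH.V1_le_VV h) (toM R) (PL.of_loc R.faith rfl hE hAL hloc hplus) hA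

/-- `Fin` (ALPHA+) gives (+); only `Fin` (BETA) is left -/
theorem plusAt_of_fin [Finite Y] (hN : NN VV F ≤ centralizer (VV : Set G)) (hSC : SC VV F)
    (hF : TH.Fin V (TH.mb M F R) T Mx) (hp : ¬ PlusAt (S : Subgroup G) P EF) :
    ∃ (L A : Subgroup Y) (Q : Subgroup L) (Q' : Sylow 2 L), A ∈ TH.mb M F R ∧ A ≤ L ∧ A ≤ (T : Subgroup Y) ∧
      ¬ L ≤ Mx ∧ (Q' : Subgroup L).map L.subtype ≤ (T : Subgroup Y) ∧
      AB.Loc0 (A.subgroupOf L) (AB.Ee V A) (AB.fx V A) Q (Mx.subgroupOf L) Q' ∧ AB.fx V L = ⊥ ∧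
      A.subgroupOf L ⊓ Q ≠ ⊥ := by
  obtain ⟨L, A, Q, Q', hA, hAL, hAT, hLM, hQT, hloc, hfx, h1 | ⟨h1, h2⟩⟩ := hF
  · exact ⟨L, A, Q, Q', hA, hAL, hAT, hLM, hQT, hloc, hfx, h1⟩
  · subst h1
    exact absurd (plusAt_of_loc h R hN hSC hA hAL hloc fun x v hv hv0 hf => mem_subgroupOf.2 (h2 x v hv hv0 hf)) hp

end fr

end Cfsg.Agent.Omega.NO1.Alpha
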