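import Cfsg.Agent.Mrg.Omega.NO1.Fr
import Cfsg.Agent.Mrg.Omega.NO1.WRF.Irr


/-!
# The module `V = zl S M` of a frame for the group induced by `P` (bb OMEGA #18722)

`RepM S P V Y M T Mx` is `Rep` without `O₂(Y) = 1`; it exists for every `P`-invariant elementary abelian `V ≥ V_P`
(`exists_repM`).
-/

set_option autoImplicit false
set_option linter.unusedSectionVars false

namespace Cfsg.Agent.Omega.NO1

open Subgroup Cfsg Cfsg.Agent.ZN Cfsg.Agent.Omega.MinPar Cfsg.Agent.Omega.Frame
open Cfsg.Agent.Omega.FFBr (XX pr Abs)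
open Cfsg.Agent.Omega.NoFF.LinesPlug (CC)

universe u

/-- `V` as a module for the group induced by `P`. -/
structure RepM {G : Type u} [Group G] (S P V : Subgroup G) (Y M : Type u) [Group Y] [AddCommGroup M]
    [DistribMulAction Y M] (T : Sylow 2 Y) (Mx : Subgroup Y) where
  el : M → G
  mem : ∀ m, el m ∈ V
  add : ∀ m n, el (m + n) = el m * el n
  inj : Function.Injective el
  surj : ∀ v ∈ V, ∃ m, el m = v
  ac : P →* Y
  acs : Function.Surjective ac
  smul : ∀ (p : P) (m : M), el (ac p • m) = p * el m * (p : G)⁻¹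
  two : ∀ m : M, m + m = 0
  faith : ∀ y : Y, (∀ m : M, y • m = m) → y = 1
  mem_T : ∀ y, y ∈ T ↔ ∃ t : P, (t : G) ∈ S ∧ ac t = y
  TM : (T : Subgroup Y) ≤ Mx
  Mne : Mx ≠ ⊤
  max : ∀ K : Subgroup Y, (T : Subgroup Y) ≤ K → K ≠ ⊤ → K ≤ Mx

namespace RepM

section

variable {G Y M : Type u} [Group G] {S P V : Subgroup G} [Group Y] [AddCommGroup M]
  [DistribMulAction Y M] {T : Sylow 2 Y} {Mx : Subgroup Y} (R : RepM S P V Y M T Mx)

theorem el_zero : R.el 0 = 1 := by
  have h := R.add 0 0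
  rw [add_zero] at h
  exact (mul_eq_left.1 h.symm)

theorem el_neg (m : M) : R.el (-m) = (R.el m)⁻¹ := by
  have h := R.add (-m) m
  rw [neg_add_cancel, R.el_zero] at h
  exact (inv_eq_of_mul_eq_one_left h.symm).symm

theorem el_eq_one {m : M} : R.el m = 1 ↔ m = 0 := by
  rw [← R.el_zero]
  exact R.inj.eq_iff

theorem el_sq (m : M) : R.el m * R.el m = 1 := by rw [← R.add, R.two, R.el_zero]

theorem el_inv (m : M) : (R.el m)⁻¹ = R.el m := inv_eq_of_mul_eq_one_right (R.el_sq m)

theorem el_comm (m n : M) : R.el m * R.el n = R.el n * R.el m := by rw [← R.add, add_comm, R.add]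

/-- the subgroup of the module -/
def ag (B : Subgroup G) : AddSubgroup M where
  carrier := {m | R.el m ∈ B}
  zero_mem' := by
    change R.el 0 ∈ B
    rw [R.el_zero]
    exact B.one_mem
  add_mem' := fun {a b} ha hb => by
    change R.el (a + b) ∈ B
    rw [R.add]
    exact B.mul_mem ha hb
  neg_mem' := fun {a} ha => by
    change R.el (-a) ∈ B
    rw [R.el_neg]
    exact B.inv_mem ha

theorem mem_ag {B : Subgroup G} {m : M} : m ∈ R.ag B ↔ R.el m ∈ B := Iff.rfl

/-- the image in `Y` of a subgroup of `G` -/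
def im (X : Subgroup G) : Subgroup Y := (X.subgroupOf P).map R.ac

theorem mem_im {X : Subgroup G} {y : Y} : y ∈ R.im X ↔ ∃ p : P, (p : G) ∈ X ∧ R.ac p = y := Iff.rfl

theorem mem_im' {X : Subgroup G} {y : Y} : y ∈ R.im X ↔ ∃ (p : G) (hp : p ∈ P), p ∈ X ∧ R.ac ⟨p, hp⟩ = y :=
  ⟨fun ⟨p, h1, h2⟩ => ⟨p, p.2, h1, h2⟩, fun ⟨p, hp, h1, h2⟩ => ⟨⟨p, hp⟩, h1, h2⟩⟩

theorem im_mono {X X' : Subgroup G} (h : X ≤ X') : R.im X ≤ R.im X' := by
  rintro _ ⟨p, hp, rfl⟩
  exact ⟨p, h hp, rfl⟩

theorem im_isPGroup {X : Subgroup G} (hX : IsPGroup 2 X) : IsPGroup 2 (R.im X) := by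
  rintro ⟨_, p, hp, rfl⟩
  obtain ⟨k, hk⟩ := hX ⟨p, hp⟩
  refine ⟨k, Subtype.ext ?_⟩
  have h1 : p ^ 2 ^ k = 1 := Subtype.ext (show (p : G) ^ 2 ^ k = 1 from congrArg Subtype.val hk)
  change R.ac p ^ 2 ^ k = 1
  rw [← map_pow, h1, map_one]

theorem im_le_T {X : Subgroup G} (hX : X ≤ S) : R.im X ≤ T := by
  rintro _ ⟨p, hp, rfl⟩
  exact (R.mem_T _).2 ⟨p, hX hp, rfl⟩

include R in
theorem faithfulSMul : FaithfulSMul Y M where
  eq_of_smul_eq_smul := by
    intro a b h
    have h1 : b⁻¹ * a = 1 := R.faith _ fun m => by rw [mul_smul, h m, inv_smul_smul]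
    exact (inv_mul_eq_one.1 h1).symm

include R in
theorem ext_y {y y' : Y} (h : ∀ m : M, y • m = y' • m) : y = y' := by
  have h1 : y'⁻¹ * y = 1 := R.faith _ fun m => by rw [mul_smul, h, inv_smul_smul]
  exact (inv_mul_eq_one.1 h1).symm

include R in
theorem finite [Finite G] : Finite M := Finite.of_injective R.el R.inj

include R in
theorem finiteY [Finite G] : Finite Y := Finite.of_surjective R.ac R.acs

theorem ac_eq_one {p : P} : R.ac p = 1 ↔ (p : G) ∈ centralizer (V : Set G) := by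
  constructor
  · intro h
    rw [mem_centralizer_iff]
    intro v hv
    obtain ⟨m, rfl⟩ := R.surj v hv
    have h1 := R.smul p m
    rw [h, one_smul] at h1
    calc R.el m * p = (p * R.el m * (p : G)⁻¹) * p := by rw [← h1]
      _ = p * R.el m := by group
  · intro h
    refine R.faith _ fun m => R.inj ?_
    rw [R.smul, ← mem_centralizer_iff.1 h _ (R.mem m), mul_inv_cancel_right]

theorem card_ag {B : Subgroup G} (hB : B ≤ V) : Nat.card (R.ag B) = Nat.card B := by
  refine Nat.card_congr (Equiv.ofBijective (fun m : R.ag B => (⟨R.el m, m.2⟩ : B)) ⟨?_, ?_⟩)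
  · intro a b hab
    exact Subtype.ext (R.inj (congrArg Subtype.val hab))
  · rintro ⟨x, hx⟩
    obtain ⟨m, rfl⟩ := R.surj x (hB hx)
    exact ⟨⟨m, hx⟩, rfl⟩

include R in
theorem card_M : Nat.card M = Nat.card V := by
  refine Nat.card_congr (Equiv.ofBijective (fun m : M => (⟨R.el m, R.mem m⟩ : V)) ⟨?_, ?_⟩)
  · intro a b hab
    exact R.inj (congrArg Subtype.val hab)
  · rintro ⟨x, hx⟩
    obtain ⟨m, rfl⟩ := R.surj x hx
    exact ⟨m, rfl⟩

end

end RepM

section exist

variable {G : Type u} [Group G] [Finite G] {S : Sylow 2 G} {P V : Subgroup G}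

/-- The module. -/
theorem Cfg.exists_repM (h : Cfg S P) (hVP : zl (S : Subgroup G) P ≤ V) (hN : P ≤ normalizer (V : Set G))
    (hc : ∀ v ∈ V, ∀ w ∈ V, v * w = w * v) (hsq : ∀ v ∈ V, v * v = 1) :
    ∃ (Y M : Type u) (_ : Group Y) (_ : Finite Y) (_ : AddCommGroup M) (_ : Finite M)
      (_ : DistribMulAction Y M) (T : Sylow 2 Y) (Mx : Subgroup Y),
      Nonempty (RepM (S : Subgroup G) P V Y M T Mx) := by
  have : Fact (Nat.Prime 2) := ⟨Nat.prime_two⟩
  have hc' : ∀ v w : V, v * w = w * v := fun v w => Subtype.ext (hc v v.2 w w.2)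
  obtain ⟨M₀, hM₀, hM₁⟩ := h.par.toIsMinPar.exists_max
  -- the Sylow subgroup
  let T₀ : Sylow 2 P := S.subtype h.S_le
  let T : Sylow 2 (XX hN) := T₀.mapSurjective (FFBr.pr_surjective hN)
  have hT : ∀ y, y ∈ T ↔ ∃ t : P, (t : G) ∈ (S : Subgroup G) ∧ pr hN t = y := by
    intro y
    change y ∈ ((T₀.mapSurjective (FFBr.pr_surjective hN) : Sylow 2 (XX hN)) : Subgroup (XX hN)) ↔ _
    rw [Sylow.coe_mapSurjective]
    rfl
  have hSM : (S : Subgroup G) ≤ M₀ := by
    have h1 := hM₁ (S : Subgroup G) le_rfl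
    refine h1 (lt_of_le_of_ne h.S_le fun h2 => ?_)
    exact h.par.toIsMinPar.ne h2
  -- `C_P(V) ≤ M₀`
  have hCM : P ⊓ centralizer (V : Set G) ≤ M₀ := by
    have hc2 : ¬ P ≤ centralizer (zl (S : Subgroup G) P : Set G) := by
      intro h1
      exact h.one.star.not_zc ((h1.trans (centralizer_le h.Z_le_V)).trans (centralizer_le_normalizer _))
    have h1 := FFBr.sup_ne hc2
    have h2 : (S : Subgroup G) ⊔ (P ⊓ centralizer (zl (S : Subgroup G) P : Set G)) ≤ M₀ := by
      refine hM₁ _ le_sup_left (lt_of_le_of_ne (sup_le h.S_le inf_le_left) fun h2 => h1 ?_)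
      have e1 : ((S : Subgroup G) ⊔ (P ⊓ centralizer (zl (S : Subgroup G) P : Set G))).subgroupOf P =
          (S : Subgroup G).subgroupOf P ⊔
            (P ⊓ centralizer (zl (S : Subgroup G) P : Set G)).subgroupOf P :=
        subgroupOf_sup h.S_le inf_le_left
      rw [h2, subgroupOf_self, inf_subgroupOf_left] at e1
      rw [sup_comm, ← e1]
    refine le_trans ?_ (le_sup_right.trans h2)
    exact inf_le_inf_left _ (centralizer_le hVP)
  refine ⟨XX hN, AV V hc', inferInstance, inferInstance, inferInstance,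
    inferInstanceAs (Finite V), inferInstance, T, (M₀.subgroupOf P).map (pr hN), ⟨?_⟩⟩
  exact
    { el := fun m => ((Additive.toMul m : V) : G)
      mem := fun m => (Additive.toMul m : V).2
      add := fun m n => rfl
      inj := fun a b hab => by
        have : (Additive.toMul a : V) = Additive.toMul b := Subtype.ext hab
        exact congrArg Additive.ofMul this
      surj := fun v hv => ⟨Additive.ofMul (⟨v, hv⟩ : V), rfl⟩
      ac := pr hN
      acs := FFBr.pr_surjective hN
      smul := fun p m => rfl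
      two := fun m => congrArg Additive.ofMul (Subtype.ext (hsq _ (Additive.toMul m : V).2))
      faith := fun y hy => by
        apply Subtype.ext
        ext v
        have h1 := hy (Additive.ofMul v)
        exact congrArg (fun m : AV V hc' => ((Additive.toMul m : V) : G)) h1
      mem_T := hT
      TM := by
        intro y hy
        obtain ⟨t, ht, rfl⟩ := (hT y).1 hy
        exact ⟨t, hSM ht, rfl⟩
      Mne := by
        intro h1
        apply hM₀.ne
        apply le_antisymm hM₀.le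
        intro p hp
        have h2 : pr hN ⟨p, hp⟩ ∈ (M₀.subgroupOf P).map (pr hN) := by rw [h1]; trivial
        obtain ⟨q, hq, hqp⟩ := h2
        have h3 : pr hN (q⁻¹ * ⟨p, hp⟩) = 1 := by rw [map_mul, map_inv, hqp, inv_mul_cancel]
        have h4 := (FFBr.pr_eq_one hN).1 h3
        have h5 : (q : G)⁻¹ * p ∈ M₀ := hCM ⟨P.mul_mem (P.inv_mem q.2) hp, h4⟩
        have h6 : (q : G) * ((q : G)⁻¹ * p) ∈ M₀ := M₀.mul_mem hq h5
        rwa [mul_inv_cancel_left] at h6
      max := by
        intro K hK hK1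
        have h1 : (S : Subgroup G) ≤ (K.comap (pr hN)).map P.subtype := by
          intro s hs
          exact ⟨⟨s, h.S_le hs⟩, hK ((hT _).2 ⟨⟨s, h.S_le hs⟩, hs, rfl⟩), rfl⟩
        have h2 : (K.comap (pr hN)).map P.subtype < P := by
          refine lt_of_le_of_ne (map_subtype_le _) fun h2 => hK1 ?_
          rw [eq_top_iff]
          intro y _
          obtain ⟨⟨p, hp⟩, rfl⟩ := FFBr.pr_surjective hN y
          have hp' := hp
          rw [← h2] at hp'
          obtain ⟨q, hq, hqp⟩ := hp'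
          have h3 : q = ⟨p, hp⟩ := Subtype.ext hqp
          rw [h3] at hq
          exact hq
        have h3 := hM₁ _ h1 h2
        intro y hy
        obtain ⟨p, rfl⟩ := FFBr.pr_surjective hN y
        exact ⟨p, h3 ⟨p, hy, rfl⟩, rfl⟩ }

end exist

end Cfsg.Agent.Omega.NO1
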